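/-
Linear maps of a finite field extension as sums of automorphisms; groups of skew maps stable under scaling.
-/
import Mathlib.FieldTheory.Finite.GaloisField
import Mathlib.FieldTheory.Finite.Trace
import Mathlib.RingTheory.Trace.Basic
import Mathlib.FieldTheory.Galois.Basic
import Mathlib.Algebra.CharP.CharAndCard

set_option autoImplicit false
set_option linter.all false

namespace CfsgLib.Classical22.OrthField.PrimeDeg

open Polynomial

variable {F : Type*} [Field F] {K : Type*} [Field K] [Algebra F K] [Fintype K] [FiniteDimensional F K]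

/-- The map from coefficient functions to linear maps. -/
noncomputable def gsumL : ((K ≃ₐ[F] K) → K) →ₗ[K] (K →ₗ[F] K) where
  toFun a := ∑ τ, a τ • τ.toLinearMap
  map_add' a b := by simp [add_smul, Finset.sum_add_distrib]
  map_smul' c a := by simp [Finset.smul_sum, smul_smul]

lemma gsumL_apply (a : (K ≃ₐ[F] K) → K) (x : K) : gsumL a x = ∑ τ, a τ * τ x := by
  simp [gsumL]

lemma gsumL_bijective : Function.Bijective (gsumL (F := F) (K := K)) := by
  classical
  haveI : Finite F := Finite.of_injective _ (algebraMap F K).injective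
  have hinj : Function.Injective (gsumL (F := F) (K := K)) := (injective_iff_map_eq_zero _).2 fun a ha => by
    have h := (linearIndependent_toLinearMap F K K).comp (fun τ : K ≃ₐ[F] K => (τ : K →ₐ[F] K))
      (fun τ τ' h => AlgEquiv.ext fun x => DFunLike.congr_fun h x)
    exact funext (Fintype.linearIndependent_iff.1 h a ha)
  refine ⟨hinj, (LinearMap.injective_iff_surjective_of_finrank_eq_finrank ?_).1 hinj⟩
  rw [Module.finrank_fintype_fun_eq_card, Module.finrank_linearMap_self, ← Nat.card_eq_fintype_card,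
    IsGalois.card_aut_eq_finrank]

/-- The coefficients of a linear map. -/
noncomputable def coef (X : K →ₗ[F] K) : (K ≃ₐ[F] K) → K :=
  (LinearEquiv.ofBijective gsumL gsumL_bijective).symm X

lemma gsumL_coef (X : K →ₗ[F] K) : gsumL (coef X) = X :=
  (LinearEquiv.ofBijective gsumL gsumL_bijective).apply_symm_apply X

lemma coef_gsumL (a : (K ≃ₐ[F] K) → K) : coef (gsumL (F := F) a) = a :=
  (LinearEquiv.ofBijective gsumL gsumL_bijective).symm_apply_apply a

lemma apply_eq_sum (X : K →ₗ[F] K) (x : K) : X x = ∑ τ, coef X τ * τ x := by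
  rw [← gsumL_apply, gsumL_coef]

lemma coef_unique {X : K →ₗ[F] K} {a : (K ≃ₐ[F] K) → K} (h : ∀ x, X x = ∑ τ, a τ * τ x) : coef X = a := by
  rw [show X = gsumL a from LinearMap.ext fun x => by rw [h, gsumL_apply], coef_gsumL]

lemma coef_inj {X Y : K →ₗ[F] K} (h : ∀ τ, coef X τ = coef Y τ) : X = Y := by
  rw [← gsumL_coef X, ← gsumL_coef Y, funext h]

lemma coef_add (X Y : K →ₗ[F] K) (τ : K ≃ₐ[F] K) : coef (X + Y) τ = coef X τ + coef Y τ := by
  simp [coef]

lemma coef_sub (X Y : K →ₗ[F] K) (τ : K ≃ₐ[F] K) : coef (X - Y) τ = coef X τ - coef Y τ := by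
  simp [coef]

lemma coef_neg (X : K →ₗ[F] K) (τ : K ≃ₐ[F] K) : coef (-X) τ = -coef X τ := by
  simp [coef]

lemma coef_zero (τ : K ≃ₐ[F] K) : coef (0 : K →ₗ[F] K) τ = 0 := by
  simp [coef]

lemma coef_smul (c : K) (X : K →ₗ[F] K) (τ : K ≃ₐ[F] K) : coef (c • X) τ = c * coef X τ := by
  simp [coef]

/-- A single term. -/
noncomputable def mono (τ : K ≃ₐ[F] K) (a : K) : K →ₗ[F] K := a • τ.toLinearMap

lemma mono_apply (τ : K ≃ₐ[F] K) (a x : K) : mono τ a x = a * τ x := rfl

open scoped Classical in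
lemma coef_mono (τ : K ≃ₐ[F] K) (a : K) : coef (mono τ a) = Pi.single τ a :=
  coef_unique fun x => by
    rw [mono_apply, Finset.sum_eq_single τ (fun ω _ h => by rw [Pi.single_eq_of_ne h, zero_mul])
      (fun h => absurd (Finset.mem_univ _) h), Pi.single_eq_same]

lemma coef_mulLeft_one (c : K) : coef (LinearMap.mulLeft F c) 1 = c := by
  classical
  rw [show LinearMap.mulLeft F c = mono 1 c from LinearMap.ext fun x => by rw [mono_apply]; rfl, coef_mono,
    Pi.single_eq_same]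

lemma coef_comp_mono (D : K →ₗ[F] K) (t : K ≃ₐ[F] K) (a : K) (x : K ≃ₐ[F] K) :
    coef (D ∘ₗ mono t a) x = coef D (x * t⁻¹) * (x * t⁻¹) a := by
  refine congrFun (coef_unique (a := fun x => coef D (x * t⁻¹) * (x * t⁻¹) a) fun k => ?_) x
  rw [LinearMap.comp_apply, mono_apply, apply_eq_sum D]
  refine Fintype.sum_equiv (Equiv.mulRight t) _ _ fun τ => ?_
  simp only [Equiv.coe_mulRight, mul_inv_cancel_right, map_mul, AlgEquiv.mul_apply]
  ring

/-- The adjoint for the trace form. -/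
noncomputable def adjT (X : K →ₗ[F] K) : K →ₗ[F] K := gsumL fun τ => τ (coef X τ⁻¹)

lemma coef_adjT (X : K →ₗ[F] K) (τ : K ≃ₐ[F] K) : coef (adjT X) τ = τ (coef X τ⁻¹) := by
  rw [adjT, coef_gsumL]

lemma trace_adjT (X : K →ₗ[F] K) (x y : K) :
    Algebra.trace F K (X x * y) = Algebra.trace F K (x * adjT X y) := by
  rw [apply_eq_sum X x, apply_eq_sum (adjT X) y, Finset.sum_mul, Finset.mul_sum, map_sum, map_sum]
  refine Fintype.sum_equiv (Equiv.inv _) _ _ fun τ => ?_
  rw [Equiv.inv_apply, coef_adjT, inv_inv, ← Algebra.trace_eq_of_algEquiv τ⁻¹]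
  simp only [map_mul, AlgEquiv.aut_inv, AlgEquiv.symm_apply_apply]
  congr 1
  ring

lemma trace_ext' {a b : K} (h : ∀ k, Algebra.trace F K (k * a) = Algebra.trace F K (k * b)) : a = b :=
  sub_eq_zero.1 ((traceForm_nondegenerate F K).1 _ fun k => by
    rw [Algebra.traceForm_apply, mul_comm, mul_sub, map_sub, h, sub_self])

lemma adjT_unique {X Y : K →ₗ[F] K}
    (h : ∀ x y, Algebra.trace F K (X x * y) = Algebra.trace F K (x * Y y)) : adjT X = Y :=
  LinearMap.ext fun y => trace_ext' fun x => by rw [← trace_adjT, h]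

lemma trace_adjT' (X : K →ₗ[F] K) (x y : K) :
    Algebra.trace F K (adjT X x * y) = Algebra.trace F K (x * X y) := by
  rw [mul_comm, ← trace_adjT, mul_comm]

lemma adjT_adjT (X : K →ₗ[F] K) : adjT (adjT X) = X := adjT_unique (trace_adjT' X)

lemma adjT_comp (X Y : K →ₗ[F] K) : adjT (X ∘ₗ Y) = adjT Y ∘ₗ adjT X :=
  adjT_unique fun x y => by rw [LinearMap.comp_apply, trace_adjT, trace_adjT, LinearMap.comp_apply]

lemma adjT_add (X Y : K →ₗ[F] K) : adjT (X + Y) = adjT X + adjT Y :=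
  adjT_unique fun x y => by
    rw [LinearMap.add_apply, LinearMap.add_apply, add_mul, mul_add, map_add, map_add, trace_adjT, trace_adjT]

lemma adjT_neg (X : K →ₗ[F] K) : adjT (-X) = -adjT X :=
  adjT_unique fun x y => by
    rw [LinearMap.neg_apply, LinearMap.neg_apply, neg_mul, mul_neg, map_neg, map_neg, trace_adjT]

lemma adjT_sub (X Y : K →ₗ[F] K) : adjT (X - Y) = adjT X - adjT Y := by
  rw [sub_eq_add_neg, adjT_add, adjT_neg, ← sub_eq_add_neg]

lemma adjT_zero : adjT (0 : K →ₗ[F] K) = 0 := adjT_unique fun x y => by simp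

lemma adjT_id : adjT (LinearMap.id : K →ₗ[F] K) = LinearMap.id := adjT_unique fun x y => rfl

lemma adjT_mulLeft (c : K) : adjT (LinearMap.mulLeft F c) = LinearMap.mulLeft F c :=
  adjT_unique fun x y => by rw [LinearMap.mulLeft_apply, LinearMap.mulLeft_apply, mul_comm c x, mul_assoc]

lemma adjT_smulF (a : F) (X : K →ₗ[F] K) : adjT (a • X) = a • adjT X :=
  adjT_unique fun x y => by
    rw [LinearMap.smul_apply, LinearMap.smul_apply, smul_mul_assoc, mul_smul_comm, map_smul, map_smul, trace_adjT]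

/-- Skew for the trace form. -/
def IsSkew (X : K →ₗ[F] K) : Prop := adjT X = -X

lemma IsSkew.coef_inv {X : K →ₗ[F] K} (h : IsSkew X) (τ : K ≃ₐ[F] K) : coef X τ⁻¹ = -τ⁻¹ (coef X τ) := by
  have := congrArg (fun Y => coef Y τ⁻¹) h
  simp only [coef_adjT, coef_neg, inv_inv] at this
  rw [this, neg_neg]

lemma isSkew_sub_adjT (Y : K →ₗ[F] K) : IsSkew (Y - adjT Y) := by
  rw [IsSkew, adjT_sub, adjT_adjT, neg_sub]

lemma two_ne_zero' (h2 : (2 : F) ≠ 0) : (2 : K) ≠ 0 := fun h => h2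
  ((algebraMap F K).injective (by rw [map_ofNat, h, map_zero]))

lemma IsSkew.coef_one {X : K →ₗ[F] K} (h : IsSkew X) (h2 : (2 : F) ≠ 0) : coef X 1 = 0 := by
  have := h.coef_inv 1
  rw [inv_one, AlgEquiv.one_apply] at this
  exact (mul_eq_zero.1 (show (2 : K) * coef X 1 = 0 by linear_combination this)).resolve_left (two_ne_zero' h2)

/-- The skew map with one given coefficient. -/
noncomputable def pairSkew (τ : K ≃ₐ[F] K) (b : K) : K →ₗ[F] K := mono τ b - adjT (mono τ b)

lemma pairSkew_skew (τ : K ≃ₐ[F] K) (b : K) : IsSkew (pairSkew τ b) := isSkew_sub_adjT _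

open scoped Classical in
lemma coef_pairSkew (τ : K ≃ₐ[F] K) (b : K) (x : K ≃ₐ[F] K) :
    coef (pairSkew τ b) x = (if x = τ then b else 0) - (if x = τ⁻¹ then τ⁻¹ b else 0) := by
  rw [pairSkew, coef_sub, coef_adjT, coef_mono]
  congr 1
  · rw [Pi.single_apply]
  · rw [Pi.single_apply]
    by_cases hx : x = τ⁻¹
    · subst hx; simp
    · rw [if_neg fun h => hx (by rw [← h, inv_inv]), if_neg hx, map_zero]

lemma pairSkew_add (τ : K ≃ₐ[F] K) (b c : K) : pairSkew τ (b + c) = pairSkew τ b + pairSkew τ c := by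
  rw [pairSkew, pairSkew, pairSkew, show mono τ (b + c) = mono τ b + mono τ c from add_smul b c _, adjT_add]
  abel

lemma pairSkew_zero (τ : K ≃ₐ[F] K) : pairSkew τ (0 : K) = 0 := by
  rw [pairSkew, show mono τ (0 : K) = 0 from zero_smul K _, adjT_zero, sub_zero]

/-- Scaling on both sides. -/
noncomputable def sc (c : K) (X : K →ₗ[F] K) : K →ₗ[F] K := LinearMap.mulLeft F c ∘ₗ X ∘ₗ LinearMap.mulLeft F c

lemma coef_sc (c : K) (X : K →ₗ[F] K) (τ : K ≃ₐ[F] K) : coef (sc c X) τ = c * τ c * coef X τ := by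
  refine congrFun (coef_unique (a := fun τ => c * τ c * coef X τ) fun x => ?_) τ
  rw [sc, LinearMap.comp_apply, LinearMap.comp_apply, LinearMap.mulLeft_apply, LinearMap.mulLeft_apply,
    apply_eq_sum X, Finset.mul_sum]
  exact Finset.sum_congr rfl fun ω _ => by rw [map_mul]; ring

section Exponents

variable {p : ℕ} [Fact p.Prime] [CharP K p]

omit [Algebra F K] [FiniteDimensional F K] in
/-- Every ring automorphism is a power of the absolute Frobenius. -/
theorem exists_exp (α : K ≃+* K) : ∃ i N, Fintype.card K = p ^ N ∧ i < N ∧ ∀ x, α x = x ^ p ^ i := by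
  letI : Algebra (ZMod p) K := ZMod.algebra K p
  haveI : FiniteDimensional (ZMod p) K := Module.Finite.of_finite
  let α' : K ≃ₐ[ZMod p] K := AlgEquiv.ofRingEquiv (f := α) fun c => by
    obtain ⟨n, rfl⟩ : ∃ n : ℕ, (n : ZMod p) = c := ⟨c.val, ZMod.natCast_zmod_val c⟩
    rw [map_natCast, map_natCast]
  obtain ⟨n, hn⟩ := (FiniteField.bijective_frobeniusAlgEquivOfAlgebraic_pow (ZMod p) K).2 α'
  refine ⟨n.1, Module.finrank (ZMod p) K, by rw [Module.card_eq_pow_finrank (K := ZMod p), ZMod.card], n.2,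
    fun x => ?_⟩
  show α' x = _
  rw [← hn]
  show ((FiniteField.frobeniusAlgEquivOfAlgebraic (ZMod p) K) ^ n.1) x = _
  rw [AlgEquiv.coe_pow, FiniteField.coe_frobeniusAlgEquivOfAlgebraic, pow_iterate, Fintype.card_eq_nat_card,
    Nat.card_zmod]

omit [Algebra F K] [FiniteDimensional F K] [Fact p.Prime] [CharP K p] [Field K] [Fintype K] [Field F] in
lemma exp_inj {p i j k l : ℕ} (hp : 1 < p) (hij : i < j) (hkl : k < l) (h : p ^ i + p ^ j = p ^ k + p ^ l) :
    i = k ∧ j = l := by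
  have key : ∀ {i j k l : ℕ}, i < j → k < l → p ^ i + p ^ j = p ^ k + p ^ l → i ≤ k := by
    intro i j k l hij hkl h
    by_contra hc
    push Not at hc
    have h1 : p ^ (k + 1) ∣ p ^ i + p ^ j := dvd_add (pow_dvd_pow p hc) (pow_dvd_pow p (by omega))
    rw [h, Nat.dvd_add_left (pow_dvd_pow p hkl)] at h1
    exact absurd (Nat.le_of_dvd (pow_pos (by omega) _) h1) (not_le.2 (Nat.pow_lt_pow_right hp (Nat.lt_succ_self k)))
  have hik := le_antisymm (key hij hkl h) (key hkl hij h.symm)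
  subst hik
  exact ⟨rfl, Nat.pow_right_injective hp (Nat.add_left_cancel h)⟩

omit [Algebra F K] [FiniteDimensional F K] in
lemma exp_bound (hp3 : 3 ≤ p) {i j N : ℕ} (h27 : 27 ≤ p ^ N) (hi : i < N) (hj : j < N) (hij : i < j) :
    2 * (p ^ i + p ^ j) + 1 < p ^ N := by
  obtain ⟨M, rfl⟩ : ∃ M, N = M + 2 := ⟨N - 2, by omega⟩
  have h1 : p ^ i ≤ p ^ M := Nat.pow_le_pow_right (by omega) (by omega)
  have h2 : p ^ j ≤ p * p ^ M := by
    rw [← pow_succ']; exact Nat.pow_le_pow_right (by omega) (by omega)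
  have h3 : 3 * (p * p ^ M) ≤ p ^ (M + 2) := by
    rw [pow_add, sq, mul_comm (p ^ M), mul_assoc]; exact Nat.mul_le_mul_right _ hp3
  have h4 : 3 * p ^ M ≤ p * p ^ M := Nat.mul_le_mul_right _ hp3
  rcases Nat.eq_zero_or_pos M with rfl | hM
  · rw [pow_zero, mul_one] at h2
    rw [pow_zero] at h1
    rw [zero_add, sq] at h27 ⊢
    have h6 : 6 ≤ p := by nlinarith
    nlinarith
  have h5 : 3 ≤ p ^ M := hp3.trans (Nat.le_self_pow hM.ne' p)
  omega

omit [Algebra F K] [FiniteDimensional F K] in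
/-- A product of two different conjugates of the square of a generator determines the two. -/
theorem pair_unique (hp3 : 3 ≤ p) (h27 : 27 ≤ Fintype.card K) {s : Kˣ} (hs : orderOf s = Fintype.card K - 1) {α β γ δ : K ≃+* K}
    (hab : α ≠ β) (hcd : γ ≠ δ) (h : α ((s : K) * s) * β ((s : K) * s) = γ ((s : K) * s) * δ ((s : K) * s)) :
    (α = γ ∧ β = δ) ∨ (α = δ ∧ β = γ) := by
  obtain ⟨i, N, hN, hi, hα⟩ := exists_exp (p := p) α
  have hex : ∀ α : K ≃+* K, ∃ i < N, ∀ x, α x = x ^ p ^ i := fun α => by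
    obtain ⟨i, N', hN', hi, hα⟩ := exists_exp (p := p) α
    rw [hN, (Nat.pow_right_injective (by omega : 2 ≤ p)).eq_iff] at hN'
    exact ⟨i, hN' ▸ hi, hα⟩
  obtain ⟨j, hj, hβ⟩ := hex β
  obtain ⟨k, hk, hγ⟩ := hex γ
  obtain ⟨l, hl, hδ⟩ := hex δ
  have hij : i ≠ j := fun e => hab (RingEquiv.ext fun x => by rw [hα, hβ, e])
  have hkl : k ≠ l := fun e => hcd (RingEquiv.ext fun x => by rw [hγ, hδ, e])
  have hb : ∀ a b : ℕ, a < N → b < N → a ≠ b → 2 * (p ^ a + p ^ b) < orderOf s := fun a b ha hb hne => by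
    rw [hs, hN]
    rcases lt_or_gt_of_ne hne with h | h
    · have := exp_bound hp3 (hN ▸ h27) ha hb h; omega
    · have := exp_bound hp3 (hN ▸ h27) hb ha h; omega
  rw [hα, hβ, hγ, hδ, ← pow_add, ← pow_add, ← sq, ← pow_mul, ← pow_mul] at h
  have hu : s ^ (2 * (p ^ i + p ^ j)) = s ^ (2 * (p ^ k + p ^ l)) := Units.ext (by push_cast; exact h)
  have e : p ^ i + p ^ j = p ^ k + p ^ l := Nat.eq_of_mul_eq_mul_left two_pos
    (pow_injOn_Iio_orderOf (hb i j hi hj hij) (hb k l hk hl hkl) hu)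
  have hp1 : 1 < p := by omega
  have fin : ∀ {a c : ℕ} {f g : K ≃+* K}, a = c → (∀ x, f x = x ^ p ^ a) → (∀ x, g x = x ^ p ^ c) → f = g :=
    fun h hf hg => RingEquiv.ext fun x => by rw [hf, hg, h]
  rcases lt_or_gt_of_ne hij with h1 | h1 <;> rcases lt_or_gt_of_ne hkl with h2 | h2
  · obtain ⟨a, b⟩ := exp_inj hp1 h1 h2 e
    exact Or.inl ⟨fin a hα hγ, fin b hβ hδ⟩
  · obtain ⟨a, b⟩ := exp_inj hp1 h1 h2 (by omega : _ = p ^ l + p ^ k)
    exact Or.inr ⟨fin a hα hδ, fin b hβ hγ⟩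
  · obtain ⟨a, b⟩ := exp_inj hp1 h1 h2 (by omega : p ^ j + p ^ i = _)
    exact Or.inr ⟨fin b hα hδ, fin a hβ hγ⟩
  · obtain ⟨a, b⟩ := exp_inj hp1 h1 h2 (by omega : p ^ j + p ^ i = p ^ l + p ^ k)
    exact Or.inl ⟨fin b hα hγ, fin a hβ hδ⟩

omit [Algebra F K] [FiniteDimensional F K] in
/-- The square of a generator times a conjugate is not one. -/
theorem scale_ne_one (hp3 : 3 ≤ p) (h27 : 27 ≤ Fintype.card K) {s : Kˣ} (hs : orderOf s = Fintype.card K - 1)
    (α : K ≃+* K) : (s : K) * s * α ((s : K) * s) ≠ 1 := fun h => by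
  obtain ⟨i, N, hN, hi, hα⟩ := exists_exp (p := p) α
  rw [hα, ← sq, ← pow_mul, ← pow_add] at h
  have hu : s ^ (2 + 2 * p ^ i) = 1 := Units.ext (by push_cast; exact h)
  have hle := Nat.le_of_dvd (by omega) (orderOf_dvd_of_pow_eq_one hu)
  rw [hs] at hle
  have h3 : 3 * p ^ i ≤ p ^ N := by
    refine le_trans (Nat.mul_le_mul_right _ hp3) ?_
    rw [← pow_succ']; exact Nat.pow_le_pow_right (by omega) (by omega)
  rw [← hN] at h3
  omega

end Exponents

lemma toRing_injective : Function.Injective fun τ : K ≃ₐ[F] K => (τ : K ≃+* K) := fun τ τ' h =>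
  AlgEquiv.ext fun x => RingEquiv.congr_fun h x

/-- A nontrivial automorphism in prime degree fixes only the ground field. -/
theorem mem_of_fixed (hr : (Module.finrank F K).Prime) {w : K ≃ₐ[F] K} (hw : w ≠ 1) {x : K} (hx : w x = x) :
    ∃ a : F, algebraMap F K a = x := by
  haveI : Finite F := Finite.of_injective _ (algebraMap F K).injective
  haveI : Fact (Module.finrank F K).Prime := ⟨hr⟩
  refine IntermediateField.mem_bot.1 ((IsGalois.mem_bot_iff_fixed x).2 fun τ => ?_)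
  have hmem : τ ∈ Subgroup.zpowers w := mem_zpowers_of_prime_card (IsGalois.card_aut_eq_finrank F K) hw
  obtain ⟨n, hn⟩ := Submonoid.mem_powers_iff _ _ |>.1 ((mem_powers_iff_mem_zpowers (x := w)).2 hmem)
  subst hn
  clear hmem
  induction n with
  | zero => rfl
  | succ n ih => rw [pow_succ, AlgEquiv.mul_apply, hx, ih]

/-- Automorphisms of a finite extension commute. -/
theorem gal_comm (a b : K ≃ₐ[F] K) : a * b = b * a := by
  haveI : Finite F := Finite.of_injective _ (algebraMap F K).injective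
  haveI : Fintype F := Fintype.ofFinite F
  obtain ⟨m, hm⟩ := (FiniteField.bijective_frobeniusAlgEquivOfAlgebraic_pow F K).2 a
  obtain ⟨n, hn⟩ := (FiniteField.bijective_frobeniusAlgEquivOfAlgebraic_pow F K).2 b
  rw [← hm, ← hn]
  exact pow_mul_comm _ _ _

/-- The size of an odd extension of odd degree. -/
theorem twenty_seven_le (hr : (Module.finrank F K).Prime) (hr2 : Module.finrank F K ≠ 2) (h2 : (2 : F) ≠ 0) :
    27 ≤ Fintype.card K := by
  haveI : Finite F := Finite.of_injective _ (algebraMap F K).injective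
  haveI : Fintype F := Fintype.ofFinite F
  have hF : 3 ≤ Fintype.card F := by
    by_contra hc
    have := Fintype.one_lt_card (α := F)
    haveI : Fact (Nat.Prime 2) := ⟨Nat.prime_two⟩
    haveI : CharP F 2 := charP_of_card_eq_prime (show Fintype.card F = 2 by omega)
    exact h2 CharTwo.two_eq_zero
  rw [Module.card_eq_pow_finrank (K := F) (V := K)]
  have := hr.two_le
  calc 27 = 3 ^ 3 := rfl
    _ ≤ Fintype.card F ^ 3 := Nat.pow_le_pow_left hF 3
    _ ≤ _ := Nat.pow_le_pow_right (by omega) (by omega)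

/-- A generator of the multiplicative group. -/
theorem exists_gen (K : Type*) [Field K] [Fintype K] : ∃ s : Kˣ, orderOf s = Fintype.card K - 1 := by
  classical
  obtain ⟨g, hg⟩ := IsCyclic.exists_ofOrder_eq_natCard (α := Kˣ)
  exact ⟨g, by rw [hg, Nat.card_eq_fintype_card, Fintype.card_units]⟩

variable (hr : (Module.finrank F K).Prime) (hr2 : Module.finrank F K ≠ 2) (h2 : (2 : F) ≠ 0)
include hr hr2 h2

/-- A group of skew maps stable under scaling contains each pair component of each member. -/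
theorem pair_mem {L : AddSubgroup (K →ₗ[F] K)} (hL : ∀ X ∈ L, IsSkew X)
    (hsc : ∀ X ∈ L, ∀ s : K, s ≠ 0 → sc (s * s) X ∈ L) {X : K →ₗ[F] K} (hX : X ∈ L) {τ : K ≃ₐ[F] K}
    (hτ : coef X τ ≠ 0) (b : K) : pairSkew τ b ∈ L := by
  classical
  haveI : Finite F := Finite.of_injective _ (algebraMap F K).injective
  haveI : Fact (Module.finrank F K).Prime := ⟨hr⟩
  obtain ⟨p, hp⟩ := CharP.exists K
  haveI hpf : Fact p.Prime := ⟨CharP.char_is_prime K p⟩
  have hp3 : 3 ≤ p := by
    have hp2 : p ≠ 2 := fun h => two_ne_zero' (K := K) h2 (by subst h; exact CharTwo.two_eq_zero)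
    have := hpf.out.two_le
    omega
  letI : Algebra (ZMod p) K := ZMod.algebra K p
  haveI : FiniteDimensional (ZMod p) K := Module.Finite.of_finite
  have h27 : 27 ≤ Fintype.card K := twenty_seven_le hr hr2 h2
  obtain ⟨s, hs⟩ := exists_gen K
  obtain ⟨χ, hχ⟩ : ∃ χ : (K ≃ₐ[F] K) → K, ∀ ω, χ ω = (s : K) * s * ω ((s : K) * s) := ⟨_, fun _ => rfl⟩
  have hτ1 : τ ≠ 1 := fun h => hτ (h ▸ (hL X hX).coef_one h2)
  have hττ : τ⁻¹ ≠ τ := fun h => by
    have ho := orderOf_eq_prime (p := 2) (x := τ) (by rw [sq]; nth_rewrite 1 [← h]; exact inv_mul_cancel τ) hτ1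
    have hd := orderOf_dvd_natCard τ
    rw [ho, IsGalois.card_aut_eq_finrank] at hd
    exact hr2 ((Nat.prime_dvd_prime_iff_eq Nat.prime_two hr).1 hd).symm
  -- polynomials in the scaling
  have hkey : ∀ (P : (ZMod p)[X]), ∀ Y ∈ L, gsumL (fun ω => aeval (χ ω) P * coef Y ω) ∈ L := by
    intro P
    induction P using Polynomial.induction_on with
    | C a =>
      intro Y hY
      obtain ⟨n, rfl⟩ : ∃ n : ℕ, (n : ZMod p) = a := ⟨a.val, ZMod.natCast_zmod_val a⟩
      rw [show gsumL (fun ω => aeval (χ ω) (C ((n : ZMod p))) * coef Y ω) = n • Y from LinearMap.ext fun x => by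
        rw [gsumL_apply, LinearMap.smul_apply, apply_eq_sum Y, Finset.smul_sum]
        refine Finset.sum_congr rfl fun ω _ => ?_
        rw [aeval_C, map_natCast, nsmul_eq_mul, mul_assoc]]
      exact L.nsmul_mem hY n
    | add P P' hP hP' =>
      intro Y hY
      simp only [map_add, add_mul]
      rw [show (fun ω => aeval (χ ω) P * coef Y ω + aeval (χ ω) P' * coef Y ω) =
        (fun ω => aeval (χ ω) P * coef Y ω) + fun ω => aeval (χ ω) P' * coef Y ω from rfl, map_add]
      exact L.add_mem (hP Y hY) (hP' Y hY)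
    | monomial n a ih =>
      intro Y hY
      have h := ih (sc ((s : K) * s) Y) (hsc Y hY s s.ne_zero)
      convert h using 2
      funext ω
      rw [coef_sc, hχ, pow_succ]
      simp only [map_mul, aeval_X, map_pow]
      ring
  obtain ⟨T, hT⟩ : ∃ T : Finset (K ≃ₐ[F] K), T = Finset.univ.filter fun ω => ω ≠ 1 ∧ ω ≠ τ ∧ ω ≠ τ⁻¹ := ⟨_, rfl⟩
  obtain ⟨P, hP⟩ : ∃ P : (ZMod p)[X], P = ∏ ω ∈ T, minpoly (ZMod p) (χ ω) := ⟨_, rfl⟩
  have hP0 : aeval (χ τ) P ≠ 0 := by
    rw [hP, map_prod, Finset.prod_ne_zero_iff]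
    intro ω hω h0
    rw [hT, Finset.mem_filter] at hω
    obtain ⟨σ, hσ⟩ := minpoly.exists_algEquiv_of_root' (Algebra.IsAlgebraic.isAlgebraic (χ ω)) h0
    have e : (σ : K ≃+* K) ((s : K) * s) * ((ω : K ≃+* K).trans (σ : K ≃+* K)) ((s : K) * s) =
        (RingEquiv.refl K) ((s : K) * s) * (τ : K ≃+* K) ((s : K) * s) := by
      rw [hχ, hχ, map_mul] at hσ
      exact hσ
    rcases pair_unique hp3 h27 hs (fun h => hω.2.1 (AlgEquiv.ext fun x => σ.injective (RingEquiv.congr_fun h x).symm))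
      (fun h => hτ1 (AlgEquiv.ext fun x => (RingEquiv.congr_fun h x).symm)) e with ⟨h1, h2'⟩ | ⟨h1, h2'⟩
    · exact hω.2.2.1 (toRing_injective (RingEquiv.ext fun x => by
        have := RingEquiv.congr_fun h2' x
        rwa [RingEquiv.trans_apply, h1] at this))
    · refine hω.2.2.2 (eq_inv_of_mul_eq_one_right (toRing_injective (RingEquiv.ext fun x => ?_)))
      have := RingEquiv.congr_fun h2' x
      rwa [RingEquiv.trans_apply, h1] at this
  obtain ⟨Y, hY, hYc⟩ : ∃ Y ∈ L, ∀ ω, coef Y ω = aeval (χ ω) P * coef X ω :=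
    ⟨_, hkey P X hX, fun ω => by rw [coef_gsumL]⟩
  obtain ⟨b₀, hb₀⟩ : ∃ b₀, b₀ = coef Y τ := ⟨_, rfl⟩
  have hb₀0 : b₀ ≠ 0 := by rw [hb₀, hYc]; exact mul_ne_zero hP0 hτ
  have hYeq : Y = pairSkew τ b₀ := coef_inj fun x => by
    rw [coef_pairSkew]
    by_cases h1 : x = τ
    · rw [h1, if_pos rfl, if_neg hττ.symm, hb₀, sub_zero]
    rw [if_neg h1]
    by_cases h3 : x = τ⁻¹
    · rw [h3, if_pos rfl, (hL Y hY).coef_inv, hb₀, zero_sub]
    rw [if_neg h3, sub_zero, hYc]
    by_cases h4 : x = 1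
    · rw [h4, (hL X hX).coef_one h2, mul_zero]
    · rw [hP, map_prod, Finset.prod_eq_zero (i := x) (by rw [hT]; simp [h1, h3, h4]) (minpoly.aeval _ _), zero_mul]
  -- the scalars acting on the component
  have hclosed : ∀ (P : (ZMod p)[X]) (c : K), pairSkew τ c ∈ L → pairSkew τ (aeval (χ τ) P * c) ∈ L := by
    intro P c hc
    convert hkey P _ hc using 1
    refine coef_inj fun x => ?_
    rw [coef_gsumL, coef_pairSkew, coef_pairSkew]
    by_cases h1 : x = τ
    · subst h1; simp [hττ.symm]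
    rw [if_neg h1, if_neg h1]
    by_cases h3 : x = τ⁻¹
    · subst h3
      rw [if_pos rfl, if_pos rfl]
      have hfr : ∀ a : ZMod p, τ⁻¹ (algebraMap (ZMod p) K a) = algebraMap (ZMod p) K a := fun a => by
        obtain ⟨n, rfl⟩ : ∃ n : ℕ, (n : ZMod p) = a := ⟨a.val, ZMod.natCast_zmod_val a⟩
        rw [map_natCast, map_natCast]
      have hsym : χ τ⁻¹ = τ⁻¹ (χ τ) := by
        rw [hχ, hχ]
        simp only [map_mul, AlgEquiv.aut_inv, AlgEquiv.symm_apply_apply]
        ring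
      have hev : τ⁻¹ (aeval (χ τ) P) = aeval (τ⁻¹ (χ τ)) P := by
        induction P using Polynomial.induction_on' with
        | add P P' hP hP' => rw [map_add, map_add, hP, hP', map_add]
        | monomial n a => rw [aeval_monomial, aeval_monomial, map_mul, map_pow, hfr]
      rw [map_mul, hev, hsym]
      ring
    · simp [h3]
  -- the scalar generates
  have hgen : ∀ z : K, ∃ P : (ZMod p)[X], aeval (χ τ) P = z := fun z => by
    have htop : IntermediateField.adjoin (ZMod p) {χ τ} = ⊤ := by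
      rw [← IsGalois.fixedField_fixingSubgroup (IntermediateField.adjoin (ZMod p) {χ τ})]
      suffices h : (IntermediateField.adjoin (ZMod p) {χ τ}).fixingSubgroup = ⊥ by
        rw [h]; exact IntermediateField.fixedField_bot
      refine (Subgroup.eq_bot_iff_forall _).2 fun σ hσ => ?_
      have hfix : σ (χ τ) = χ τ := (IntermediateField.mem_fixingSubgroup_iff _ _).1 hσ _
        (IntermediateField.mem_adjoin_simple_self _ _)
      have e : (σ : K ≃+* K) ((s : K) * s) * ((τ : K ≃+* K).trans (σ : K ≃+* K)) ((s : K) * s) =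
          (RingEquiv.refl K) ((s : K) * s) * (τ : K ≃+* K) ((s : K) * s) := by
        rw [hχ, map_mul] at hfix
        exact hfix
      rcases pair_unique hp3 h27 hs (fun h => hτ1 (AlgEquiv.ext fun x => σ.injective (RingEquiv.congr_fun h x).symm))
        (fun h => hτ1 (AlgEquiv.ext fun x => (RingEquiv.congr_fun h x).symm)) e with ⟨h1, -⟩ | ⟨h1, h2'⟩
      · exact AlgEquiv.ext fun x => RingEquiv.congr_fun h1 x
      · refine absurd ?_ hττ
        refine inv_eq_of_mul_eq_one_right (toRing_injective (RingEquiv.ext fun x => ?_))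
        have := RingEquiv.congr_fun h2' x
        rwa [RingEquiv.trans_apply, h1] at this
    have hint : IsIntegral (ZMod p) (χ τ) := Algebra.IsIntegral.isIntegral _
    have hz : z ∈ (IntermediateField.adjoin (ZMod p) {χ τ}).toSubalgebra := by rw [htop]; trivial
    rw [IntermediateField.adjoin_simple_toSubalgebra_of_isAlgebraic hint.isAlgebraic,
      Algebra.adjoin_singleton_eq_range_aeval] at hz
    exact hz
  obtain ⟨Q, hQ⟩ := hgen (b / b₀)
  have := hclosed Q b₀ (hYeq ▸ hY)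
  rwa [hQ, div_mul_cancel₀ _ hb₀0] at this

/-- The group is everything supported on its support. -/
theorem mem_of_support {L : AddSubgroup (K →ₗ[F] K)} (hL : ∀ X ∈ L, IsSkew X)
    (hsc : ∀ X ∈ L, ∀ s : K, s ≠ 0 → sc (s * s) X ∈ L) {Y : K →ₗ[F] K} (hY : IsSkew Y)
    (h : ∀ τ, coef Y τ ≠ 0 → ∃ X ∈ L, coef X τ ≠ 0) : Y ∈ L := by
  classical
  have e : Y = ∑ τ, pairSkew τ (coef Y τ / 2) := coef_inj fun x => by
    have hlin : ∀ (f : (K ≃ₐ[F] K) → K →ₗ[F] K), coef (∑ τ, f τ) x = ∑ τ, coef (f τ) x := fun f => by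
      simp [coef]
    simp only [hlin, coef_pairSkew, Finset.sum_sub_distrib, Finset.sum_ite_eq, Finset.mem_univ, if_true]
    rw [Finset.sum_eq_single x⁻¹ (fun τ _ hne => if_neg fun hx => hne (by rw [hx, inv_inv]))
      (fun hx => absurd (Finset.mem_univ _) hx), if_pos (inv_inv x).symm, inv_inv, map_div₀, map_ofNat, hY.coef_inv]
    simp only [map_neg, AlgEquiv.aut_inv, AlgEquiv.apply_symm_apply]
    field_simp [two_ne_zero' (K := K) h2]
    ring
  rw [e]
  refine sum_mem fun τ _ => ?_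
  by_cases h0 : coef Y τ = 0
  · rw [h0, zero_div, pairSkew_zero]; exact L.zero_mem
  · obtain ⟨X, hX, hX'⟩ := h τ h0
    exact pair_mem hr hr2 h2 hL hsc hX hX' _

omit hr2 h2 in
/-- The rank two skew map. -/
theorem no_rank_two {w : K ≃ₐ[F] K} (hw : w ≠ 1) {a b : K} (ha : a ≠ 0)
    (h : coef ((Algebra.trace F K ∘ₗ LinearMap.mulLeft F a).smulRight b -
      (Algebra.trace F K ∘ₗ LinearMap.mulLeft F b).smulRight a) w = 0) : ∃ c : F, b = algebraMap F K c * a := by
  haveI : Finite F := Finite.of_injective _ (algebraMap F K).injective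
  rw [congrFun (coef_unique (a := fun τ : K ≃ₐ[F] K => τ a * b - τ b * a) fun x => by
    simp only [LinearMap.sub_apply, LinearMap.smulRight_apply, LinearMap.comp_apply, LinearMap.mulLeft_apply,
      Algebra.smul_def, trace_eq_sum_automorphisms, Finset.sum_mul, ← Finset.sum_sub_distrib]
    exact Finset.sum_congr rfl fun τ _ => by rw [map_mul, map_mul]; ring) w, sub_eq_zero] at h
  obtain ⟨c, hc⟩ := mem_of_fixed hr hw (x := b / a) (by
    rw [map_div₀, div_eq_div_iff ((map_ne_zero w).2 ha) ha, ← h, mul_comm])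
  exact ⟨c, by rw [hc, div_mul_cancel₀ _ ha]⟩

/-- A map respecting a proper group of skew maps is semilinear. -/
theorem exists_semi {L : AddSubgroup (K →ₗ[F] K)} (hL : ∀ X ∈ L, IsSkew X)
    (hsc : ∀ X ∈ L, ∀ s : K, s ≠ 0 → sc (s * s) X ∈ L) {X₀ : K →ₗ[F] K} (hX₀ : X₀ ∈ L) (hX₀0 : X₀ ≠ 0)
    {w : K ≃ₐ[F] K} (hw : w ≠ 1) (hwL : ∀ X ∈ L, coef X w = 0) (A : K ≃ₗ[F] K)
    (hA : ∀ X ∈ L, A.toLinearMap ∘ₗ X ∘ₗ adjT A.toLinearMap ∈ L)
    (hA' : ∀ X ∈ L, A.symm.toLinearMap ∘ₗ X ∘ₗ adjT A.symm.toLinearMap ∈ L) :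
    ∃ l : K, l ≠ 0 ∧ ∃ τ : K ≃ₐ[F] K, ∀ k, A k = l * τ k := by
  classical
  haveI : Finite F := Finite.of_injective _ (algebraMap F K).injective
  haveI : Fact (Module.finrank F K).Prime := ⟨hr⟩
  obtain ⟨Good, hGood⟩ : ∃ Good : (K →ₗ[F] K) → Prop, ∀ D, Good D ↔ ∀ X ∈ L, D ∘ₗ X + X ∘ₗ adjT D ∈ L :=
    ⟨_, fun _ => Iff.rfl⟩
  have hsupp : ∀ {Y : K →ₗ[F] K}, Y ∈ L → ∀ x, coef Y x ≠ 0 → ∃ X ∈ L, coef X x ≠ 0 := fun hY x hx => ⟨_, hY, hx⟩
  have hmul : ∀ k : K, Good (LinearMap.mulLeft F k) := fun k => (hGood _).2 fun X hX => by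
    refine mem_of_support hr hr2 h2 hL hsc ?_ fun x hx => ⟨X, hX, fun h0 => hx ?_⟩
    · rw [IsSkew, adjT_add, adjT_comp, adjT_comp, adjT_adjT, adjT_mulLeft, show adjT X = -X from hL X hX,
        LinearMap.neg_comp, LinearMap.comp_neg]
      abel
    · rw [congrFun (coef_unique (a := fun τ => (k + τ k) * coef X τ) fun y => ?_) x, h0, mul_zero]
      rw [adjT_mulLeft, LinearMap.add_apply, LinearMap.comp_apply, LinearMap.comp_apply, LinearMap.mulLeft_apply,
        LinearMap.mulLeft_apply, apply_eq_sum X, apply_eq_sum X, Finset.mul_sum, ← Finset.sum_add_distrib]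
      exact Finset.sum_congr rfl fun τ _ => by rw [map_mul]; ring
  have hA1 : A.toLinearMap ∘ₗ A.symm.toLinearMap = LinearMap.id := LinearMap.ext A.apply_symm_apply
  have hconj : ∀ D, Good D → Good (A.toLinearMap ∘ₗ D ∘ₗ A.symm.toLinearMap) := fun D hD => (hGood _).2 fun X hX => by
    have h := hA _ ((hGood D).1 hD _ (hA' X hX))
    have hadj : adjT A.symm.toLinearMap ∘ₗ adjT A.toLinearMap = LinearMap.id := by rw [← adjT_comp, hA1, adjT_id]
    have e1 : ∀ y, adjT A.symm.toLinearMap (adjT A.toLinearMap y) = y := fun y => LinearMap.congr_fun hadj y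
    convert h using 1
    refine LinearMap.ext fun y => ?_
    simp [adjT_comp, e1]
  obtain ⟨S, hS⟩ : ∃ S : (K ≃ₐ[F] K) → Prop, ∀ x, S x ↔ ∃ X ∈ L, coef X x ≠ 0 := ⟨_, fun _ => Iff.rfl⟩
  have hSw : ¬ S w := fun h => by obtain ⟨X, hX, h'⟩ := (hS w).1 h; exact h' (hwL X hX)
  have hS1 : ∀ x, S x → x ≠ 1 := fun x h hx => by
    obtain ⟨X, hX, h'⟩ := (hS x).1 h; exact h' (hx ▸ (hL X hX).coef_one h2)
  have hSi : ∀ x, S x → S x⁻¹ := fun x h => by
    obtain ⟨X, hX, h'⟩ := (hS x).1 h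
    exact (hS _).2 ⟨X, hX, by rw [(hL X hX).coef_inv, neg_ne_zero]; exact (_root_.map_ne_zero _).2 h'⟩
  obtain ⟨t₀, ht₀⟩ : ∃ t₀, S t₀ := by
    by_contra hc
    push Not at hc
    exact hX₀0 (coef_inj fun x => by rw [coef_zero]; by_contra h; exact hc x ((hS x).2 ⟨X₀, hX₀, h⟩))
  -- the stable maps are multiplications
  have hzero : ∀ D, Good D → ∀ u, u ≠ 1 → coef D u = 0 := by
    intro D hD u hu
    obtain ⟨t, ht, hut1, hut⟩ : ∃ t, S t ∧ u * t ≠ 1 ∧ ¬ S (u * t) := by
      by_contra hc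
      push Not at hc
      obtain ⟨n, hn⟩ : ∃ n, n = Module.finrank F K := ⟨_, rfl⟩
      haveI : Fact n.Prime := ⟨hn ▸ hr⟩
      have hord : orderOf u = n := orderOf_eq_prime (hn ▸ (by
        rw [← IsGalois.card_aut_eq_finrank]; exact pow_card_eq_one')) hu
      have hpow : ∀ x : K ≃ₐ[F] K, ∃ j < n, u ^ j = x := fun x => by
        obtain ⟨j, hj⟩ := (Submonoid.mem_powers_iff x u).1 ((mem_powers_iff_mem_zpowers (x := u)).2
          (mem_zpowers_of_prime_card (g := u) (g' := x) (hn ▸ IsGalois.card_aut_eq_finrank F K) hu))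
        exact ⟨j % n, Nat.mod_lt _ (Fact.out : n.Prime).pos, by rw [← hord, pow_mod_orderOf]; exact hj⟩
      have hne : ∀ j, j ≠ 0 → j < n → u ^ j ≠ 1 := fun j h0 hj => pow_ne_one_of_lt_orderOf h0 (hord.symm ▸ hj)
      obtain ⟨j, hj, rfl⟩ := hpow t₀
      have hup : ∀ i, S (u ^ i) → i + 1 < n → S (u ^ (i + 1)) := fun i hi hlt => by
        rw [pow_succ']
        exact hc _ hi (by rw [← pow_succ']; exact hne _ (Nat.succ_ne_zero i) hlt)
      have htop : S (u ^ (n - 1)) := by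
        have : ∀ m, j + m < n → S (u ^ (j + m)) := fun m => by
          induction m with
          | zero => exact fun _ => ht₀
          | succ m ih => exact fun h => hup _ (ih (by omega)) h
        rw [show n - 1 = j + (n - 1 - j) by omega]
        exact this _ (by omega)
      have hu1 : S (u ^ 1) := by
        have h := hSi _ htop
        rw [inv_eq_of_mul_eq_one_right (show u ^ (n - 1) * u ^ 1 = 1 by
          rw [← pow_add, show n - 1 + 1 = orderOf u by omega, pow_orderOf_eq_one])] at h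
        exact h
      obtain ⟨i, hi, rfl⟩ := hpow w
      obtain ⟨i, rfl⟩ : ∃ i', i = i' + 1 := ⟨i - 1, by
        have : i ≠ 0 := fun h => hw (by rw [h, pow_zero]); omega⟩
      exact hSw (by
        clear hw hwL hSw
        induction i with
        | zero => exact hu1
        | succ i ih => exact hup _ (ih (by omega)) hi)
    obtain ⟨x, hx⟩ : ∃ x, x = u * t := ⟨_, rfl⟩
    rw [← hx] at hut hut1
    have ht' : t ≠ 1 := hS1 t ht
    have hxt : x ≠ t := fun h => hu (by rwa [hx, mul_eq_right] at h)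
    have hxti : x ≠ t⁻¹ := fun h => hut (h ▸ hSi t ht)
    obtain ⟨f, hf⟩ : ∃ f : K →ₗ[F] K, f = mono u (coef D u) - mono x (coef D (x * t)) -
        mono t⁻¹ (x (coef D (x * t)⁻¹)) + mono 1 (x (coef D (t * x⁻¹))) := ⟨_, rfl⟩
    have hf0 : f = 0 := LinearMap.ext fun a => by
      have hmem : pairSkew t a ∈ L := by
        obtain ⟨X, hX, h'⟩ := (hS t).1 ht
        exact pair_mem hr hr2 h2 hL hsc hX h' a
      have h : coef (D ∘ₗ pairSkew t a + pairSkew t a ∘ₗ adjT D) x = 0 := by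
        by_contra h
        exact hut ((hS x).2 ⟨_, (hGood D).1 hD _ hmem, h⟩)
      have hadj : adjT (mono t a) = mono t⁻¹ (t⁻¹ a) := coef_inj fun y => by
        rw [coef_adjT, coef_mono, coef_mono, Pi.single_apply, Pi.single_apply]
        by_cases hy : y = t⁻¹
        · subst hy; simp
        · rw [if_neg fun h => hy (by rw [← h, inv_inv]), if_neg hy, map_zero]
      have hcY : ∀ y, coef (D ∘ₗ pairSkew t a) y =
          coef D (y * t⁻¹) * (y * t⁻¹) a - coef D (y * t) * y a := fun y => by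
        rw [pairSkew, hadj, LinearMap.comp_sub, coef_sub, coef_comp_mono, coef_comp_mono, inv_inv]
        simp [AlgEquiv.mul_apply]
      rw [show pairSkew t a ∘ₗ adjT D = -adjT (D ∘ₗ pairSkew t a) by
        rw [adjT_comp, show adjT (pairSkew t a) = -pairSkew t a from pairSkew_skew t a, LinearMap.neg_comp, neg_neg],
        coef_add, coef_neg, coef_adjT, hcY, hcY] at h
      rw [hf, LinearMap.zero_apply]
      simp only [LinearMap.add_apply, LinearMap.sub_apply, mono_apply, AlgEquiv.one_apply]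
      have e1 : x * t⁻¹ = u := by rw [hx, mul_inv_cancel_right]
      have hcm : ∀ a b : K ≃ₐ[F] K, a * b = b * a := gal_comm
      rw [e1, show x⁻¹ * t = t * x⁻¹ from hcm _ _, show x⁻¹ * t⁻¹ = (x * t)⁻¹ by rw [mul_inv_rev, hcm]] at h
      simp only [map_sub, map_mul] at h
      have e3 : x ((x * t)⁻¹ a) = t⁻¹ a := by
        rw [mul_inv_rev, hcm t⁻¹, AlgEquiv.mul_apply, AlgEquiv.aut_inv x, AlgEquiv.apply_symm_apply]
      have e4 : x (x⁻¹ a) = a := by rw [AlgEquiv.aut_inv, AlgEquiv.apply_symm_apply]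
      rw [e3, e4] at h
      linear_combination h
    have hcu := congrArg (fun g => coef g u) hf0
    simp only [hf, coef_add, coef_sub, coef_mono, coef_zero] at hcu
    rwa [Pi.single_eq_same, Pi.single_eq_of_ne (fun h => hS1 t ht (by rwa [hx, left_eq_mul] at h)),
      Pi.single_eq_of_ne (fun h => hut1 (by rw [hx, h, inv_mul_cancel])), Pi.single_eq_of_ne hu, sub_zero, sub_zero,
      add_zero] at hcu
  obtain ⟨f, hf⟩ : ∃ f : K → K, ∀ k y, A (k * A.symm y) = f k * y := by
    refine ⟨fun k => coef (A.toLinearMap ∘ₗ LinearMap.mulLeft F k ∘ₗ A.symm.toLinearMap) 1, fun k y => ?_⟩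
    have h := apply_eq_sum (A.toLinearMap ∘ₗ LinearMap.mulLeft F k ∘ₗ A.symm.toLinearMap) y
    rw [Finset.sum_eq_single 1 (fun ω _ hω => by rw [hzero _ (hconj _ (hmul k)) ω hω, zero_mul])
      (fun h => absurd (Finset.mem_univ _) h)] at h
    exact h
  obtain ⟨l, hl⟩ : ∃ l, l = A 1 := ⟨_, rfl⟩
  have hl0 : l ≠ 0 := fun h => one_ne_zero (A.map_eq_zero_iff.1 (hl ▸ h))
  have hAk : ∀ k, A k = f k * l := fun k => by
    have h := hf k l
    rwa [hl, A.symm_apply_apply, mul_one, ← hl] at h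
  have hmulf : ∀ a b, f (a * b) = f a * f b := fun a b => mul_right_cancel₀ hl0 (by
    have h := hf a (A b)
    rw [A.symm_apply_apply, hAk b] at h
    rw [← hAk, h, mul_assoc])
  let τ₀ : K →ₐ[F] K := AlgHom.ofLinearMap
    { toFun := f
      map_add' := fun a b => mul_right_cancel₀ hl0 (by rw [add_mul, ← hAk, ← hAk, ← hAk, map_add])
      map_smul' := fun c a => mul_right_cancel₀ hl0 (by
        rw [RingHom.id_apply, smul_mul_assoc, ← hAk, ← hAk, map_smul]) }
    (mul_right_cancel₀ hl0 (by show f 1 * l = 1 * l; rw [← hAk, one_mul, hl])) hmulf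
  exact ⟨l, hl0, AlgEquiv.ofBijective τ₀ (Finite.injective_iff_bijective.1 τ₀.toRingHom.injective),
    fun k => by rw [hAk, mul_comm]; rfl⟩

end CfsgLib.Classical22.OrthField.PrimeDeg
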