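/-
Coordinates for elements at a singular line: the groups of long and radical elements.
-/
import Cfsg.Agent.Lib.Classical22.OrthFieldThree.Stab
import Cfsg.Agent.Lib.Classical22.OrthFieldPrime.Types

set_option autoImplicit false
set_option linter.all false

namespace CfsgLib.Classical22.OrthField.PrimeDeg

open CfsgLib.Classical CfsgLib.Classical22.OrthField.Cubic

universe u

variable {F : Type u} [Field F] {K : Type*} [Field K] [Algebra F K]
variable {V : Type u} [AddCommGroup V] [Module F V] [Module K V] [IsScalarTower F K V]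
variable {Q : QuadraticForm F V} {R : QuadraticForm K V} {M : Subgroup (qAut Q)}

/-- An element preserving the three coordinate lines. -/
structure Diag (v f e : V) (g : qAut Q) (A B C : K →ₗ[F] K) : Prop where
  line : ∀ k : K, g.1 (k • v) = A k • v
  mid : ∀ k : K, g.1 (k • e) = B k • e
  top : ∀ k : K, g.1 (k • f) = C k • f

/-- The action on the line and on the perp modulo the line. -/
structure Act2 (v e : V) (g : qAut Q) (A B : K →ₗ[F] K) : Prop where
  line : ∀ k : K, g.1 (k • v) = A k • v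
  mid : ∀ k : K, ∃ a : K, g.1 (k • e) = a • v + B k • e

lemma Act2.mul {v e : V} {g g' : qAut Q} {A B A' B' : K →ₗ[F] K} (h : Act2 v e g A B) (h' : Act2 v e g' A' B') :
    Act2 v e (g * g') (A ∘ₗ A') (B ∘ₗ B') := by
  refine ⟨fun k => by rw [qAut_mul_apply, h'.line, h.line]; rfl, fun k => ?_⟩
  obtain ⟨a, ha⟩ := h'.mid k
  obtain ⟨a', ha'⟩ := h.mid (B' k)
  exact ⟨A a + a', by rw [qAut_mul_apply, ha, map_add, h.line, ha', add_smul, add_assoc]; rfl⟩

lemma Diag.act {v f e : V} {g : qAut Q} {A B C : K →ₗ[F] K} (h : Diag v f e g A B C) : Act2 v e g A B :=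
  ⟨h.line, fun k => ⟨0, by rw [h.mid, zero_smul, zero_add]⟩⟩

lemma Diag.mul {v f e : V} {g g' : qAut Q} {A B C A' B' C' : K →ₗ[F] K} (h : Diag v f e g A B C)
    (h' : Diag v f e g' A' B' C') : Diag v f e (g * g') (A ∘ₗ A') (B ∘ₗ B') (C ∘ₗ C') :=
  ⟨fun k => by rw [qAut_mul_apply, h'.line, h.line]; rfl, fun k => by rw [qAut_mul_apply, h'.mid, h.mid]; rfl,
    fun k => by rw [qAut_mul_apply, h'.top, h.top]; rfl⟩

variable [Fintype K] [FiniteDimensional F K]

/-- Trivial on the line and on the quotients, with the given parts of the image of the opposite line. -/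
structure UMap (v f e : V) (t : F) (g : qAut Q) (w z : K →ₗ[F] K) : Prop where
  line : ∀ k : K, g.1 (k • v) = k • v
  mid : ∀ k : K, g.1 (k • e) = k • e - ((2 * t) • adjT w k) • v
  top : ∀ k : K, g.1 (k • f) = z k • v + w k • e + k • f

/-- The group of long root maps. -/
def lset (R : QuadraticForm K V) (M : Subgroup (qAut Q)) {v : V} (hv : R v = 0) : AddSubgroup (K →ₗ[F] K) where
  carrier := {X | Long R M v X}
  add_mem' := fun hX hY => Over.long_add hv hX hY
  zero_mem' := ⟨1, M.one_mem, fun x => by rw [LinearMap.zero_apply, zero_smul, add_zero]; rfl⟩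
  neg_mem' := fun hX => Over.long_neg hv hX

lemma mem_lset {v : V} {hv : R v = 0} {X : K →ₗ[F] K} : X ∈ lset R M hv ↔ Long R M v X := Iff.rfl

section coords

variable {v f e : V} {t : F} (S : Std R v f e t)
include S

omit [FiniteDimensional F K] [Fintype K] in
/-- Coordinates determine the element. -/
lemma qext {g h : qAut Q} (h1 : ∀ k : K, g.1 (k • v) = h.1 (k • v)) (h2 : ∀ k : K, g.1 (k • e) = h.1 (k • e))
    (h3 : ∀ k : K, g.1 (k • f) = h.1 (k • f)) : g = h := qAut_ext fun x => by
  obtain ⟨a, b, c, rfl⟩ := S.span x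
  simp only [map_add, h1, h2, h3]

omit [FiniteDimensional F K] [Fintype K] [Module F V] [IsScalarTower F K V] in
lemma co_inj (h2 : (2 : K) ≠ 0) {a b c a' b' c' : K}
    (h : a • v + b • e + c • f = a' • v + b' • e + c' • f) : a = a' ∧ b = b' ∧ c = c' := by
  have h1 := congrArg (fun x => QuadraticMap.polar R x f) h
  have h2' := congrArg (fun x => QuadraticMap.polar R x e) h
  have h3 := congrArg (fun x => QuadraticMap.polar R x v) h
  simp only [S.pol_f, S.pol_e, S.pol_v] at h1 h2' h3
  exact ⟨h1, mul_right_cancel₀ (mul_ne_zero h2 S.t0') h2', h3⟩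

omit [FiniteDimensional F K] [Fintype K] in
lemma qpol (E : Over Q R) (a b c a' b' c' : K) :
    QuadraticMap.polar Q (a • v + b • e + c • f) (a' • v + b' • e + c' • f) =
      Algebra.trace F K (a * c') + Algebra.trace F K (c * a') + (2 * t) • Algebra.trace F K (b * b') := by
  rw [E.polar, QuadraticMap.polar_add_right, QuadraticMap.polar_add_right, QuadraticMap.polar_smul_right,
    QuadraticMap.polar_smul_right, QuadraticMap.polar_smul_right, S.pol_v, S.pol_e, S.pol_f]
  simp only [smul_eq_mul, map_add]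
  rw [show b' * (b * (2 * algebraMap F K t)) = (2 * t) • (b * b') by
    rw [Algebra.smul_def, map_mul, map_ofNat]; ring, map_smul, smul_eq_mul, mul_comm c' a, mul_comm a' c]
  ring

end coords

variable (E : Over Q R) {v f e : V} {t : F} (S : Std R v f e t)
include E S

/-- Orthogonality to the line. -/
lemma perp_map {x : qAut Q} (hx : x ∈ qStab Q (lineF F (K := K) v)) {y : V}
    (hy : QuadraticMap.polar R y v = 0) : QuadraticMap.polar R (x.1 y) v = 0 := E.trace_ext fun k => by
  obtain ⟨k', hk'⟩ := mem_lineF.1 (apply_mem_of_qStab Q (inv_mem hx) (mem_lineF.2 ⟨k, rfl⟩))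
  rw [← smul_eq_mul, ← QuadraticMap.polar_smul_right, ← E.polar, ← qApply_inv_self Q x (k • v), qAut_polar, ← hk',
    E.polar, QuadraticMap.polar_smul_right, hy, smul_zero, map_zero]

/-- The action of an element stabilising the line. -/
theorem exists_act2 {x : qAut Q} (hx : x ∈ qStab Q (lineF F (K := K) v)) :
    ∃ A B : K ≃ₗ[F] K, Act2 v e x A.toLinearMap B.toLinearMap ∧
      ∀ a b, Algebra.trace F K (B a * B b) = Algebra.trace F K (a * b) := by
  haveI : Finite F := Finite.of_injective _ (algebraMap F K).injective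
  have hA : ∀ k : K, ∃ k' : K, x.1 (k • v) = k' • v := fun k => by
    obtain ⟨k', hk'⟩ := mem_lineF.1 (apply_mem_of_qStab Q hx (mem_lineF.2 ⟨k, rfl⟩))
    exact ⟨k', hk'.symm⟩
  choose A hA using hA
  have hB : ∀ k : K, ∃ a b : K, x.1 (k • e) = a • v + b • e := fun k => S.perp_form (perp_map E S hx (perp_vec S k))
  choose β B hB using hB
  have h2 := E.two'
  have hAl : ∀ a b, A (a + b) = A a + A b := fun a b => smul_left_injective K S.v0
    (by show A (a + b) • v = (A a + A b) • v; rw [← hA, add_smul, map_add, hA, hA, add_smul])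
  have hAs : ∀ (r : F) a, A (r • a) = r • A a := fun r a => smul_left_injective K S.v0
    (by show A (r • a) • v = (r • A a) • v; rw [← hA, smul_assoc, map_smul, hA, smul_assoc])
  have hext : ∀ a b a' b' : K, a • v + b • e = a' • v + b' • e → b = b' := fun a b a' b' h =>
    (co_inj S h2 (a := a) (b := b) (c := 0) (a' := a') (b' := b') (c' := 0) (by simpa using h)).2.1
  have hBl : ∀ a b, B (a + b) = B a + B b := fun a b => hext (β (a + b)) _ (β a + β b) _ (by
    rw [← hB, add_smul, map_add, hB, hB, add_smul, add_smul]; abel)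
  have hBs : ∀ (r : F) a, B (r • a) = r • B a := fun r a => hext (β (r • a)) _ (r • β a) _ (by
    rw [← hB, smul_assoc, map_smul, hB, smul_add, smul_assoc, smul_assoc])
  have horth : ∀ a b, Algebra.trace F K (B a * B b) = Algebra.trace F K (a * b) := fun a b => by
    have h := qAut_polar x (a • e) (b • e)
    have e1 := qpol S E (β a) (B a) 0 (β b) (B b) 0
    have e2 := qpol S E 0 a 0 0 b 0
    simp only [zero_smul, add_zero, zero_add, mul_zero, zero_mul, map_zero] at e1 e2
    rw [hB, hB, e1, e2, smul_eq_mul, smul_eq_mul] at h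
    exact mul_left_cancel₀ (mul_ne_zero E.two S.t0) h
  let A₀ : K →ₗ[F] K := { toFun := A, map_add' := hAl, map_smul' := hAs }
  let B₀ : K →ₗ[F] K := { toFun := B, map_add' := hBl, map_smul' := hBs }
  have hAi : Function.Injective A₀ := fun a b h => smul_left_injective K S.v0 (x.1.injective (by
    rw [hA, hA, show A a = A b from h]))
  have hBi : Function.Injective B₀ := fun a b h => trace_ext' (F := F) fun k => by
    rw [← horth k a, ← horth k b, show B a = B b from h]
  exact ⟨LinearEquiv.ofBijective A₀ ⟨hAi, Finite.injective_iff_surjective.1 hAi⟩,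
    LinearEquiv.ofBijective B₀ ⟨hBi, Finite.injective_iff_surjective.1 hBi⟩,
    ⟨hA, fun k => ⟨β k, hB k⟩⟩, horth⟩

/-- Conjugates of radical elements are radical. -/
theorem inRad_conj {x ρ : qAut Q} (hx : x ∈ qStab Q (lineF F (K := K) v)) (hρ : InRad R v ρ) :
    InRad R v (x * ρ * x⁻¹) := by
  refine ⟨fun k => ?_, fun y hy => ?_⟩
  · obtain ⟨k', hk'⟩ := mem_lineF.1 (apply_mem_of_qStab Q (inv_mem hx) (mem_lineF.2 ⟨k, rfl⟩))
    rw [qAut_mul_apply, qAut_mul_apply, ← hk', hρ.1, hk', qApply_inv_self]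
  · obtain ⟨k, hk⟩ := hρ.2 _ (perp_map E S (inv_mem hx) hy)
    obtain ⟨k', hk'⟩ := mem_lineF.1 (apply_mem_of_qStab Q hx (mem_lineF.2 ⟨k, rfl⟩))
    exact ⟨k', by rw [qAut_mul_apply, qAut_mul_apply, hk, map_add, qApply_inv_self, hk']⟩

omit [Fintype K] [FiniteDimensional F K] in
lemma inRad_mul {ρ ρ' : qAut Q} (h : InRad R v ρ) (h' : InRad R v ρ') : InRad R v (ρ * ρ') := by
  refine ⟨fun k => by rw [qAut_mul_apply, h'.1, h.1], fun y hy => ?_⟩
  obtain ⟨k, hk⟩ := h'.2 y hy
  obtain ⟨k', hk'⟩ := h.2 y hy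
  exact ⟨k' + k, by rw [qAut_mul_apply, hk, map_add, hk', h.1, add_smul]; abel⟩

omit [Fintype K] [FiniteDimensional F K] in
lemma inRad_inv {ρ : qAut Q} (h : InRad R v ρ) : InRad R v ρ⁻¹ := by
  refine ⟨fun k => ρ.1.injective (by rw [qApply_inv_self, h.1]), fun y hy => ?_⟩
  obtain ⟨k, hk⟩ := h.2 y hy
  refine ⟨-k, ρ.1.injective ?_⟩
  rw [qApply_inv_self, map_add, hk, h.1]
  module

/-- Radical elements in coordinates. -/
theorem uMap_of_top {g : qAut Q} (hg : InRad R v g) {w z : K →ₗ[F] K}
    (h : ∀ k : K, g.1 (k • f) = z k • v + w k • e + k • f) : UMap v f e t g w z := by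
  refine ⟨hg.1, fun k => ?_, h⟩
  obtain ⟨a, ha⟩ := hg.2 _ (perp_vec S k)
  rw [ha]
  have : a = -((2 * t) • adjT w k) := trace_ext' (F := F) fun k' => by
    have h' := qAut_polar g (k • e) (k' • f)
    have e1 := qpol S E a k 0 (z k') (w k') k'
    have e2 := qpol S E 0 k 0 0 0 k'
    simp only [zero_smul, add_zero, zero_add, mul_zero, zero_mul, map_zero, smul_zero] at e1 e2
    rw [ha, h, add_comm (k • e), e1, e2] at h'
    rw [mul_neg, map_neg, mul_smul_comm, map_smul, ← trace_adjT, mul_comm k' a, mul_comm (w k') k]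
    linear_combination h'
  rw [this, neg_smul, sub_eq_add_neg]

theorem exists_uMap {g : qAut Q} (hg : InRad R v g) : ∃ w z : K →ₗ[F] K, UMap v f e t g w z := by
  have h : ∀ k : K, ∃ a b : K, g.1 (k • f) = a • v + b • e + k • f := fun k => by
    obtain ⟨a, b, c, hc⟩ := S.span (g.1 (k • f))
    refine ⟨a, b, ?_⟩
    have : c = k := trace_ext' (F := F) fun l => by
      have h' := qAut_polar g (k • f) (l • v)
      rw [hg.1, hc, E.polar, E.polar, QuadraticMap.polar_smul_right, QuadraticMap.polar_smul_right, S.pol_v,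
        QuadraticMap.polar_smul_left, S.fv] at h'
      simpa using h'
    rw [hc, this]
  choose z w hzw using h
  have h2 := E.two'
  have hadd : ∀ a b, z (a + b) = z a + z b ∧ w (a + b) = w a + w b := fun a b => by
    obtain ⟨h1, h1', -⟩ := co_inj S h2 (c := a + b) (c' := a + b) (show z (a + b) • v + w (a + b) • e + (a + b) • f =
      (z a + z b) • v + (w a + w b) • e + (a + b) • f by
        rw [← hzw, add_smul, map_add, hzw, hzw, add_smul, add_smul]; abel)
    exact ⟨h1, h1'⟩
  have hsm : ∀ (r : F) a, z (r • a) = r • z a ∧ w (r • a) = r • w a := fun r a => by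
    obtain ⟨h1, h1', -⟩ := co_inj S h2 (c := r • a) (c' := r • a) (show z (r • a) • v + w (r • a) • e + (r • a) • f =
      (r • z a) • v + (r • w a) • e + (r • a) • f by
        rw [← hzw, smul_assoc, map_smul, hzw, smul_add, smul_add]
        simp only [smul_assoc])
    exact ⟨h1, h1'⟩
  exact ⟨{ toFun := w, map_add' := fun a b => (hadd a b).2, map_smul' := fun r a => (hsm r a).2 },
    { toFun := z, map_add' := fun a b => (hadd a b).1, map_smul' := fun r a => (hsm r a).1 },
    uMap_of_top E S hg hzw⟩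

omit E in
lemma UMap.inRad {g : qAut Q} {w z : K →ₗ[F] K} (h : UMap v f e t g w z) : InRad R v g := by
  refine ⟨h.line, fun y hy => ?_⟩
  obtain ⟨a, b, rfl⟩ := S.perp_form hy
  exact ⟨-((2 * t) • adjT w b), by rw [map_add, h.line, h.mid, neg_smul]; abel⟩

lemma uMap_uu (c : K) : UMap v f e t (uu E v e c) (LinearMap.mulLeft F c)
    (LinearMap.mulLeft F (-(c * c * algebraMap F K t))) := by
  refine ⟨uu_fix_v E S c, fun k => ?_, fun k => ?_⟩
  · have h := uu_perp E S c 0 k
    rw [zero_smul, zero_add] at h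
    rw [h, adjT_mulLeft, LinearMap.mulLeft_apply, Algebra.smul_def, map_mul, map_ofNat]
    ring_nf
  · rw [uu_apply E S, QuadraticMap.polar_smul_left, QuadraticMap.polar_smul_left, S.fv, S.fe,
      LinearMap.mulLeft_apply, LinearMap.mulLeft_apply]
    simp only [smul_eq_mul, mul_one, mul_zero, zero_add]
    module

/-- Products. -/
theorem UMap.mul {g g' : qAut Q} {w z w' z' : K →ₗ[F] K} (h : UMap v f e t g w z)
    (h' : UMap v f e t g' w' z') :
    UMap v f e t (g * g') (w + w') (z + z' - (2 * t) • (adjT w ∘ₗ w')) := by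
  refine uMap_of_top E S (inRad_mul E S (h.inRad S) (h'.inRad S)) fun k => ?_
  rw [qAut_mul_apply, h'.top, map_add, map_add, h.line, h.mid, h.top]
  simp only [LinearMap.add_apply, LinearMap.sub_apply, LinearMap.smul_apply, LinearMap.comp_apply]
  module

lemma uMap_one : UMap v f e t (1 : qAut Q) (0 : K →ₗ[F] K) 0 :=
  uMap_of_top E S ⟨fun k => rfl, fun y _ => ⟨0, by rw [zero_smul, add_zero]; rfl⟩⟩ fun k => by
    simp only [LinearMap.zero_apply, zero_smul, zero_add]; rfl

/-- Inverses. -/
theorem UMap.inv {g : qAut Q} {w z : K →ₗ[F] K} (h : UMap v f e t g w z) :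
    UMap v f e t g⁻¹ (-w) (-z - (2 * t) • (adjT w ∘ₗ w)) := by
  refine uMap_of_top E S (inRad_inv E S (h.inRad S)) fun k => g.1.injective ?_
  rw [qApply_inv_self, map_add, map_add, h.line, h.mid, h.top]
  simp only [LinearMap.neg_apply, LinearMap.sub_apply, LinearMap.smul_apply, LinearMap.comp_apply, map_neg,
    LinearMap.map_neg, smul_neg]
  module

/-- The relation of the two parts. -/
theorem UMap.relation {g : qAut Q} {w z : K →ₗ[F] K} (h : UMap v f e t g w z) :
    z + adjT z = -((2 * t) • (adjT w ∘ₗ w)) := LinearMap.ext fun k => trace_ext' (F := F) fun l => by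
  have h' := qAut_polar g (k • f) (l • f)
  have e1 := qpol S E (z k) (w k) k (z l) (w l) l
  have e2 := qpol S E 0 0 k 0 0 l
  simp only [zero_smul, zero_add, mul_zero, zero_mul, map_zero, smul_zero, add_zero] at e2
  rw [h.top, h.top, e1, e2] at h'
  simp only [LinearMap.add_apply, LinearMap.neg_apply, LinearMap.smul_apply, LinearMap.comp_apply, mul_add, map_add,
    mul_neg, map_neg, mul_smul_comm, map_smul, smul_eq_mul, ← trace_adjT] at h' ⊢
  rw [mul_comm l (z k), mul_comm (z l) k, mul_comm (w l) (w k)]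
  linear_combination h'

lemma long_of_uMap {g : qAut Q} (hg : g ∈ M) {z : K →ₗ[F] K} (h : UMap v f e t g 0 z) : Long R M v z :=
  ⟨g, hg, fun x => by
    obtain ⟨a, b, c, rfl⟩ := S.span x
    simp only [map_add, h.line, h.mid, h.top, adjT_zero, LinearMap.zero_apply, smul_zero, zero_smul, sub_zero,
      add_zero, S.pol_v]
    abel⟩

lemma uMap_of_long {X : K →ₗ[F] K} (hX : Long R M v X) : ∃ g ∈ M, UMap v f e t g 0 X := by
  obtain ⟨g, hg, hgx⟩ := hX
  have hperp : ∀ y, QuadraticMap.polar R y v = 0 → g.1 y = y := fun y hy => by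
    rw [hgx, hy, map_zero, zero_smul, add_zero]
  refine ⟨g, hg, uMap_of_top E S ⟨fun k => hperp _ (by
    rw [QuadraticMap.polar_smul_left, Over.polar_self_zero S.sv, smul_zero]),
    fun y hy => ⟨0, by rw [hperp y hy, zero_smul, add_zero]⟩⟩ fun k => ?_⟩
  rw [hgx, QuadraticMap.polar_smul_left, S.fv, smul_eq_mul, mul_one, LinearMap.zero_apply, zero_smul, add_zero]
  abel

lemma lset_skew {X : K →ₗ[F] K} (hX : X ∈ lset R M S.sv) [Fintype F] [FiniteDimensional F V] [FiniteDimensional K V] :
    IsSkew X := adjT_unique fun a b => by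
  have := E.long_skew S.sv S.v0 (mem_lset.1 hX) a b
  rw [LinearMap.neg_apply, mul_neg, map_neg]
  linear_combination this

omit E in
lemma lineF_eq {y : V} : y ∈ lineF F (K := K) v ↔ ∃ k : K, k • v = y := mem_lineF

end CfsgLib.Classical22.OrthField.PrimeDeg
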