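/-
The long root maps at a singular line: all of them give Omega; otherwise the stabiliser of the line is semilinear.
-/
import Cfsg.Agent.Lib.Classical22.OrthFieldPrime.Base

set_option autoImplicit false
set_option linter.all false

namespace CfsgLib.Classical22.OrthField.PrimeDeg

open CfsgLib.Classical CfsgLib.Classical22.OrthField.Cubic

universe u

variable {F : Type u} [Field F] {K : Type*} [Field K] [Algebra F K]
variable {V : Type u} [AddCommGroup V] [Module F V] [Module K V] [IsScalarTower F K V]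
variable {Q : QuadraticForm F V} {R : QuadraticForm K V} {M : Subgroup (qAut Q)}
variable [Fintype F] [Fintype K] [FiniteDimensional F K] [FiniteDimensional F V] [FiniteDimensional K V]
variable (E : Over Q R) (hn : 5 ≤ Module.finrank F V) {v f e : V} {t : F} (S : Std R v f e t) (hM : SemiMem K M)
include E hn S hM

/-- Torus elements scale the long root maps. -/
theorem lset_scale {X : K →ₗ[F] K} (hX : X ∈ lset R M S.sv) {s : K} (hs : s ≠ 0) :
    sc (s * s) X ∈ lset R M S.sv := by
  obtain ⟨h, hhM, hhv, -, -⟩ := exists_tor_mem E hn S hM hs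
  obtain ⟨y, hy, he⟩ : Long R M v X := hX
  refine ⟨E.lift h * y * (E.lift h)⁻¹, M.mul_mem (M.mul_mem hhM hy) (M.inv_mem hhM), fun x => ?_⟩
  obtain ⟨x', rfl⟩ : ∃ x', h.1 x' = x := ⟨(h⁻¹).1 x, qApply_inv_self R h x⟩
  have e1 : ((E.lift h)⁻¹).1 (h.1 x') = x' := by rw [← E.lift_apply, qInv_apply_self]
  have e2 : (s * s) * QuadraticMap.polar R (h.1 x') v = QuadraticMap.polar R x' v := by
    rw [← qAut_polar h x' v, hhv, QuadraticMap.polar_smul_right, smul_eq_mul]
  rw [qAut_mul_apply, qAut_mul_apply, e1, he, Over.lift_apply, map_add, map_smul, hhv, smul_smul, sc,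
    LinearMap.comp_apply, LinearMap.comp_apply, LinearMap.mulLeft_apply, LinearMap.mulLeft_apply, e2]
  congr 2
  ring

/-- Stabilising elements act on the long root maps. -/
theorem lset_conj {x : qAut Q} (hx : x ∈ M) {A : K ≃ₗ[F] K} (hA : ∀ k : K, x.1 (k • v) = A k • v)
    {X : K →ₗ[F] K} (hX : X ∈ lset R M S.sv) : A.toLinearMap ∘ₗ X ∘ₗ adjT A.toLinearMap ∈ lset R M S.sv := by
  obtain ⟨y, hy, he⟩ : Long R M v X := hX
  refine ⟨x * y * x⁻¹, M.mul_mem (M.mul_mem hx hy) (M.inv_mem hx), fun z => ?_⟩
  have hp : QuadraticMap.polar R ((x⁻¹).1 z) v = adjT A.toLinearMap (QuadraticMap.polar R z v) := by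
    refine trace_ext' (F := F) fun k => ?_
    have h := qAut_polar x ((x⁻¹).1 z) (k • v)
    rw [qApply_inv_self, hA, E.polar, E.polar, QuadraticMap.polar_smul_right, QuadraticMap.polar_smul_right,
      smul_eq_mul, smul_eq_mul] at h
    rw [← h, ← trace_adjT]
    rfl
  rw [qAut_mul_apply, qAut_mul_apply, he, map_add, qApply_inv_self, hA, hp]
  rfl

/-- All skew maps at one line give all of Omega. -/
theorem eichGroup_le_of_all (h2r : 3 ≤ Module.finrank F K) (hall : ∀ X : K →ₗ[F] K, IsSkew X → Long R M v X) :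
    eichGroup Q ≤ M := by
  classical
  have hline : ∀ {p : V}, R p = 0 → p ≠ 0 → ∀ a b : K, eich Q (a • p) (b • p) ∈ M := by
    intro p hp hp0
    have hlv : ∀ a b : K, eich Q (a • v) (b • v) ∈ M := fun a b => by
      obtain ⟨T, hT⟩ : ∃ T : K →ₗ[F] K, T = (Algebra.trace F K ∘ₗ LinearMap.mulLeft F a).smulRight b -
          (Algebra.trace F K ∘ₗ LinearMap.mulLeft F b).smulRight a := ⟨_, rfl⟩
      obtain ⟨y, hy, he⟩ := hall T (adjT_unique fun x z => by
        simp only [hT, LinearMap.neg_apply, LinearMap.sub_apply, LinearMap.smulRight_apply, LinearMap.comp_apply,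
          LinearMap.mulLeft_apply, neg_sub, sub_mul, mul_sub, map_sub, smul_mul_assoc, mul_smul_comm, map_smul,
          smul_eq_mul]
        rw [mul_comm x a, mul_comm x b]
        ring)
      have hp' : QuadraticMap.polar Q (a • v) (b • v) = 0 := E.polar_zero (by
        simp [QuadraticMap.polar_smul_left, QuadraticMap.polar_smul_right, quad_polar_self, S.sv])
      rw [show eich Q (a • v) (b • v) = y from qAut_ext fun x => ?_]
      · exact hy
      rw [eich_apply Q (E.sing S.sv a) hp', E.sing S.sv b, zero_mul, add_zero, E.polar, E.polar,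
        QuadraticMap.polar_smul_right, QuadraticMap.polar_smul_right, he, hT]
      simp only [LinearMap.sub_apply, LinearMap.smulRight_apply, LinearMap.comp_apply, LinearMap.mulLeft_apply,
        smul_eq_mul, sub_smul, smul_assoc]
      abel
    intro a b
    obtain ⟨h, hhM, l, hl, hhv⟩ := exists_to E hn S hM hp hp0
    have e' := eich_conj Q (E.lift h) (E.sing S.sv (a / l)) (w := (b / l) • v) (E.polar_zero (by
      simp [QuadraticMap.polar_smul_left, QuadraticMap.polar_smul_right, quad_polar_self, S.sv]))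
    rw [Over.lift_apply, Over.lift_apply, map_smul, map_smul, hhv, smul_smul, smul_smul, div_mul_cancel₀ _ hl,
      div_mul_cancel₀ _ hl] at e'
    exact e' ▸ M.mul_mem (M.mul_mem hhM (hlv _ _)) (M.inv_mem hhM)
  have hQv := E.quad_zero S.sv
  obtain ⟨C, hC⟩ : ∃ C, C = cen Q M hQv := ⟨_, rfl⟩
  have hL : ∀ k : K, k • v ∈ C := fun k => hC ▸ ⟨E.polar_zero (by
    simp [QuadraticMap.polar_smul_right, quad_polar_self, S.sv]), by simpa using hline S.sv S.v0 1 k⟩
  have hdim0 : 2 ≤ Module.finrank F (LinearMap.ker (Algebra.trace F K)) := by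
    have h1 := LinearMap.finrank_range_add_finrank_ker (Algebra.trace F K)
    rw [LinearMap.range_eq_top.2 (Algebra.trace_surjective F K), finrank_top, Module.finrank_self] at h1
    omega
  have hoff : ∀ b : K, Algebra.trace F K b = 0 → b • f ∈ C := fun b hb => by
    by_cases hb0 : b = 0
    · rw [hb0, zero_smul]; exact C.zero_mem
    obtain ⟨a, ha, hab⟩ : ∃ a ∈ LinearMap.ker (Algebra.trace F K), a ∉ Submodule.span F {b} :=
      SetLike.not_le_iff_exists.1 fun hle => by
        have := Submodule.finrank_mono hle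
        rw [finrank_span_singleton hb0] at this
        omega
    have ha' := LinearMap.mem_ker.1 ha
    obtain ⟨k, hka, hkb⟩ : ∃ k, Algebra.trace F K (k * a) = 1 ∧ Algebra.trace F K (k * b) = 0 := by
      obtain ⟨φ, hφa, hφb⟩ := Submodule.exists_le_ker_of_notMem hab
      obtain ⟨k₀, hk₀⟩ := ((Algebra.traceForm F K).toDual (traceForm_nondegenerate F K)).surjective φ
      have h : ∀ y, Algebra.trace F K (k₀ * y) = φ y := fun y => by
        rw [← Algebra.traceForm_apply, ← LinearMap.BilinForm.toDual_def (b := traceForm_nondegenerate F K), hk₀]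
      refine ⟨(φ a)⁻¹ • k₀, ?_, ?_⟩
      · rw [smul_mul_assoc, map_smul, h, smul_eq_mul, inv_mul_cancel₀ hφa]
      · rw [smul_mul_assoc, map_smul, h, LinearMap.mem_ker.1 (hφb (Submodule.mem_span_singleton_self b)), smul_zero]
    have hp : QuadraticMap.polar Q (a • f) (b • f) = 0 := E.polar_zero (by
      simp [QuadraticMap.polar_smul_left, QuadraticMap.polar_smul_right, quad_polar_self, S.sf])
    have hpol : ∀ c d : K, QuadraticMap.polar Q (c • v) (d • f) = Algebra.trace F K (c * d) := fun c d => by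
      rw [E.polar, QuadraticMap.polar_smul_left, QuadraticMap.polar_smul_right, S.vf]; simp [mul_comm]
    have hfixv : (eich Q (a • f) (b • f)).1 v = v := by
      have h1 := hpol 1 a
      have h2' := hpol 1 b
      rw [one_smul, one_mul] at h1 h2'
      rw [eich_apply Q (E.sing S.sf a) hp, h1, h2', ha', hb]
      simp
    have h := cen_move (hC ▸ hL k) (hline S.sf S.f0 a b) hfixv
    rw [eich_apply Q (E.sing S.sf a) hp, hpol, hpol, hka, hkb, E.sing S.sf b, zero_mul, add_zero, zero_smul,
      one_smul, sub_zero, add_sub_cancel_left] at h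
    exact hC ▸ h
  have hmid : ∀ k : K, k • e ∈ C := fun k => by
    obtain ⟨b, hb, hb0⟩ := Submodule.exists_mem_ne_zero_of_ne_bot (p := LinearMap.ker (Algebra.trace F K))
      fun h => by rw [h, finrank_bot] at hdim0; omega
    have h := cen_move (hC ▸ hoff b (LinearMap.mem_ker.1 hb)) (uu_mem' E hn S hM (k / b))
      (by simpa using uu_fix_v E S (k / b) 1)
    rw [uu_apply E S, QuadraticMap.polar_smul_left, QuadraticMap.polar_smul_left, S.fv, S.fe] at h
    have h' := (hC ▸ h : _ ∈ C)
    have h'' := C.add_mem h' (hL ((k / b) * (k / b) * algebraMap F K t * b))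
    convert h'' using 1
    simp only [smul_eq_mul, mul_one, mul_zero, zero_add, mul_div_cancel₀ _ hb0]
    module
  have hfull : EFull Q M v := fun w hw => by
    obtain ⟨a, b, c, rfl⟩ := S.span w
    rw [E.polar, QuadraticMap.polar_comm, S.pol_v] at hw
    have := C.add_mem (C.add_mem (hL a) (hmid b)) (hoff c hw)
    rw [hC] at this
    exact this.2
  obtain ⟨h, hv, -, -, p₁, p₂, hp₁, hp₂, heq, rfl⟩ := exists_flip E S
  obtain ⟨s, hs⟩ : ∃ s : K, Algebra.trace F K (algebraMap F K t * (s * s)) ≠ 0 := by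
    by_contra hc
    push Not at hc
    obtain ⟨x, hx⟩ := Algebra.trace_surjective F K 1
    refine S.t0 ?_
    have h1 : Algebra.trace F K (algebraMap F K t * x) = 0 := by
      rw [eq_sq_sub E.two' x, mul_sub, map_sub, hc, hc, sub_zero]
    rw [← Algebra.smul_def, map_smul, hx, smul_eq_mul, mul_one] at h1
    exact h1
  have hs0 : s ≠ 0 := fun h => hs (by rw [h]; simp)
  obtain ⟨g', hg'M, hg'v, -, -⟩ := exists_tor_mem E hn S hM hs0
  have hMel : E.lift (qRefl R hp₂ * qRefl R hp₁) * E.lift g' ∈ M :=
    M.mul_mem (hM _ (lift_pair_mem E hn hp₁ hp₂ heq) (isSemi_lift E _)) hg'M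
  have hfull' := efull_conj Q hMel hQv hfull
  rw [qAut_mul_apply, Over.lift_apply, Over.lift_apply, hg'v, map_smul, hv, smul_smul] at hfull'
  refine eichGroup_le_of_full Q E.polarNondeg (by omega) hQv (E.sing S.sf _) ?_ hfull hfull'
  rw [E.polar, QuadraticMap.polar_smul_right, S.vf, smul_eq_mul, mul_one, mul_neg, map_neg, neg_ne_zero, mul_comm]
  exact hs



/-- With a proper group of long root maps, stabilisers of the line are semilinear on it. -/
theorem line_semi (hr : (Module.finrank F K).Prime) (hr2 : Module.finrank F K ≠ 2)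
    (hnot : ¬ ∀ X : K →ₗ[F] K, IsSkew X → Long R M v X) {x : qAut Q} (hx : x ∈ M)
    {A : K ≃ₗ[F] K} (hA : ∀ k : K, x.1 (k • v) = A k • v) :
    ∃ l : K, l ≠ 0 ∧ ∃ τ : K ≃ₐ[F] K, ∀ k, A k = l * τ k := by
  classical
  by_cases hX : ∃ X ∈ lset R M S.sv, X ≠ (0 : K →ₗ[F] K)
  · obtain ⟨X₀, hX₀, hX₀0⟩ := hX
    obtain ⟨w, hw, hwL⟩ : ∃ w : K ≃ₐ[F] K, w ≠ 1 ∧ ∀ X ∈ lset R M S.sv, coef X w = 0 := by
      by_contra hc
      push Not at hc
      exact hnot fun X hX => mem_of_support hr hr2 E.two (fun Y hY => lset_skew E S hY)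
        (fun Y hY s hs => lset_scale E hn S hM hY hs) hX
        fun τ hτ => hc τ (fun h => hτ (h ▸ hX.coef_one E.two))
    refine exists_semi hr hr2 E.two (fun Y hY => lset_skew E S hY) (fun Y hY s hs => lset_scale E hn S hM hY hs)
      hX₀ hX₀0 hw hwL A (fun Y hY => lset_conj E hn S hM hx hA hY)
      fun Y hY => lset_conj E hn S hM (M.inv_mem hx) (fun k => ?_) hY
    apply x.1.injective
    rw [qApply_inv_self, hA, A.apply_symm_apply]
  · push Not at hX
    have hT : Tight R M v := fun g hg hfix => by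
      obtain ⟨w, z, hu⟩ := exists_uMap E S (g := g) ⟨fun k => hfix _ (by
        rw [QuadraticMap.polar_smul_left, Over.polar_self_zero S.sv, smul_zero]),
        fun y hy => ⟨0, by rw [hfix y hy, zero_smul, add_zero]⟩⟩
      have hw : w = 0 := by
        have h1 : (2 * t) • adjT w = 0 := LinearMap.ext fun k => smul_left_injective K S.v0 (by
          show ((2 * t) • adjT w) k • v = (0 : K) • v
          have h := hu.mid k
          rw [hfix _ (perp_vec S k)] at h
          rw [zero_smul, LinearMap.smul_apply, ← sub_eq_self.1 h.symm])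
        have h2 : adjT w = 0 := (smul_eq_zero.1 h1).resolve_left (mul_ne_zero E.two S.t0)
        rw [← adjT_adjT w, h2, adjT_zero]
      subst hw
      have hz : z = 0 := hX z (long_of_uMap E S hg hu)
      subst hz
      exact qext S (fun k => hu.line k) (fun k => hfix _ (perp_vec S k)) fun k => by
        rw [hu.top]; simp
    have hst : x ∈ qStab Q (lineF F (K := K) v) := mem_qStab_of_maps Q fun y hy => by
      obtain ⟨k, rfl⟩ := mem_lineF.1 hy
      exact mem_lineF.2 ⟨_, (hA k).symm⟩
    obtain ⟨l, hl, s, b, hAct, -⟩ := exists_act E S hn hM hT hx hst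
    exact ⟨l, hl, s, fun k => smul_left_injective K S.v0 ((hA k).symm.trans (hAct.line k))⟩

end CfsgLib.Classical22.OrthField.PrimeDeg
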