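/-
Field automorphisms on the coordinates and representatives commuting with a torus.
-/
import Cfsg.Agent.Lib.Classical22.OrthFieldPrime.Long

set_option autoImplicit false
set_option linter.all false

namespace CfsgLib.Classical22.OrthField.PrimeDeg

open CfsgLib.Classical CfsgLib.Classical22.OrthField.Cubic

universe u

variable {F : Type u} [Field F] {K : Type*} [Field K] [Algebra F K]
variable {V : Type u} [AddCommGroup V] [Module F V] [Module K V] [IsScalarTower F K V]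
variable {Q : QuadraticForm F V} {R : QuadraticForm K V} {M : Subgroup (qAut Q)}

/-- A scalar of the ground field as a map. -/
noncomputable abbrev cid (ε : F) : K →ₗ[F] K := ε • LinearMap.id

variable [Fintype F] [Fintype K] [FiniteDimensional F K] [FiniteDimensional F V] [FiniteDimensional K V]
variable (E : Over Q R) (hn : 5 ≤ Module.finrank F V) {v f e : V} {t : F} (S : Std R v f e t) (hM : SemiMem K M)
include E hn S hM

/-- The automorphisms act on the coordinates inside `M`. -/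
theorem exists_gal (hr : Odd (Module.finrank F K)) (τ : K ≃ₐ[F] K) :
    ∃ y ∈ M, Diag v f e y τ.toLinearMap τ.toLinearMap τ.toLinearMap := by
  have h2t : (2 : K) * algebraMap F K t ≠ 0 := mul_ne_zero E.two' S.t0'
  obtain ⟨L, hL⟩ : ∃ L : (K ≃ₐ[F] K) → V →ₗ[F] V, ∀ ω a b c,
      L ω (a • v + b • e + c • f) = ω a • v + ω b • e + ω c • f := by
    refine ⟨fun ω =>
      (LinearMap.toSpanSingleton K V v).restrictScalars F ∘ₗ ω.toLinearMap ∘ₗ
        ((QuadraticMap.polarBilin R).flip f).restrictScalars F +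
      (LinearMap.toSpanSingleton K V e).restrictScalars F ∘ₗ ω.toLinearMap ∘ₗ
        LinearMap.mulRight F (2 * algebraMap F K t)⁻¹ ∘ₗ ((QuadraticMap.polarBilin R).flip e).restrictScalars F +
      (LinearMap.toSpanSingleton K V f).restrictScalars F ∘ₗ ω.toLinearMap ∘ₗ
        ((QuadraticMap.polarBilin R).flip v).restrictScalars F, fun ω a b c => ?_⟩
    simp only [LinearMap.add_apply, LinearMap.comp_apply, LinearMap.coe_restrictScalars, LinearMap.flip_apply,
      QuadraticMap.polarBilin_apply_apply, S.pol_f, S.pol_e, S.pol_v, LinearMap.mulRight_apply,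
      LinearMap.toSpanSingleton_apply, AlgEquiv.toLinearMap_apply, mul_assoc, mul_inv_cancel₀ h2t, mul_one]
  have hinv : ∀ ω x, L ω⁻¹ (L ω x) = x := fun ω x => by
    obtain ⟨a, b, c, rfl⟩ := S.span x
    rw [hL, hL]
    simp [AlgEquiv.aut_inv]
  obtain ⟨y, hy⟩ : ∃ y : (K ≃ₐ[F] K) → qAut Q, ∀ ω x, (y ω).1 x = L ω x := by
    refine ⟨fun ω => ⟨LinearEquiv.ofLinear (L ω) (L ω⁻¹) (LinearMap.ext fun x => ?_)
      (LinearMap.ext fun x => hinv ω x), fun x => ?_⟩, fun ω x => rfl⟩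
    · have := hinv ω⁻¹ x; rwa [inv_inv] at this
    · show Q (L ω x) = Q x
      obtain ⟨a, b, c, rfl⟩ := S.span x
      rw [hL, E.quad, E.quad, S.quad, S.quad, ← Algebra.trace_eq_of_algEquiv ω (a * c + b * b * algebraMap F K t)]
      simp only [map_add, map_mul, AlgEquiv.commutes]
  have hmul : ∀ ω ω', y (ω * ω') = y ω * y ω' := fun ω ω' => qAut_ext fun x => by
    obtain ⟨a, b, c, rfl⟩ := S.span x
    rw [qAut_mul_apply, hy, hy, hy, hL, hL, hL]; rfl
  refine ⟨y τ, hM _ ?_ fun k => ⟨τ k, fun x => ?_⟩, fun k => ?_, fun k => ?_, fun k => ?_⟩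
  · obtain ⟨m, hm⟩ := hr
    have e1 : τ = τ ^ (m + 1) * τ ^ (m + 1) := by
      rw [← pow_add, show m + 1 + (m + 1) = Module.finrank F K + 1 by omega, pow_succ, ← IsGalois.card_aut_eq_finrank,
        pow_card_eq_one', one_mul]
    rw [e1, hmul, eichGroup_eq_commutator Q E.polarNondeg hn]
    exact Spin.sq_mem_commutator Q E.polarNondeg (Or.inr (by omega)) _
  · obtain ⟨a, b, c, rfl⟩ := S.span x
    rw [hy, hy, smul_add, smul_add, smul_smul, smul_smul, smul_smul, hL, hL, smul_add, smul_add, smul_smul,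
      smul_smul, smul_smul, map_mul, map_mul, map_mul]
  · have := hL τ k 0 0
    simp only [map_zero, zero_smul, add_zero] at this
    rw [hy, this]; rfl
  · have := hL τ 0 k 0
    simp only [map_zero, zero_smul, add_zero, zero_add] at this
    rw [hy, this]; rfl
  · have := hL τ 0 0 k
    simp only [map_zero, zero_smul, add_zero, zero_add] at this
    rw [hy, this]; rfl

/-- A torus element with free action. -/
theorem exists_free_tor (hr : (Module.finrank F K).Prime) (hr2 : Module.finrank F K ≠ 2) :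
    ∃ (c : K) (T : qAut Q), c ≠ 0 ∧ c ≠ 1 ∧ (∀ τ : K ≃ₐ[F] K, c * τ c ≠ 1) ∧ T ∈ M ∧
      Diag v f e T (LinearMap.mulLeft F c) LinearMap.id (LinearMap.mulLeft F c⁻¹) := by
  obtain ⟨p, hp⟩ := CharP.exists K
  haveI hpf : Fact p.Prime := ⟨CharP.char_is_prime K p⟩
  have hp3 : 3 ≤ p := by
    have hp2 : p ≠ 2 := fun h => E.two' (by subst h; exact CharTwo.two_eq_zero)
    have := hpf.out.two_le
    omega
  have h27 := twenty_seven_le hr hr2 E.two
  obtain ⟨s, hs⟩ := exists_gen K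
  obtain ⟨g, hg, hgv, hgf, hge⟩ := exists_tor_mem E hn S hM s.ne_zero
  have h := scale_ne_one (p := p) hp3 h27 hs
  refine ⟨(s : K) * s, E.lift g, mul_ne_zero s.ne_zero s.ne_zero, fun h1 => h (RingEquiv.refl K) (by simp [h1]),
    fun τ => h (τ : K ≃+* K), hg, fun k => ?_, fun k => ?_, fun k => ?_⟩
  · rw [Over.lift_apply, map_smul, hgv, smul_smul, LinearMap.mulLeft_apply, mul_comm]
  · rw [Over.lift_apply, map_smul, hge]; rfl
  · rw [Over.lift_apply, map_smul, hgf, smul_smul, LinearMap.mulLeft_apply, mul_comm]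

variable (hr : (Module.finrank F K).Prime) (hr2 : Module.finrank F K ≠ 2)
include hr hr2

/-- An element with scalar action on the line has a representative preserving the coordinate lines. -/
theorem exists_pure {x : qAut Q} (hx : x ∈ M) {ε : F} (hε : ε * ε = 1) {B : K ≃ₗ[F] K}
    (hA : Act2 v e x (cid ε) B.toLinearMap) :
    ∃ h ∈ M, Diag v f e h (cid ε) B.toLinearMap (cid ε) := by
  classical
  haveI : Finite V := Module.finite_of_finite F
  haveI : Finite (V ≃ₗ[F] V) := Finite.of_injective _ DFunLike.coe_injective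
  obtain ⟨c, T, hc0, hc1, hcτ, hT, hTd⟩ := exists_free_tor E hn S hM hr hr2
  have h2 := E.two'
  have hc1' : c⁻¹ - 1 ≠ 0 := sub_ne_zero.2 fun h => hc1 (by rwa [inv_eq_one] at h)
  have hzero : ∀ (β : K → K), (∀ a b, β (a - b) = β a - β b) → (∀ k, β (c⁻¹ * k) = β k) → ∀ k, β k = 0 := by
    intro β hsub hβ k
    have := hsub (c⁻¹ * ((c⁻¹ - 1)⁻¹ * k)) ((c⁻¹ - 1)⁻¹ * k)
    rw [hβ, sub_self, ← sub_one_mul, ← mul_assoc, mul_inv_cancel₀ hc1', one_mul] at this
    exact this
  have halpha : ∀ α : K →ₗ[F] K, (∀ k, α (c⁻¹ * k) = c * α k) → α = 0 := fun α hα => by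
    refine coef_inj fun τ => ?_
    have e1 : coef (α ∘ₗ LinearMap.mulLeft F c⁻¹) τ = coef α τ * τ c⁻¹ :=
      congrFun (coef_unique (a := fun τ => coef α τ * τ c⁻¹) fun x => by
        rw [LinearMap.comp_apply, LinearMap.mulLeft_apply, apply_eq_sum α]
        exact Finset.sum_congr rfl fun ω _ => by rw [map_mul]; ring) τ
    have e2 : coef (c • α) τ = c * coef α τ := coef_smul c α τ
    rw [show α ∘ₗ LinearMap.mulLeft F c⁻¹ = c • α from LinearMap.ext hα, e2, map_inv₀] at e1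
    have hτ0 : τ c ≠ 0 := (map_ne_zero τ).2 hc0
    rw [← div_eq_mul_inv, eq_div_iff hτ0] at e1
    rw [coef_zero]
    have e3 : coef α τ * (c * τ c - 1) = 0 := by linear_combination e1
    exact (mul_eq_zero.1 e3).resolve_right (sub_ne_zero.2 (hcτ τ))
  have hst : ∀ {g : qAut Q} {A B : K →ₗ[F] K}, Act2 v e g A B → g ∈ qStab Q (lineF F (K := K) v) :=
    fun hg => mem_qStab_of_maps Q fun y hy => by
      obtain ⟨k, rfl⟩ := mem_lineF.1 hy
      exact mem_lineF.2 ⟨_, (hg.line k).symm⟩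
  let P := {ρ : qAut Q // ρ ∈ M ∧ InRad R v ρ}
  -- nothing radical commutes with the torus
  have hfree : ∀ ρ : qAut Q, InRad R v ρ → Commute ρ T → ρ = 1 := by
    intro ρ hρ hcomm
    obtain ⟨w, z, hu⟩ := exists_uMap E S hρ
    have hk : ∀ k : K, z (c⁻¹ * k) = c * z k ∧ w (c⁻¹ * k) = w k := fun k => by
      have h : (ρ * T).1 (k • f) = (T * ρ).1 (k • f) := by rw [hcomm.eq]
      rw [qAut_mul_apply, qAut_mul_apply, hTd.top, hu.top, hu.top, map_add, map_add, hTd.line, hTd.mid, hTd.top] at h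
      simp only [LinearMap.mulLeft_apply, LinearMap.id_apply] at h
      obtain ⟨h1, h3, -⟩ := co_inj S h2 h
      exact ⟨h1, h3⟩
    have hw : w = 0 := LinearMap.ext fun k => hzero w (map_sub w) (fun k => (hk k).2) k
    have hz : z = 0 := halpha z fun k => (hk k).1
    subst hw hz
    exact qext S (fun k => hu.line k) (fun k => by rw [hu.mid, adjT_zero]; simp)
      fun k => by rw [hu.top]; simp
  have hTst := hst hTd.act
  let j : P → P := fun ρ => ⟨ρ.1 * T * ρ.1⁻¹ * T⁻¹,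
    M.mul_mem (M.mul_mem (M.mul_mem ρ.2.1 hT) (M.inv_mem ρ.2.1)) (M.inv_mem hT), by
      rw [show ρ.1 * T * ρ.1⁻¹ * T⁻¹ = ρ.1 * (T * ρ.1⁻¹ * T⁻¹) by group]
      exact inRad_mul E S ρ.2.2 (inRad_conj E S hTst (inRad_inv E S ρ.2.2))⟩
  have hj : Function.Injective j := fun ρ ρ' h => by
    have h' : ρ.1 * T * ρ.1⁻¹ * T⁻¹ = ρ'.1 * T * ρ'.1⁻¹ * T⁻¹ := congrArg Subtype.val h
    have h'' : (ρ'.1⁻¹ * ρ.1) * T = T * (ρ'.1⁻¹ * ρ.1) := by
      have := congrArg (fun g => ρ'.1⁻¹ * (g * T) * ρ.1) h'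
      simp only [mul_assoc, inv_mul_cancel_left, inv_mul_cancel, mul_one] at this ⊢
      exact this
    exact Subtype.ext (inv_mul_eq_one.1 (hfree _ (inRad_mul E S (inRad_inv E S ρ'.2.2) ρ.2.2) h'')).symm
  -- the commutator with the torus is radical
  have hcom : InRad R v (x * T * x⁻¹ * T⁻¹) := by
    obtain ⟨y, hy⟩ : ∃ y, y = x * T * x⁻¹ * T⁻¹ := ⟨_, rfl⟩
    rw [← hy]
    have heq : y * T * x = x * T := by rw [hy]; group
    have key : ∀ z, y.1 (T.1 (x.1 z)) = x.1 (T.1 z) := fun z => by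
      rw [← qAut_mul_apply, ← qAut_mul_apply, heq, qAut_mul_apply]
    have hl : ∀ k : K, y.1 (k • v) = k • v := fun k => by
      have h := key ((ε • (c⁻¹ * k)) • v)
      rw [hA.line, hTd.line, hTd.line, hA.line] at h
      simp only [LinearMap.smul_apply, LinearMap.id_apply, LinearMap.mulLeft_apply, mul_smul_comm, smul_smul, hε,
        one_smul, ← mul_assoc, mul_inv_cancel₀ hc0, one_mul] at h
      exact h
    refine ⟨hl, fun z hz => ?_⟩
    obtain ⟨a, b, rfl⟩ := S.perp_form hz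
    obtain ⟨a', ha'⟩ := hA.mid (B.symm b)
    have h := key (B.symm b • e)
    rw [hTd.mid, LinearMap.id_apply, ha', map_add, hTd.line, hTd.mid, LinearMap.id_apply, map_add, hl] at h
    simp only [LinearEquiv.coe_coe, B.apply_symm_apply] at h
    refine ⟨a' - (LinearMap.mulLeft F c) a', ?_⟩
    rw [map_add, hl]
    linear_combination (norm := module) h
  haveI : Finite P := Subtype.finite
  obtain ⟨ρ, hρ⟩ := (Finite.injective_iff_surjective.1 hj)
    ⟨_, M.mul_mem (M.mul_mem (M.mul_mem hx hT) (M.inv_mem hx)) (M.inv_mem hT), hcom⟩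
  obtain ⟨y, hy⟩ : ∃ y, y = ρ.1⁻¹ * x := ⟨_, rfl⟩
  have hρ' : ρ.1 * T * ρ.1⁻¹ * T⁻¹ = x * T * x⁻¹ * T⁻¹ := congrArg Subtype.val hρ
  have hyT : ∀ z, y.1 (T.1 z) = T.1 (y.1 z) := fun z => by
    have e : y * T = T * y := by
      rw [hy]
      have := congrArg (fun g => ρ.1⁻¹ * (g * T) * x) hρ'
      simp only [mul_assoc, inv_mul_cancel_left, inv_mul_cancel, mul_one] at this ⊢
      exact this.symm
    rw [← qAut_mul_apply, e, qAut_mul_apply]
  have hy1 : Act2 v e y (cid ε) B.toLinearMap := by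
    have hρi := inRad_inv E S ρ.2.2
    refine ⟨fun k => by rw [hy, qAut_mul_apply, hA.line, hρi.1], fun k => ?_⟩
    obtain ⟨a, ha⟩ := hA.mid k
    obtain ⟨a', ha'⟩ := hρi.2 _ (perp_vec S (B.toLinearMap k))
    exact ⟨a + a', by rw [hy, qAut_mul_apply, ha, map_add, hρi.1, ha', add_smul]; abel⟩
  have hye : ∀ k : K, y.1 (k • e) = B k • e := fun k => by
    obtain ⟨a, ha⟩ := hy1.mid k
    have h := hyT (k • e)
    rw [hTd.mid, LinearMap.id_apply, ha, map_add, hTd.line, hTd.mid, LinearMap.id_apply, LinearMap.mulLeft_apply] at h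
    have h' : ((c - 1) * a) • v = 0 := by linear_combination (norm := module) -h
    rw [smul_eq_zero, mul_eq_zero] at h'
    rw [ha, (h'.resolve_right S.v0).resolve_left (sub_ne_zero.2 hc1), zero_smul, zero_add]
    rfl
  refine ⟨y, hy ▸ M.mul_mem (M.inv_mem ρ.2.1) hx, hy1.line, hye, fun k => ?_⟩
  obtain ⟨α, hα⟩ : ∃ α : K →ₗ[F] K, ∀ k, α k = QuadraticMap.polar R (y.1 (k • f)) f :=
    ⟨((QuadraticMap.polarBilin R).flip f).restrictScalars F ∘ₗ y.1.toLinearMap ∘ₗ
      (LinearMap.toSpanSingleton K V f).restrictScalars F, fun k => by simp⟩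
  obtain ⟨β, hβ⟩ : ∃ β : K →ₗ[F] K, ∀ k, β k = QuadraticMap.polar R (y.1 (k • f)) e :=
    ⟨((QuadraticMap.polarBilin R).flip e).restrictScalars F ∘ₗ y.1.toLinearMap ∘ₗ
      (LinearMap.toSpanSingleton K V f).restrictScalars F, fun k => by simp⟩
  have hTy : ∀ k : K, y.1 ((c⁻¹ * k) • f) = T.1 (y.1 (k • f)) := fun k => by
    rw [← hyT, hTd.top, LinearMap.mulLeft_apply]
  have hT' : ∀ a b d : K, T.1 (a • v + b • e + d • f) = (c * a) • v + b • e + (c⁻¹ * d) • f := fun a b d => by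
    rw [map_add, map_add, hTd.line, hTd.mid, hTd.top]; rfl
  have hα0 : α = 0 := halpha α fun k => by
    obtain ⟨a, b, d, h⟩ := S.span (y.1 (k • f))
    rw [hα, hα, hTy, h, hT', S.pol_f, S.pol_f]
  have hβ0 : ∀ k, β k = 0 := hzero β (map_sub β) fun k => by
    obtain ⟨a, b, d, h⟩ := S.span (y.1 (k • f))
    rw [hβ, hβ, hTy, h, hT', S.pol_e, S.pol_e]
  obtain ⟨a, b, d, h⟩ := S.span (y.1 (k • f))
  have ha : a = 0 := by
    have := hα k
    rw [hα0, h, S.pol_f] at this
    exact this.symm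
  have hb : b = 0 := by
    have := hβ k
    rw [hβ0, h, S.pol_e] at this
    exact (mul_eq_zero.1 this.symm).resolve_right (mul_ne_zero h2 S.t0')
  have hd : d = ε • k := trace_ext' (F := F) fun l => by
    have h' := qAut_polar y (k • f) ((ε • l) • v)
    rw [hy1.line, h, E.polar, E.polar, QuadraticMap.polar_smul_right, QuadraticMap.polar_smul_right, S.pol_v,
      QuadraticMap.polar_smul_left, S.fv] at h'
    simp only [LinearMap.smul_apply, LinearMap.id_apply, smul_smul, hε, one_smul, smul_eq_mul, mul_one] at h'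
    rw [h', smul_mul_assoc, mul_smul_comm]
  rw [h, ha, hb, hd, zero_smul, zero_smul, zero_add, zero_add]
  rfl

/-- The shape of an element of the stabiliser of the line fixing or negating the vector. -/
theorem exists_split (hnot : ¬ ∀ X : K →ₗ[F] K, IsSkew X → Long R M v X) {x : qAut Q} (hx : x ∈ M)
    (hst : x ∈ qStab Q (lineF F (K := K) v)) {ε : F} (hε : ε * ε = 1) (hxv : x.1 v = ε • v) :
    ∃ (τ : K ≃ₐ[F] K) (B : K ≃ₗ[F] K) (h : qAut Q), h ∈ M ∧ Diag v f e h (cid ε) B.toLinearMap (cid ε) ∧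
      Act2 v e x (cid ε ∘ₗ τ.toLinearMap) (B.toLinearMap ∘ₗ τ.toLinearMap) := by
  obtain ⟨A, B₀, hA, -⟩ := exists_act2 E S hst
  obtain ⟨l, hl, τ, hτ⟩ := line_semi E hn S hM hr hr2 hnot hx hA.line
  have hl1 : l = algebraMap F K ε := by
    refine smul_left_injective K S.v0 ?_
    show l • v = algebraMap F K ε • v
    have h := hA.line 1
    rw [one_smul, hxv, LinearEquiv.coe_coe, hτ, map_one, mul_one] at h
    rw [← h, algebraMap_smul]
  have hodd : Odd (Module.finrank F K) := hr.odd_of_ne_two hr2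
  obtain ⟨y, hy, hyd⟩ := exists_gal E hn S hM hodd τ⁻¹
  have h := hA.mul hyd.act
  have e1 : A.toLinearMap ∘ₗ (τ⁻¹).toLinearMap = cid ε := LinearMap.ext fun k => by
    show A (τ⁻¹ k) = ε • k
    rw [hτ, AlgEquiv.aut_inv, AlgEquiv.apply_symm_apply, hl1, Algebra.smul_def]
  rw [e1] at h
  obtain ⟨g, hg, hgd⟩ := exists_pure E hn S hM hr hr2 (M.mul_mem hx hy) hε (B := τ⁻¹.toLinearEquiv.trans B₀) h
  refine ⟨τ, _, g, hg, hgd, fun k => ?_, fun k => ?_⟩
  · rw [hA.line, LinearEquiv.coe_coe, hτ, hl1]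
    show _ = (ε • τ k) • v
    rw [Algebra.smul_def]
  · obtain ⟨a, ha⟩ := hA.mid k
    refine ⟨a, ha.trans ?_⟩
    show _ = a • v + B₀ (τ⁻¹ (τ k)) • e
    rw [AlgEquiv.aut_inv, AlgEquiv.symm_apply_apply]
    rfl

end CfsgLib.Classical22.OrthField.PrimeDeg
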