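/-
Elements of the group supported on an axis are involutions there.
-/
import Cfsg.Agent.Lib.Classical22.OrthFieldPrime.Torus
import Mathlib.RingTheory.Adjoin.Basic

set_option autoImplicit false
set_option linter.all false

namespace CfsgLib.Classical22.OrthField.PrimeDeg

open CfsgLib.Classical CfsgLib.Classical22.OrthField.Cubic

universe u

variable {F : Type u} [Field F] {K : Type*} [Field K] [Algebra F K]
variable {V : Type u} [AddCommGroup V] [Module F V] [Module K V] [IsScalarTower F K V]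
variable {Q : QuadraticForm F V} {R : QuadraticForm K V} {M : Subgroup (qAut Q)}
variable [Fintype F] [Fintype K] [FiniteDimensional F K] [FiniteDimensional F V] [FiniteDimensional K V]
variable (E : Over Q R) (hn : 5 ≤ Module.finrank F V) {v f e : V} {t : F} (S : Std R v f e t) (hM : SemiMem K M)

omit [Fintype F] [FiniteDimensional F V] [FiniteDimensional K V] in
include E S in
/-- The middle part is orthogonal. -/
theorem Diag.adj_comp {h : qAut Q} {A B C : K →ₗ[F] K} (hd : Diag v f e h A B C) : adjT B ∘ₗ B = LinearMap.id :=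
  LinearMap.ext fun b => trace_ext' (F := F) fun a => by
    have h' := qAut_polar h (a • e) (b • e)
    have e1 := qpol S E 0 (B a) 0 0 (B b) 0
    have e2 := qpol S E 0 a 0 0 b 0
    simp only [zero_smul, add_zero, zero_add, mul_zero, map_zero] at e1 e2
    rw [hd.mid, hd.mid, e1, e2, smul_eq_mul, smul_eq_mul] at h'
    rw [LinearMap.comp_apply, LinearMap.id_apply, ← trace_adjT]
    exact mul_left_cancel₀ (mul_ne_zero E.two S.t0) h'

/-- The parts occurring in `M`. -/
def WMem (M : Subgroup (qAut Q)) (v f e : V) (t : F) (w : K →ₗ[F] K) : Prop :=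
  ∃ g ∈ M, ∃ z, UMap v f e t g w z

include E hn S hM

omit hn hM [Fintype F] [FiniteDimensional F V] [FiniteDimensional K V] in
lemma WMem.add {w w' : K →ₗ[F] K} (h : WMem M v f e t w) (h' : WMem M v f e t w') : WMem M v f e t (w + w') := by
  obtain ⟨g, hg, z, hu⟩ := h
  obtain ⟨g', hg', z', hu'⟩ := h'
  exact ⟨g * g', M.mul_mem hg hg', _, hu.mul E S hu'⟩

lemma wmem_mulLeft (c : K) : WMem M v f e t (LinearMap.mulLeft F c) :=
  ⟨_, uu_mem' E hn S hM c, _, uMap_uu E S c⟩

omit hn hM in
/-- Conjugation by an element preserving the coordinate lines. -/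
theorem uMap_conj {h g : qAut Q} {ε : F} (hε : ε * ε = 1) {B : K →ₗ[F] K} (hd : Diag v f e h (cid ε) B (cid ε))
    {w z : K →ₗ[F] K} (hu : UMap v f e t g w z) : UMap v f e t (h * g * h⁻¹) (ε • (B ∘ₗ w)) z := by
  have hst : h ∈ qStab Q (lineF F (K := K) v) := mem_qStab_of_maps Q fun y hy => by
    obtain ⟨k, rfl⟩ := mem_lineF.1 hy
    exact mem_lineF.2 ⟨_, (hd.line k).symm⟩
  refine uMap_of_top E S (inRad_conj E S hst (hu.inRad S)) fun k => ?_
  have h1 : (h⁻¹).1 (k • f) = (ε • k) • f := h.1.injective (by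
    rw [qApply_inv_self, hd.top]
    simp [smul_smul, hε])
  rw [qAut_mul_apply, qAut_mul_apply, h1, hu.top, map_add, map_add, hd.line, hd.mid, hd.top]
  simp only [LinearMap.smul_apply, LinearMap.id_apply, LinearMap.comp_apply, map_smul, smul_smul, hε, one_smul]

omit hn hM [Fintype F] [FiniteDimensional F V] [FiniteDimensional K V] in
/-- The commutator of two elements is long. -/
theorem comm_mem {w w' : K →ₗ[F] K} (h : WMem M v f e t w) (h' : WMem M v f e t w') :
    Long R M v (-((2 * t) • (adjT w ∘ₗ w' - adjT w' ∘ₗ w))) := by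
  obtain ⟨g, hg, z, hu⟩ := h
  obtain ⟨g', hg', z', hu'⟩ := h'
  have h1 := hu.mul E S hu'
  have h2 := (hu'.mul E S hu).inv E S
  have h3 := h1.mul E S h2
  rw [show w + w' + -(w' + w) = 0 by abel] at h3
  refine (?_ : _ = -((2 * t) • (adjT w ∘ₗ w' - adjT w' ∘ₗ w))) ▸
    long_of_uMap E S (M.mul_mem (M.mul_mem hg hg') (M.inv_mem (M.mul_mem hg' hg))) h3
  rw [add_comm w w', LinearMap.comp_neg, smul_neg]
  generalize (2 * t) • (adjT (w' + w) ∘ₗ (w' + w)) = Z
  module

/-- The adjoint on endomorphisms. -/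
noncomputable def eadj (X : Module.End F K) : Module.End F K := adjT X

/-- The algebra of an axis map. -/
noncomputable abbrev axisAlg (B : Module.End F K) : Subalgebra F (Module.End F K) := Algebra.adjoin F {B}

section alg

omit E hn S hM

lemma eadj_mul (X Y : Module.End F K) : eadj (X * Y) = eadj Y * eadj X := adjT_comp X Y

lemma eadj_one : eadj (1 : Module.End F K) = 1 := adjT_id

lemma eadj_add (X Y : Module.End F K) : eadj (X + Y) = eadj X + eadj Y := adjT_add X Y

lemma eadj_sub (X Y : Module.End F K) : eadj (X - Y) = eadj X - eadj Y := adjT_sub X Y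

lemma eadj_neg (X : Module.End F K) : eadj (-X) = -eadj X := adjT_neg X

lemma eadj_smul (a : F) (X : Module.End F K) : eadj (a • X) = a • eadj X := adjT_smulF a X

lemma eadj_eadj (X : Module.End F K) : eadj (eadj X) = X := adjT_adjT X

lemma end_neg_mul (X Y : Module.End F K) : (-X) * Y = -(X * Y) := LinearMap.ext fun k => rfl

lemma end_mul_neg (X Y : Module.End F K) : X * (-Y) = -(X * Y) := LinearMap.ext fun k => map_neg X _

lemma axisAlg_comm {B x y : Module.End F K} (hx : x ∈ axisAlg B) (hy : y ∈ axisAlg B) : x * y = y * x := by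
  rw [axisAlg, Algebra.adjoin_singleton_eq_range_aeval] at hx hy
  obtain ⟨P, rfl⟩ := hx
  obtain ⟨P', rfl⟩ := hy
  show Polynomial.aeval B P * Polynomial.aeval B P' = Polynomial.aeval B P' * Polynomial.aeval B P
  rw [← map_mul, ← map_mul, mul_comm]

lemma eadj_mem_axisAlg {B : Module.End F K} (hB : eadj B * B = 1) {x : Module.End F K} (hx : x ∈ axisAlg B) :
    eadj x ∈ axisAlg B := by
  have hBi : eadj B ∈ axisAlg B := by
    obtain ⟨u, hu⟩ : IsUnit B := IsUnit.of_mul_eq_one_right _ hB
    haveI : Finite (Module.End F K) := Finite.of_injective (fun g : Module.End F K => (g : K → K)) DFunLike.coe_injective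
    obtain ⟨m, hm, he⟩ := isOfFinOrder_iff_pow_eq_one.1 (isOfFinOrder_of_finite u)
    have hpow : B ^ m = 1 := by rw [← hu, ← Units.val_pow_eq_pow_val, he, Units.val_one]
    obtain ⟨m, rfl⟩ : ∃ m', m = m' + 1 := ⟨m - 1, by omega⟩
    have e : eadj B = B ^ m := by
      have h1 : eadj B * B ^ (m + 1) = eadj B := by rw [hpow, mul_one]
      rw [← h1, pow_succ', ← mul_assoc, hB, one_mul]
    rw [e]
    exact pow_mem (Algebra.self_mem_adjoin_singleton F B) m
  induction hx using Algebra.adjoin_induction with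
  | mem y hy => rw [Set.mem_singleton_iff.1 hy]; exact hBi
  | algebraMap r =>
    rw [show eadj (algebraMap F (Module.End F K) r) = algebraMap F (Module.End F K) r by
      rw [Algebra.algebraMap_eq_smul_one, eadj_smul, eadj_one]]
    exact Subalgebra.algebraMap_mem _ r
  | add x y _ _ hx hy => rw [eadj_add]; exact add_mem hx hy
  | mul x y _ _ hx hy => rw [eadj_mul]; exact mul_mem hy hx

/-- Injective members of the algebra are invertible inside it. -/
lemma axisAlg_inv {B w : Module.End F K} (hw : w ∈ axisAlg B) (hinj : Function.Injective w) :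
    ∃ wi ∈ axisAlg B, w * wi = 1 := by
  obtain ⟨L, hL⟩ : ∃ L : axisAlg B →ₗ[F] axisAlg B, ∀ y, L y = ⟨w, hw⟩ * y :=
    ⟨LinearMap.mulLeft F ⟨w, hw⟩, fun y => rfl⟩
  have hLi : Function.Injective L := fun a b h => Subtype.ext (LinearMap.ext fun k => hinj (by
    rw [hL, hL] at h
    exact LinearMap.congr_fun (congrArg Subtype.val h) k))
  obtain ⟨y, hy⟩ := (LinearMap.injective_iff_surjective (f := L)).1 hLi (1 : axisAlg B)
  exact ⟨y, y.2, congrArg Subtype.val ((hL y).symm.trans hy)⟩

lemma coef_mono_same (τ : K ≃ₐ[F] K) (a : K) : coef (mono τ a) τ = a := by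
  classical
  rw [coef_mono]; simp

lemma coef_mono_ne {τ x : K ≃ₐ[F] K} (h : x ≠ τ) (a : K) : coef (mono τ a) x = 0 := by
  classical
  rw [coef_mono]; simp [h]

/-- The adjoint of one term. -/
lemma eadj_mono (τ : K ≃ₐ[F] K) (m : K) : eadj (mono τ m) = mono τ⁻¹ (τ⁻¹ m) := adjT_unique fun x y => by
  rw [mono_apply, mono_apply, ← Algebra.trace_eq_of_algEquiv τ (x * (τ⁻¹ m * τ⁻¹ y))]
  simp only [map_mul, AlgEquiv.aut_inv, AlgEquiv.apply_symm_apply]
  congr 1
  ring

/-- The adjoint of one term times the term. -/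
lemma eadj_mono_mul (τ : K ≃ₐ[F] K) (m : K) :
    eadj (mono τ m) * mono τ m = LinearMap.mulLeft F (τ⁻¹ (m * m)) := LinearMap.ext fun k => by
  rw [eadj_mono, Module.End.mul_apply, mono_apply, mono_apply, LinearMap.mulLeft_apply]
  simp only [map_mul, AlgEquiv.aut_inv, AlgEquiv.symm_apply_apply]
  ring

end alg

variable {h : qAut Q} {ε : F} (hε : ε * ε = 1) {B : Module.End F K} (hh : h ∈ M) (hd : Diag v f e h (cid ε) B (cid ε))

omit hn hM [Fintype F] [FiniteDimensional F V] [FiniteDimensional K V] in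
include hd in
lemma eadj_axis : eadj B * B = 1 := hd.adj_comp E S

include hε hh hd

/-- Every member of the algebra of the axis map occurs. -/
theorem exists_in_axisAlg {w : Module.End F K} (hw : w ∈ axisAlg B) :
    ∃ g ∈ M, ∃ z ∈ axisAlg B, UMap v f e t g w z := by
  have hmem : ∀ {y : Module.End F K}, y ∈ Submodule.span F (Set.range fun i : ℕ => B ^ i) → y ∈ axisAlg B :=
    fun hy => by
      refine (Submodule.span_le (p := Subalgebra.toSubmodule (axisAlg B))).2 ?_ hy
      rintro _ ⟨i, rfl⟩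
      exact pow_mem (Algebra.self_mem_adjoin_singleton F B) i
  have h1 : w ∈ Submodule.span F (Set.range fun i : ℕ => B ^ i) := by
    have := (Algebra.adjoin_eq_span F ({B} : Set (Module.End F K))).le hw
    rwa [← Submonoid.powers_eq_closure] at this
  suffices hs : ∀ c : F, ∃ g ∈ M, ∃ z ∈ axisAlg B, UMap v f e t g (c • w) z by simpa using hs 1
  clear hw
  induction h1 using Submodule.span_induction with
  | mem y hy =>
    obtain ⟨i, rfl⟩ := hy
    intro c
    induction i generalizing c with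
    | zero =>
      refine ⟨_, uu_mem' E hn S hM (algebraMap F K c),
        LinearMap.mulLeft F (-(algebraMap F K c * algebraMap F K c * algebraMap F K t)), ?_, ?_⟩
      rotate_left
      · have := uMap_uu E S (algebraMap F K c)
        convert this using 1
        exact LinearMap.ext fun k => by simp [Algebra.smul_def]
      · rw [show LinearMap.mulLeft F (-(algebraMap F K c * algebraMap F K c * algebraMap F K t)) =
          algebraMap F (Module.End F K) (-(c * c * t)) from LinearMap.ext fun k => by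
            simp [Module.algebraMap_end_apply, Algebra.smul_def]; ring]
        exact Subalgebra.algebraMap_mem _ _
    | succ i ih =>
      obtain ⟨g, hg, z, hz, hu⟩ := ih (ε * c)
      refine ⟨h * g * h⁻¹, M.mul_mem (M.mul_mem hh hg) (M.inv_mem hh), z, hz, ?_⟩
      have h' := uMap_conj E S hε hd hu
      rw [LinearMap.comp_smul, smul_smul, ← mul_assoc, hε, one_mul] at h'
      show UMap v f e t _ (c • B ^ (i + 1)) z
      rw [pow_succ', Module.End.mul_eq_comp]
      exact h'
  | zero =>
    intro c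
    exact ⟨1, M.one_mem, 0, zero_mem _, by rw [smul_zero]; exact uMap_one E S⟩
  | add x y hx hy ihx ihy =>
    intro c
    obtain ⟨g, hg, z, hz, hu⟩ := ihx c
    obtain ⟨g', hg', z', hz', hu'⟩ := ihy c
    refine ⟨g * g', M.mul_mem hg hg', z + z' - (2 * t) • (eadj (c • x) * (c • y)), ?_,
      by rw [smul_add]; exact hu.mul E S hu'⟩
    exact sub_mem (add_mem hz hz') (Subalgebra.smul_mem _ (mul_mem
      (eadj_mem_axisAlg (eadj_axis E S hd) (Subalgebra.smul_mem _ (hmem hx) c))
      (Subalgebra.smul_mem _ (hmem hy) c)) _)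
  | smul a x _ ih =>
    intro c
    rw [smul_smul]
    exact ih (c * a)

/-- Prescribed parts in the algebra. -/
theorem exists_uMap_mem {w z : Module.End F K} (hw : w ∈ axisAlg B) (hz : z ∈ axisAlg B)
    (hrel : z + eadj z = -((2 * t) • (eadj w * w))) : ∃ g ∈ M, UMap v f e t g w z := by
  obtain ⟨g, hg, z₀, hz₀, hu⟩ := exists_in_axisAlg E hn S hM hε hh hd hw
  have h0 : z₀ + eadj z₀ = -((2 * t) • (eadj w * w)) := hu.relation E S
  obtain ⟨s, hs⟩ : ∃ s, s = z - z₀ := ⟨_, rfl⟩
  have hskew : eadj s = -s := by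
    rw [hs, eadj_sub]
    linear_combination (norm := module) hrel - h0
  obtain ⟨u, hu0⟩ : ∃ u : Module.End F K, u = (4 * t)⁻¹ • s := ⟨_, rfl⟩
  have hlong : Long R M v s := by
    obtain ⟨g', hg', z', -, hu'⟩ := exists_in_axisAlg E hn S hM hε hh hd (w := u)
      (hu0 ▸ Subalgebra.smul_mem _ (hs ▸ sub_mem hz hz₀) _)
    have h2 := comm_mem E S ⟨g', hg', z', hu'⟩ (wmem_mulLeft E hn S hM (1 : K))
    refine (?_ : -((2 * t) • (eadj u * 1 - eadj 1 * u)) = s) ▸ (?_ : Long R M v _)
    · rw [eadj_one, mul_one, one_mul, hu0, eadj_smul, hskew, smul_neg, ← neg_add', smul_neg, neg_neg, ← two_smul F,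
        smul_smul, smul_smul, show (2 * t) * 2 * (4 * t)⁻¹ = 1 by
          have := E.two; have := S.t0
          rw [show (4 : F) = 2 * 2 by norm_num]
          field_simp, one_smul]
    · convert h2 using 1
      rw [show LinearMap.mulLeft F (1 : K) = (1 : Module.End F K) from LinearMap.ext fun k => one_mul k]
      rfl
  obtain ⟨g', hg', hu'⟩ := uMap_of_long E S hlong
  refine ⟨g * g', M.mul_mem hg hg', ?_⟩
  convert hu.mul E S hu' using 1
  · rw [add_zero]
  · rw [LinearMap.comp_zero, smul_zero, sub_zero, hs, add_sub_cancel]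

variable (hr : (Module.finrank F K).Prime) (hr2 : Module.finrank F K ≠ 2)
  (hnot : ¬ ∀ X : K →ₗ[F] K, IsSkew X → Long R M v X)
include hr hr2 hnot

/-- Invertible parts in the algebra are semilinear. -/
theorem semi_of_unit {w z zi : Module.End F K} (hw : w ∈ axisAlg B) (hz : z ∈ axisAlg B) (hzi : zi ∈ axisAlg B)
    (hzz : z * zi = 1) (hrel : z + eadj z = -((2 * t) • (eadj w * w))) :
    ∃ l : K, l ≠ 0 ∧ ∃ τ : K ≃ₐ[F] K, z = mono τ l := by
  have hadj := fun {x : Module.End F K} (hx : x ∈ axisAlg B) => eadj_mem_axisAlg (eadj_axis E S hd) hx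
  have hzz' : zi * z = 1 := by rw [axisAlg_comm hzi hz, hzz]
  have hadjzz : eadj zi * eadj z = 1 := by rw [← eadj_mul, hzz, eadj_one]
  obtain ⟨g₁, hg₁, hu₁⟩ := exists_uMap_mem E hn (swap E S) hM hε hh (⟨hd.top, hd.mid, hd.line⟩ :
    Diag f v e h (cid ε) B (cid ε)) hw hz hrel
  obtain ⟨w₂, hw₂⟩ : ∃ w₂, w₂ = -(w * zi) := ⟨_, rfl⟩
  have hrel₂ : eadj zi + eadj (eadj zi) = -((2 * t) • (eadj w₂ * w₂)) := by
    rw [eadj_eadj, hw₂, eadj_neg, eadj_mul]
    rw [end_neg_mul, end_mul_neg, neg_neg]
    have e1 : eadj zi * eadj w * (w * zi) = eadj zi * (eadj w * w) * zi := by simp only [mul_assoc]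
    have e2 : -((2 * t) • (eadj zi * (eadj w * w) * zi)) = eadj zi * (-((2 * t) • (eadj w * w))) * zi := by
      rw [end_mul_neg, end_neg_mul, mul_smul_comm, smul_mul_assoc]
    rw [e1, e2, ← hrel, mul_add, add_mul, mul_assoc, hzz, mul_one, hadjzz, one_mul]
  obtain ⟨g₂, hg₂, hu₂⟩ := exists_uMap_mem E hn S hM hε hh hd (hw₂ ▸ neg_mem (mul_mem hw hzi)) (hadj hzi) hrel₂
  have hy : ∀ k : K, (g₂ * g₁).1 (k • v) = z k • f := fun k => by
    rw [qAut_mul_apply, hu₁.top, map_add, map_add, hu₂.top, hu₂.mid, hu₂.line]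
    have e2 : w₂ (z k) + w k = 0 := by
      have e5 : (w₂ * z + w) = 0 := by
        rw [hw₂]
        rw [end_neg_mul]
        rw [mul_assoc, hzz', mul_one, neg_add_cancel]
      exact LinearMap.congr_fun e5 k
    have e3 : eadj zi (z k) - (2 * t) • eadj w₂ (w k) + k = 0 := by
      have e4 : eadj zi * z - (2 * t) • (eadj w₂ * w) + 1 = 0 := by
        rw [hw₂, eadj_neg, eadj_mul]
        rw [end_neg_mul]
        rw [smul_neg, sub_neg_eq_add, ← hadjzz, mul_assoc, ← mul_smul_comm,
          ← mul_add, ← mul_add, show z + (2 * t) • (eadj w * w) + eadj z = 0 by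
            linear_combination (norm := module) hrel, mul_zero]
      exact LinearMap.congr_fun e4 k
    rw [show eadj w₂ = adjT w₂ from rfl] at e3
    show _ = z k • f
    linear_combination (norm := module) congrArg (fun a : K => a • e) e2 + congrArg (fun a : K => a • v) e3
  obtain ⟨φ, hφv, hφf, -, p₁, p₂, hp₁, hp₂, heq, rfl⟩ := exists_flip E S
  have hφM : E.lift (qRefl R hp₂ * qRefl R hp₁) ∈ M := hM _ (lift_pair_mem E hn hp₁ hp₂ heq) (isSemi_lift E _)
  obtain ⟨Az, hAz⟩ : ∃ Az : K ≃ₗ[F] K, ∀ k, Az k = (-t⁻¹) • z k := by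
    have hbij : Function.Bijective ((-t⁻¹) • z : Module.End F K) := by
      exact (Module.End.isUnit_iff _).1 (IsUnit.of_mul_eq_one ((-t) • zi) (by
        rw [smul_mul_assoc, mul_smul_comm, smul_smul, hzz, neg_mul_neg, inv_mul_cancel₀ S.t0, one_smul]))
    exact ⟨LinearEquiv.ofBijective _ hbij, fun k => rfl⟩
  obtain ⟨l, hl, τ, hτ⟩ := line_semi E hn S hM hr hr2 hnot (M.mul_mem hφM (M.mul_mem hg₂ hg₁)) (A := Az)
    fun k => by
      rw [qAut_mul_apply, hy, Over.lift_apply, map_smul, hφf, hAz, smul_smul]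
      congr 1
      rw [Algebra.smul_def, map_neg, map_inv₀]
      ring
  refine ⟨-(algebraMap F K t) * l, mul_ne_zero (neg_ne_zero.2 S.t0') hl, τ, LinearMap.ext fun k => ?_⟩
  have := hτ k
  rw [hAz, Algebra.smul_def, map_neg, map_inv₀] at this
  rw [mono_apply, mul_assoc, ← this]
  field_simp [S.t0']

/-- An axis map without eigenvalue minus one is trivial. -/
theorem axis_one_of_no_neg (hno : ∀ k, B k = -k → k = 0) : B = 1 := by
  haveI : Fact (Module.finrank F K).Prime := ⟨hr⟩
  obtain ⟨w, hw⟩ : ∃ w : Module.End F K, w = 1 + B := ⟨_, rfl⟩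
  have hwm : w ∈ axisAlg B := hw ▸ add_mem (one_mem _) (Algebra.self_mem_adjoin_singleton F B)
  have hBB := eadj_axis E S hd
  have hsq : eadj w * w = eadj w + w := by
    rw [hw, eadj_add, eadj_one]
    simp only [add_mul, mul_add, one_mul, mul_one, hBB]
    abel
  have hinj : Function.Injective w := (injective_iff_map_eq_zero w).2 fun k hk => hno k (by
    rw [hw, LinearMap.add_apply, Module.End.one_apply] at hk
    exact eq_neg_of_add_eq_zero_right hk)
  have hc0 : (-(2 * t) : F) ≠ 0 := neg_ne_zero.2 (mul_ne_zero E.two S.t0)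
  obtain ⟨wi, hwi, hwwi⟩ := axisAlg_inv hwm hinj
  obtain ⟨l, hl, τ, hτ⟩ := semi_of_unit E hn S hM hε hh hd hr hr2 hnot hwm
    (Subalgebra.smul_mem _ hwm (-(2 * t))) (Subalgebra.smul_mem _ hwi (-(2 * t))⁻¹)
    (by rw [smul_mul_assoc, mul_smul_comm, smul_smul, hwwi, mul_inv_cancel₀ hc0, one_smul])
    (by rw [eadj_smul, hsq, ← smul_add, neg_smul, add_comm w])
  obtain ⟨m, hm⟩ : ∃ m, m = (algebraMap F K (-(2 * t)))⁻¹ * l := ⟨_, rfl⟩
  have hm0 : m ≠ 0 := hm ▸ mul_ne_zero (inv_ne_zero ((_root_.map_ne_zero _).2 hc0)) hl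
  have hwe : w = mono τ m := LinearMap.ext fun k => by
    have := LinearMap.congr_fun hτ k
    rw [LinearMap.smul_apply, Algebra.smul_def, mono_apply] at this
    rw [mono_apply, hm, mul_assoc, ← this, inv_mul_cancel_left₀ ((_root_.map_ne_zero _).2 hc0)]
  rw [hwe, eadj_mono_mul, eadj_mono] at hsq
  have hcoef := congrArg (fun T => coef T τ) hsq
  simp only [coef_add, coef_mono_same] at hcoef
  by_cases hτ1 : τ = 1
  · subst hτ1
    rw [inv_one, coef_mono_same, AlgEquiv.one_apply, AlgEquiv.one_apply, coef_mulLeft_one] at hcoef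
    have hm2 : m = 2 := mul_left_cancel₀ hm0 (by linear_combination hcoef)
    refine LinearMap.ext fun k => ?_
    have := LinearMap.congr_fun hwe k
    rw [hw, LinearMap.add_apply, Module.End.one_apply, mono_apply, AlgEquiv.one_apply, hm2] at this
    rw [Module.End.one_apply]
    linear_combination this
  · exfalso
    have hττ : τ ≠ τ⁻¹ := fun h => hr2 (by
      have ho := orderOf_eq_prime (p := 2) (x := τ) (by rw [sq]; nth_rewrite 2 [h]; exact mul_inv_cancel τ) hτ1
      have hdv := orderOf_dvd_natCard τ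
      rw [ho, IsGalois.card_aut_eq_finrank] at hdv
      exact ((Nat.prime_dvd_prime_iff_eq Nat.prime_two hr).1 hdv).symm)
    rw [show LinearMap.mulLeft F (τ⁻¹ (m * m)) = mono 1 (τ⁻¹ (m * m)) from LinearMap.ext fun x => by
        rw [mono_apply]; rfl, coef_mono_ne hτ1, coef_mono_ne hττ, zero_add] at hcoef
    exact hm0 hcoef.symm

end CfsgLib.Classical22.OrthField.PrimeDeg
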