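/-
Axis maps are involutions, and trivial for more than three scalars.
-/
import Cfsg.Agent.Lib.Classical22.OrthFieldPrime.Axis
import Mathlib.LinearAlgebra.Determinant

set_option autoImplicit false
set_option linter.all false

namespace CfsgLib.Classical22.OrthField.PrimeDeg

open CfsgLib.Classical CfsgLib.Classical22.OrthField.Cubic

/-- Identities for a fourth root of unity in characteristic three. -/
theorem q3_ident {A : Type*} [CommRing A] (c : A) (h4 : c ^ 4 = 1) (h3 : (3 : A) = 0) :
    (c - c ^ 3 + 1) * (c ^ 3 - c + 1) = c ^ 2 ∧ (c ^ 3 - c ^ 2 - c) + (c - c ^ 2 - c ^ 3) = c ^ 2 ∧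
      (c ^ 3 - c ^ 2 - c) * ((c - c ^ 2 - c ^ 3) * c ^ 2) = 1 := by
  refine ⟨?_, ?_, ?_⟩
  · linear_combination (-(c ^ 2) + 2) * h4 + (-(c ^ 2) + 1) * h3
  · linear_combination (-(c ^ 2)) * h3
  · linear_combination (-(c ^ 4) - 2) * h4 + (c ^ 6 - 1) * h3

universe u

variable {F : Type u} [Field F] {K : Type*} [Field K] [Algebra F K]
variable {V : Type u} [AddCommGroup V] [Module F V] [Module K V] [IsScalarTower F K V]
variable {Q : QuadraticForm F V} {R : QuadraticForm K V} {M : Subgroup (qAut Q)}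
variable [Fintype F] [Fintype K] [FiniteDimensional F K] [FiniteDimensional F V] [FiniteDimensional K V]

/-- Powers of an element preserving the coordinate lines. -/
lemma Diag.pow {v f e : V} {h : qAut Q} {ε : F} {B : Module.End F K} (hd : Diag v f e h (cid ε) B (cid ε)) :
    ∀ n : ℕ, Diag v f e (h ^ n) (cid (ε ^ n)) (B ^ n : Module.End F K) (cid (ε ^ n))
  | 0 => by
    simp only [pow_zero]
    exact ⟨fun k => by show _ = ((1 : F) • k) • v; rw [one_smul]; rfl, fun k => rfl,
      fun k => by show _ = ((1 : F) • k) • f; rw [one_smul]; rfl⟩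
  | n + 1 => by
    have h' := (Diag.pow hd n).mul hd
    rw [← pow_succ, show cid (ε ^ n) ∘ₗ cid ε = cid (K := K) (ε ^ (n + 1)) from LinearMap.ext fun k => by
      simp [smul_smul, pow_succ, mul_comm]] at h'
    rwa [pow_succ (B : Module.End F K), Module.End.mul_eq_comp]

variable (E : Over Q R) (hn : 5 ≤ Module.finrank F V) {v f e : V} {t : F} (S : Std R v f e t) (hM : SemiMem K M)
variable (hr : (Module.finrank F K).Prime) (hr2 : Module.finrank F K ≠ 2) (hME : M ≤ eichGroup Q)
include E hn S hM hr hr2 hME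

variable {h : qAut Q} {ε : F} (hε : ε * ε = 1) {B : Module.End F K} (hh : h ∈ M) (hd : Diag v f e h (cid ε) B (cid ε))

omit hM in
include hε hh hd in
/-- Signs on the coordinate lines. -/
theorem signs_excluded (hd3 : Module.finrank K V = 3) :
    (B = -1 → False) ∧ (B = 1 → ε = -1 → OrthType.eta F = -1 → False) := by
  classical
  have hsq : ∀ b : F, b * b = 1 → B = b • 1 → ∀ z, h.1 (h.1 z) = z := fun b hb hB z => by
    obtain ⟨a, c, d, rfl⟩ := S.span z
    simp [map_add, hd.line, hd.mid, hd.top, hB, smul_smul, hb, hε]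
  have hcomm : h ∈ commutator (qAut Q) := by
    rw [← eichGroup_eq_commutator Q E.polarNondeg hn]
    exact hME hh
  have hline : ∀ y : V, y ≠ 0 → Module.finrank F ((Submodule.span K {y}).restrictScalars F) = Module.finrank F K :=
    fun y hy => by
      have h1 := Module.finrank_mul_finrank F K (Submodule.span K {y})
      rw [finrank_span_singleton hy, mul_one] at h1
      exact h1.symm
  have hdata : ∀ b : F, b * b = 1 → B = b • 1 → ∃ (Em : Submodule F V) (s : ℕ), (∀ z, z ∈ Em ↔ h.1 z = -z) ∧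
      Module.finrank F Em = 2 * s ∧ OrthType.Sg (OrthType.res Q Em) (OrthType.eta F ^ s) ∧
      PolarNondeg (OrthType.res Q Em) := fun b hb hB => by
    obtain ⟨Em, m, hnd, hneg, hpos, hdim, hsg⟩ :=
      OrthType.invol_data E.two E.polarNondeg (Or.inr (by omega)) hcomm (hsq b hb hB)
    refine ⟨Em, m, fun z => ⟨hneg z, fun hz => ?_⟩, hdim, hsg, hnd⟩
    obtain ⟨a, ha, c, hc, rfl⟩ :=
      Submodule.mem_sup.1 ((OrthType.split_res E.polarNondeg hnd).1.sup_eq_top ▸ Submodule.mem_top (x := z))
    rw [map_add, hneg a ha, hpos c hc, neg_add, add_right_inj] at hz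
    have h2 : (2 : F) • c = 0 := by rw [two_smul]; nth_rewrite 2 [hz]; exact add_neg_cancel c
    rw [smul_eq_zero] at h2
    rw [h2.resolve_left E.two, add_zero]
    exact ha
  have hco : ∀ (b : F), B = b • 1 → ∀ a c d : K, h.1 (a • v + c • e + d • f) = -(a • v + c • e + d • f) ↔
      ((ε + 1) • a = 0 ∧ (b + 1) • c = 0 ∧ (ε + 1) • d = 0) := fun b hB a c d => by
    rw [map_add, map_add, hd.line, hd.mid, hd.top, hB, ← sub_eq_zero]
    constructor
    · intro h0
      refine co_inj S E.two' (a' := 0) (b' := 0) (c' := 0) ?_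
      simp only [Algebra.smul_def (A := K), map_add, map_one, zero_smul, add_zero, LinearMap.smul_apply,
        Module.End.one_apply, LinearMap.id_apply] at h0 ⊢
      linear_combination (norm := module) h0
    · rintro ⟨h1, h2, h3⟩
      simp only [Algebra.smul_def (A := K), map_add, map_one, LinearMap.smul_apply, Module.End.one_apply,
        LinearMap.id_apply] at h1 h2 h3 ⊢
      linear_combination (norm := module) congrArg (fun x : K => x • v) h1 + congrArg (fun x : K => x • e) h2 +
        congrArg (fun x : K => x • f) h3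
  have h2F : ∀ {x : K}, ((1 : F) + 1) • x = 0 → x = 0 := fun {x} hx => by
    rw [one_add_one_eq_two, smul_eq_zero] at hx
    exact hx.resolve_left E.two
  obtain ⟨r₀, hr₀⟩ := hr.odd_of_ne_two hr2
  refine ⟨fun hB => ?_, fun hB hεm heta => ?_⟩
  · have hB' : B = (-1 : F) • 1 := hB.trans (LinearMap.ext fun k => by simp)
    obtain ⟨Em, m, hmem, hdim, -, -⟩ := hdata (-1) (by ring) hB'
    rcases mul_self_eq_one_iff.1 hε with rfl | rfl
    · have hEm : Em = (Submodule.span K {e}).restrictScalars F := by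
        ext z
        obtain ⟨a, c, d, rfl⟩ := S.span z
        rw [hmem, hco (-1) hB', Submodule.restrictScalars_mem, Submodule.mem_span_singleton]
        constructor
        · rintro ⟨h1, -, h3⟩
          exact ⟨c, by rw [h2F h1, h2F h3, zero_smul, zero_smul, zero_add, add_zero]⟩
        · rintro ⟨c', hc'⟩
          obtain ⟨h1, -, h3⟩ := co_inj S E.two' (a := 0) (b := c') (c := 0) (by simpa using hc')
          exact ⟨by rw [← h1, smul_zero], by rw [neg_add_cancel, zero_smul], by rw [← h3, smul_zero]⟩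
      rw [hEm, hline e (fun h0 => S.t0' (by rw [← S.re, h0, map_zero]))] at hdim
      omega
    · have hEm : Em = ⊤ := eq_top_iff.2 fun z _ => by
        obtain ⟨a, c, d, rfl⟩ := S.span z
        rw [hmem, hco (-1) hB']
        simp
      rw [hEm, finrank_top, ← Module.finrank_mul_finrank F K V, hd3] at hdim
      omega
  · have hB' : B = (1 : F) • 1 := by rw [hB, one_smul]
    obtain ⟨Em, m, hmem, hdim, hsg, hnd⟩ := hdata 1 (mul_one 1) hB'
    subst hεm
    have hUE : lineF F (K := K) v ≤ Em := fun z hz => by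
      obtain ⟨k, rfl⟩ := mem_lineF.1 hz
      have := (hco 1 hB' k 0 0).2 ⟨by simp, by simp, by simp⟩
      simp only [zero_smul, add_zero] at this
      exact (hmem _).2 this
    have hEm : Em = (Submodule.span K {v} ⊔ Submodule.span K {f}).restrictScalars F := by
      ext z
      obtain ⟨a, c, d, rfl⟩ := S.span z
      rw [hmem, hco 1 hB', Submodule.restrictScalars_mem, Submodule.mem_sup]
      constructor
      · rintro ⟨-, h2, -⟩
        exact ⟨a • v, Submodule.smul_mem _ _ (Submodule.mem_span_singleton_self v), d • f,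
          Submodule.smul_mem _ _ (Submodule.mem_span_singleton_self f), by rw [h2F h2]; simp⟩
      · rintro ⟨x, hx, y, hy, hxy⟩
        obtain ⟨a', rfl⟩ := Submodule.mem_span_singleton.1 hx
        obtain ⟨d', rfl⟩ := Submodule.mem_span_singleton.1 hy
        obtain ⟨-, h2, -⟩ := co_inj S E.two' (a := a') (b := 0) (c := d') (by simpa using hxy)
        exact ⟨by simp, by rw [← h2, smul_zero], by simp⟩
    have hdim2 : Module.finrank F Em = 2 * Module.finrank F K := by
      have hsup : Em = lineF F (K := K) v ⊔ (Submodule.span K {f}).restrictScalars F := by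
        rw [hEm, lineF, ← Submodule.restrictScalars_sup]
      have hinf : lineF F (K := K) v ⊓ (Submodule.span K {f}).restrictScalars F = ⊥ := by
        refine (Submodule.eq_bot_iff _).2 fun z hz => ?_
        obtain ⟨k, rfl⟩ := mem_lineF.1 hz.1
        obtain ⟨k', hk'⟩ := Submodule.mem_span_singleton.1 hz.2
        obtain ⟨h1, -, -⟩ := co_inj S E.two' (a := k) (b := 0) (c := 0) (a' := 0) (b' := 0) (c' := k')
          (by simpa using hk'.symm)
        rw [h1, zero_smul]
      have h1 := Submodule.finrank_sup_add_finrank_inf_eq (lineF F (K := K) v)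
        ((Submodule.span K {f}).restrictScalars F)
      rw [← hsup, hinf, finrank_bot, hline f S.f0] at h1
      rw [show Module.finrank F (lineF F (K := K) v) = Module.finrank F K from hline v S.v0] at h1
      omega
    have hm : m = Module.finrank F K := by omega
    have hs1 : OrthType.Sg (OrthType.res Q Em) 1 := (OrthType.sg_one_iff hnd ⟨m, by omega⟩).2
      ⟨(lineF F (K := K) v).comap Em.subtype, fun z hz => by
        obtain ⟨k, hk⟩ := mem_lineF.1 (show (z : V) ∈ lineF F (K := K) v from hz)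
        show Q (z : V) = 0
        rw [← hk, E.sing S.sv], by
        rw [(Submodule.comapSubtypeEquivOfLe hUE).finrank_eq,
          show Module.finrank F (lineF F (K := K) v) = Module.finrank F K from hline v S.v0, hdim2]⟩
    have := OrthType.sg_unique hs1 hsg
    rw [hm, heta, hr₀, pow_succ, pow_mul, neg_one_sq, one_pow] at this
    norm_num at this

variable (hnot : ¬ ∀ X : K →ₗ[F] K, IsSkew X → Long R M v X) (hd3 : Module.finrank K V = 3)
include hnot hd3

omit hME hd3 in
include hε hh hd in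
/-- Odd order gives the identity. -/
theorem axis_one_of_odd {m : ℕ} (hm : Odd m) (hB : B ^ m = 1) : B = 1 := by
  refine axis_one_of_no_neg E hn S hM hε hh hd hr hr2 hnot fun k hk => ?_
  have hpow : ∀ n : ℕ, (B ^ n) k = (-1 : F) ^ n • k := fun n => by
    induction n with
    | zero => simp
    | succ n ih => rw [pow_succ', Module.End.mul_apply, ih, map_smul, hk, smul_neg, pow_succ, mul_neg_one, neg_smul]
  have := hpow m
  rw [hB, Module.End.one_apply, hm.neg_one_pow, neg_one_smul] at this
  have h2 : (2 : F) • k = 0 := by rw [two_smul]; nth_rewrite 2 [this]; exact add_neg_cancel k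
  exact (smul_eq_zero.1 h2).resolve_left E.two

include hε hh hd in
/-- An involutory axis map is trivial for more than three scalars. -/
theorem axis_one_of_sq (hq : 3 < Fintype.card F) (hBB : B * B = 1) : B = 1 := by
  classical
  haveI : Fact (Module.finrank F K).Prime := ⟨hr⟩
  obtain ⟨μ, hμ0, hμ1, hμ2⟩ : ∃ μ : F, μ ≠ 0 ∧ μ ≠ -1 ∧ μ ≠ -2 := by
    obtain ⟨μ, -, hμ⟩ := Finset.exists_mem_notMem_of_card_lt_card (s := ({0, -1, -2} : Finset F))
      (t := Finset.univ) (by
        rw [Finset.card_univ]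
        exact lt_of_le_of_lt (Finset.card_le_three) hq)
    simp only [Finset.mem_insert, Finset.mem_singleton, not_or] at hμ
    exact ⟨μ, hμ⟩
  have hBadj : eadj B = B := by
    have h1 := eadj_axis E S hd
    calc eadj B = eadj B * (B * B) := by rw [hBB, mul_one]
      _ = eadj B * B * B := (mul_assoc _ _ _).symm
      _ = B := by rw [h1, one_mul]
  obtain ⟨π, hπ⟩ : ∃ π : Module.End F K, π = (2 : F)⁻¹ • (1 - B) := ⟨_, rfl⟩
  have hππ : π * π = π := by
    rw [hπ, smul_mul_smul_comm]
    simp only [sub_mul, mul_sub, one_mul, mul_one, hBB]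
    have h4 : (2 : F)⁻¹ * (2 : F)⁻¹ = (2 : F)⁻¹ * (2 : F)⁻¹ := rfl
    rw [show (1 : Module.End F K) - B - (B - 1) = (2 : F) • (1 - B) by module, smul_smul, mul_assoc,
      inv_mul_cancel₀ E.two, mul_one]
  obtain ⟨w, hw⟩ : ∃ w : Module.End F K, w = 1 + μ • π := ⟨_, rfl⟩
  have hπm : π ∈ axisAlg B :=
    hπ ▸ Subalgebra.smul_mem _ (sub_mem (one_mem _) (Algebra.self_mem_adjoin_singleton F B)) _
  have hwm : w ∈ axisAlg B := hw ▸ add_mem (one_mem _) (Subalgebra.smul_mem _ hπm _)
  have hadjw : eadj w = w := by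
    rw [hw, eadj_add, eadj_one, eadj_smul, hπ, eadj_smul, eadj_sub, eadj_one, hBadj]
  have hww : w * w = 1 + (2 * μ + μ * μ) • π := by
    rw [hw, add_mul, mul_add, one_mul, mul_add, mul_one, smul_mul_smul_comm, hππ, one_mul]
    module
  have hc : 1 + (2 * μ + μ * μ) ≠ 0 := fun h0 => by
    have : (μ + 1) * (μ + 1) = 0 := by linear_combination h0
    exact hμ1 (eq_neg_of_add_eq_zero_left (mul_self_eq_zero.1 this))
  obtain ⟨c, hc'⟩ : ∃ c : F, c = 2 * μ + μ * μ := ⟨_, rfl⟩
  rw [← hc'] at hww hc
  have hc0 : c ≠ 0 := fun h0 => by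
    have : μ * (2 + μ) = 0 := by rw [← h0, hc']; ring
    rcases mul_eq_zero.1 this with h1 | h1
    · exact hμ0 h1
    · exact hμ2 (by linear_combination h1)
  have hinv : (1 + c • π) * (1 + (-c / (1 + c)) • π) = 1 := by
    rw [add_mul, mul_add, one_mul, mul_add, mul_one, smul_mul_smul_comm, hππ, one_mul]
    have e1 : -c / (1 + c) + c + c * (-c / (1 + c)) = 0 := by field_simp; ring
    linear_combination (norm := module) congrArg (fun a : F => a • π) e1
  have ht : -t ≠ 0 := neg_ne_zero.2 S.t0
  obtain ⟨l, hl, τ, hτ⟩ := semi_of_unit E hn S hM hε hh hd hr hr2 hnot hwm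
    (Subalgebra.smul_mem _ (mul_mem hwm hwm) (-t))
    (Subalgebra.smul_mem _ (add_mem (one_mem _) (Subalgebra.smul_mem _ hπm (-c / (1 + c)))) (-t)⁻¹)
    (by rw [hww, smul_mul_assoc, mul_smul_comm, smul_smul, hinv, mul_inv_cancel₀ ht, one_smul])
    (by
      rw [eadj_smul, eadj_mul, hadjw]
      module)
  have hself : mono τ⁻¹ (τ⁻¹ l) = mono τ l := by
    rw [← eadj_mono, ← hτ, eadj_smul, eadj_mul, hadjw]
  have hτ1 : τ = 1 := by
    by_contra hτ1
    have hττ : τ ≠ τ⁻¹ := fun h0 => hr2 (by
      have ho := orderOf_eq_prime (p := 2) (x := τ) (by rw [sq]; nth_rewrite 2 [h0]; exact mul_inv_cancel τ) hτ1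
      have hdv := orderOf_dvd_natCard τ
      rw [ho, IsGalois.card_aut_eq_finrank] at hdv
      exact ((Nat.prime_dvd_prime_iff_eq Nat.prime_two hr).1 hdv).symm)
    have := congrArg (fun T => coef T τ) hself
    simp only [coef_mono_same, coef_mono_ne hττ] at this
    exact hl this.symm
  subst hτ1
  obtain ⟨d, hd'⟩ : ∃ d : K, ∀ k, π k = d * k := by
    refine ⟨(algebraMap F K c)⁻¹ * ((algebraMap F K (-t))⁻¹ * l - 1), fun k => ?_⟩
    have := LinearMap.congr_fun hτ k
    rw [hww, LinearMap.smul_apply, LinearMap.add_apply, Module.End.one_apply, LinearMap.smul_apply, mono_apply,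
      AlgEquiv.one_apply, Algebra.smul_def, Algebra.smul_def] at this
    have hcK : algebraMap F K c ≠ 0 := (_root_.map_ne_zero _).2 hc0
    have htK : algebraMap F K (-t) ≠ 0 := (_root_.map_ne_zero _).2 ht
    field_simp
    linear_combination this
  have hdd : d * d = d := by
    have h1 := LinearMap.congr_fun hππ 1
    rw [Module.End.mul_apply, hd', hd', mul_one] at h1
    exact h1
  have hBπ : B = 1 - (2 : F) • π := by
    rw [hπ, smul_smul, mul_inv_cancel₀ E.two, one_smul, sub_sub_cancel]
  have hcase : d = 0 ∨ d = 1 := by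
    by_cases h0 : d = 0
    · exact Or.inl h0
    · exact Or.inr (mul_left_cancel₀ h0 (by rw [hdd, mul_one]))
  rcases hcase with rfl | rfl
  · rw [hBπ, show π = 0 from LinearMap.ext fun k => by rw [hd', zero_mul]; rfl, smul_zero, sub_zero]
  · refine ((signs_excluded E hn S hr hr2 hME hε hh hd hd3).1 ?_).elim
    rw [hBπ, show π = 1 from LinearMap.ext fun k => by rw [hd', one_mul]; rfl, two_smul]
    abel

include hε hh hd in
omit hME hd3 in
/-- No fourth root of unity on an axis over three scalars. -/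
theorem axis_sq_of_four (hq : Fintype.card F = 3) (hB4 : B ^ 4 = 1) : B * B = 1 := by
  classical
  haveI : Fact (Nat.Prime 3) := ⟨Nat.prime_three⟩
  haveI : CharP F 3 := charP_of_card_eq_prime hq
  have h3 : (3 : F) = 0 := CharP.cast_eq_zero F 3
  letI : CommRing (axisAlg B) :=
    { (inferInstance : Ring (axisAlg B)) with mul_comm := fun x y => Subtype.ext (axisAlg_comm x.2 y.2) }
  obtain ⟨c, hcv⟩ : ∃ c : axisAlg B, (c : Module.End F K) = B := ⟨⟨B, Algebra.self_mem_adjoin_singleton F B⟩, rfl⟩
  have h3' : (3 : axisAlg B) = 0 := by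
    rw [← map_ofNat (algebraMap F (axisAlg B)) 3, h3, map_zero]
  obtain ⟨i1, i2, i3⟩ := q3_ident c (Subtype.ext (by rw [SubmonoidClass.coe_pow, hcv, hB4]; rfl)) h3'
  have hBadj : eadj B = B ^ 3 := by
    have h1 := eadj_axis E S hd
    calc eadj B = eadj B * B ^ 4 := by rw [hB4, mul_one]
      _ = eadj B * B * B ^ 3 := by rw [mul_assoc, ← pow_succ']
      _ = B ^ 3 := by rw [h1, one_mul]
  have hadjp : ∀ n : ℕ, eadj (B ^ n) = B ^ (3 * n) := fun n => by
    induction n with
    | zero => simp [eadj_one]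
    | succ n ih => rw [pow_succ', eadj_mul, ih, hBadj, ← pow_add, show 3 * n + 3 = 3 * (n + 1) by ring]
  have h4n : ∀ n : ℕ, B ^ (n + 4) = B ^ n := fun n => by rw [pow_add, hB4, mul_one]
  have e3 : eadj (B ^ 3) = B := by rw [hadjp, show 3 * 3 = 5 + 4 by rfl, h4n, show 5 = 1 + 4 by rfl, h4n, pow_one]
  have e2 : eadj (B ^ 2) = B ^ 2 := by rw [hadjp, show 3 * 2 = 2 + 4 by rfl, h4n]
  obtain ⟨w, hw⟩ : ∃ w : Module.End F K, w = B ^ 3 - B + 1 := ⟨_, rfl⟩
  obtain ⟨z, hz⟩ : ∃ z : Module.End F K, z = B ^ 3 - B ^ 2 - B := ⟨_, rfl⟩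
  have hadjw : eadj w = B - B ^ 3 + 1 := by rw [hw, eadj_add, eadj_sub, e3, eadj_one, hBadj]
  have hadjz : eadj z = B - B ^ 2 - B ^ 3 := by rw [hz, eadj_sub, eadj_sub, e3, e2, hBadj]
  have j1 : eadj w * w = B ^ 2 := by
    rw [hadjw, hw]; have := congrArg Subtype.val i1; simpa [hcv] using this
  have j2 : z + eadj z = B ^ 2 := by
    rw [hadjz, hz]; have := congrArg Subtype.val i2; simpa [hcv] using this
  have j3 : z * (eadj z * B ^ 2) = 1 := by
    rw [hadjz, hz]; have := congrArg Subtype.val i3; simpa [hcv] using this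
  have hBm := Algebra.self_mem_adjoin_singleton F B
  have hwm : w ∈ axisAlg B := hw ▸ add_mem (sub_mem (pow_mem hBm 3) hBm) (one_mem _)
  have hzm : z ∈ axisAlg B := hz ▸ sub_mem (sub_mem (pow_mem hBm 3) (pow_mem hBm 2)) hBm
  obtain ⟨l, hl, τ, hτ⟩ := semi_of_unit E hn S hM hε hh hd hr hr2 hnot hwm (Subalgebra.smul_mem _ hzm t)
    (Subalgebra.smul_mem _ (mul_mem (eadj_mem_axisAlg (eadj_axis E S hd) hzm) (pow_mem hBm 2)) t⁻¹)
    (by rw [smul_mul_assoc, mul_smul_comm, smul_smul, j3, mul_inv_cancel₀ S.t0, one_smul])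
    (by
      rw [eadj_smul, ← smul_add, j2, j1]
      refine LinearMap.ext fun k => ?_
      simp only [LinearMap.smul_apply, LinearMap.neg_apply]
      rw [← neg_smul]
      congr 1
      linear_combination t * h3)
  have hzmono : z = mono τ (algebraMap F K t⁻¹ * l) := LinearMap.ext fun k => by
    have := LinearMap.congr_fun hτ k
    rw [LinearMap.smul_apply, Algebra.smul_def, mono_apply] at this
    rw [mono_apply, map_inv₀, mul_assoc, ← this, inv_mul_cancel_left₀ S.t0']
  have hzz : eadj z * z = B ^ 2 := by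
    have hc := axisAlg_comm (eadj_mem_axisAlg (eadj_axis E S hd) hzm) hzm
    calc eadj z * z = eadj z * z * (B ^ 2 * B ^ 2) := by rw [← pow_add, hB4, mul_one]
      _ = z * (eadj z * B ^ 2) * B ^ 2 := by rw [hc]; simp only [mul_assoc]
      _ = B ^ 2 := by rw [j3, one_mul]
  rw [hzmono, eadj_mono_mul] at hzz
  obtain ⟨d, hd'⟩ : ∃ d : K, B ^ 2 = LinearMap.mulLeft F d := ⟨_, hzz.symm⟩
  have hdd : d * d = 1 := by
    have h1 : (B ^ 2 * B ^ 2) 1 = (1 : Module.End F K) 1 := by rw [← pow_add, hB4]
    rw [hd', Module.End.mul_apply, LinearMap.mulLeft_apply, LinearMap.mulLeft_apply, mul_one] at h1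
    exact h1
  rcases mul_self_eq_one_iff.1 hdd with rfl | rfl
  · rw [← sq, hd']; exact LinearMap.ext fun k => one_mul k
  · exfalso
    have h1 := congrArg LinearMap.det hd'
    rw [map_pow, show LinearMap.mulLeft F (-1 : K) = (-1 : F) • LinearMap.id from LinearMap.ext fun k => by simp,
      LinearMap.det_smul, LinearMap.det_id, mul_one, (hr.odd_of_ne_two hr2).neg_one_pow] at h1
    have h5 := FiniteField.pow_card (LinearMap.det B)
    rw [hq] at h5
    by_cases h0 : LinearMap.det B = 0
    · rw [h0] at h1; simp at h1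
    · have h6 : LinearMap.det B ^ 2 = 1 := mul_left_cancel₀ h0 (by rw [← pow_succ', h5, mul_one])
      exact E.two (by linear_combination h1 - h6)

include hε hh hd in
/-- Axis maps are involutions. -/
theorem axis_sq_one : B * B = 1 := by
  haveI : Finite (Module.End F K) := Finite.of_injective (fun g : Module.End F K => (g : K → K)) DFunLike.coe_injective
  have key : ∀ (j : ℕ) (h : qAut Q) (ε : F) (B : Module.End F K), ε * ε = 1 → h ∈ M →
      Diag v f e h (cid ε) B (cid ε) → B ^ 2 ^ j = 1 → B * B = 1 := by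
    intro j
    induction j with
    | zero => intro h ε B _ _ _ hB; rw [pow_zero, pow_one] at hB; rw [hB, one_mul]
    | succ j ih =>
      intro h ε B hε hh hd hB
      cases j with
      | zero => rwa [zero_add, pow_one, sq] at hB
      | succ i =>
        refine ih h ε B hε hh hd ?_
        have hεp : ε ^ 2 ^ i * ε ^ 2 ^ i = 1 := by rw [← mul_pow, hε, one_pow]
        have hpow := hd.pow (2 ^ i)
        have h4 : (B ^ 2 ^ i) ^ 4 = 1 := by rw [← pow_mul, ← hB]; congr 1; ring
        rw [pow_succ 2 i, pow_mul]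
        by_cases hq : 3 < Fintype.card F
        · exact axis_one_of_sq E hn S hM hr hr2 hME (h := (h ^ 2 ^ i) ^ 2) (ε := (ε ^ 2 ^ i) ^ 2)
            (by rw [← mul_pow, hεp, one_pow]) (M.pow_mem (M.pow_mem hh _) 2) (hpow.pow 2) hnot hd3 hq
            (by rw [← sq, ← pow_mul]; exact h4)
        · rw [sq]
          refine axis_sq_of_four E hn S hM hr hr2 hεp (M.pow_mem hh _) hpow hnot ?_ h4
          have := Fintype.one_lt_card (α := F)
          have h2 : Fintype.card F ≠ 2 := fun h2 => E.two (by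
            haveI : Fact (Nat.Prime 2) := ⟨Nat.prime_two⟩
            haveI : CharP F 2 := charP_of_card_eq_prime h2
            exact CharTwo.two_eq_zero)
          omega
  obtain ⟨u, hu⟩ : IsUnit B := IsUnit.of_mul_eq_one_right _ (eadj_axis E S hd)
  obtain ⟨n, hn0, he⟩ := isOfFinOrder_iff_pow_eq_one.1 (isOfFinOrder_of_finite u)
  have hBn : B ^ n = 1 := by rw [← hu, ← Units.val_pow_eq_pow_val, he, Units.val_one]
  obtain ⟨j, m, hm, rfl⟩ := Nat.exists_eq_pow_mul_and_not_dvd hn0.ne' 2 (by norm_num)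
  refine key j h ε B hε hh hd ?_
  refine axis_one_of_odd E hn S hM hr hr2 (ε := ε ^ 2 ^ j) (by rw [← mul_pow, hε, one_pow]) (M.pow_mem hh _)
    (hd.pow _) hnot (Nat.odd_iff.2 (Nat.two_dvd_ne_zero.1 hm)) (by rw [← pow_mul]; exact hBn)

include hε hh hd in
/-- Axis maps are trivial for more than three scalars. -/
theorem axis_eq_one (hq : 3 < Fintype.card F) : B = 1 :=
  axis_one_of_sq E hn S hM hr hr2 hME hε hh hd hnot hd3 hq
    (axis_sq_one E hn S hM hr hr2 hME hε hh hd hnot hd3)

end CfsgLib.Classical22.OrthField.PrimeDeg
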