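/-
Elements of large prime order fixing an anisotropic vector, and what centralises or normalises them.
-/
import Cfsg.Agent.Lib.Classical22.OrthFieldPrime.Base
import Cfsg.Agent.Lib.Classical22.OrthFieldThree.Count
import Cfsg.Agent.Lib.Recognition.Zsigmondy
import Mathlib.GroupTheory.PGroup

set_option autoImplicit false
set_option linter.all false

namespace CfsgLib.Classical22.OrthField.PrimeDeg

open CfsgLib.Classical CfsgLib.Classical22.OrthField.Cubic

/-- A prime dividing `N` that divides no smaller `q ^ m - 1`. -/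
theorem exists_ell {q r : ℕ} (hq : Odd q) (hq2 : 2 ≤ q) (hr5 : 5 ≤ r) (hrodd : Odd r) {N : ℕ}
    (hN : N + 1 = q ^ r ∨ N = q ^ r + 1) :
    ∃ ℓ : ℕ, ℓ.Prime ∧ ℓ ≠ 2 ∧ ¬ ℓ ∣ q ∧ ℓ ∣ N ∧ ∀ m, 1 ≤ m → m < r → ¬ ℓ ∣ q ^ m - 1 := by
  obtain ⟨n, hn, hnr, hNn⟩ : ∃ n, r ≤ n ∧ (n = r ∨ n = 2 * r) ∧ ∀ ℓ : ℕ, ℓ.Prime → ℓ ∣ q ^ n - 1 →
      (∀ i, 1 ≤ i → i < n → ¬ ℓ ∣ q ^ i - 1) → ℓ ∣ N := by
    rcases hN with h | h
    · exact ⟨r, le_rfl, Or.inl rfl, fun ℓ _ hd _ => by rwa [← h, Nat.add_sub_cancel] at hd⟩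
    · refine ⟨2 * r, by omega, Or.inr rfl, fun ℓ hℓ hd hmin => ?_⟩
      have hprod : q ^ (2 * r) - 1 = (q ^ r - 1) * (q ^ r + 1) := by
        rw [mul_comm (q ^ r - 1), ← Nat.sq_sub_sq, one_pow, ← pow_mul, mul_comm 2]
      rw [hprod] at hd
      rcases (Nat.Prime.dvd_mul hℓ).1 hd with h1 | h1
      · exact absurd h1 (hmin r (by omega) (by omega))
      · rwa [h]
  have hexc : (n, q) ∉ CfsgLib.Recognition.Zsigmondy.exceptions := by
    intro h
    simp only [CfsgLib.Recognition.Zsigmondy.exceptions, List.mem_cons, List.not_mem_nil, or_false,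
      Prod.mk.injEq] at h
    obtain ⟨j, hj⟩ := hq
    have h6 : n ≠ 6 ∧ n ≠ 4 := by
      constructor
      · obtain ⟨k, hk⟩ := hrodd
        omega
      · omega
    omega
  obtain ⟨ℓ, hℓ, hd, hmin, -⟩ := CfsgLib.Recognition.Zsigmondy.exists_large_primitive (by omega) hq2 hexc
  have hℓN := hNn ℓ hℓ hd hmin
  refine ⟨ℓ, hℓ, fun h2 => ?_, fun h => ?_, hℓN, fun m h1 h2 => hmin m h1 (by omega)⟩
  · refine hmin 1 le_rfl (by omega) ?_
    obtain ⟨j, hj⟩ := hq
    rw [pow_one, h2]
    omega
  · have h1 : ℓ ∣ q ^ n := h.trans (dvd_pow_self q (by omega))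
    have h2 := Nat.dvd_sub h1 hd
    rw [Nat.sub_sub_self (Nat.one_le_pow _ _ (by omega))] at h2
    exact hℓ.one_lt.ne' (Nat.dvd_one.1 h2)

universe u

variable {F : Type u} [Field F] [Fintype F] {V : Type u} [AddCommGroup V] [Module F V] [FiniteDimensional F V]
variable {Q : QuadraticForm F V}

omit [Fintype F] [FiniteDimensional F V] in
/-- Powers act by iteration. -/
lemma qPow_apply (g : qAut Q) : ∀ (m : ℕ) (z : V), (g ^ (m + 1)).1 z = g.1 ((g ^ m).1 z) := fun m z => by
  rw [pow_succ', qAut_mul_apply]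

/-- An invariant subspace without fixed vectors is not small. -/
theorem eq_bot_of_free {ℓ r : ℕ} (hℓ : ℓ.Prime) (hmin : ∀ m, 1 ≤ m → m < r → ¬ ℓ ∣ Fintype.card F ^ m - 1)
    {g : qAut Q} (hg : g ^ ℓ = 1) {Y : Submodule F V} (hY : ∀ y ∈ Y, g.1 y ∈ Y)
    (hfree : ∀ y ∈ Y, g.1 y = y → y = 0) (hdim : Module.finrank F Y < r) : Y = ⊥ := by
  classical
  haveI : Finite V := Module.finite_of_finite F
  haveI : Fact ℓ.Prime := ⟨hℓ⟩
  let G := Subgroup.zpowers g
  have hGY : ∀ x : G, ∀ y ∈ Y, x.1.1 y ∈ Y := fun x => by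
    obtain ⟨x, hx⟩ := x
    obtain ⟨m, rfl⟩ := (Submonoid.mem_powers_iff _ _).1
      ((IsOfFinOrder.mem_powers_iff_mem_zpowers (isOfFinOrder_iff_pow_eq_one.2 ⟨ℓ, hℓ.pos, hg⟩)).2 hx)
    intro y hy
    show (g ^ m).1 y ∈ Y
    clear hx
    induction m with
    | zero => exact hy
    | succ m ih =>
      show (g ^ (m + 1)).1 y ∈ Y
      rw [qPow_apply]
      exact hY _ ih
  letI : MulAction G Y :=
    { smul := fun x y => ⟨x.1.1 y, hGY x y y.2⟩
      one_smul := fun y => Subtype.ext rfl
      mul_smul := fun x x' y => Subtype.ext (qAut_mul_apply Q x.1 x'.1 y) }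
  have hG : IsPGroup ℓ G := fun x => by
    refine ⟨1, ?_⟩
    obtain ⟨x, hx⟩ := x
    obtain ⟨m, rfl⟩ := Subgroup.mem_zpowers_iff.1 hx
    refine Subtype.ext ?_
    show (g ^ m) ^ (ℓ ^ 1) = 1
    rw [pow_one, ← zpow_natCast, ← zpow_mul, mul_comm, zpow_mul, zpow_natCast, hg, one_zpow]
  have hfixed : MulAction.fixedPoints G Y = {(0 : Y)} := by
    ext y
    simp only [MulAction.mem_fixedPoints, Set.mem_singleton_iff]
    constructor
    · intro h
      refine Subtype.ext (hfree y y.2 ?_)
      exact congrArg Subtype.val (h ⟨g, Subgroup.mem_zpowers g⟩)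
    · rintro rfl x
      exact Subtype.ext (map_zero x.1.1)
  have h := hG.card_modEq_card_fixedPoints Y
  rw [hfixed, Nat.card_coe_set_eq, Set.ncard_singleton, Module.natCard_eq_pow_finrank (K := F),
    Nat.card_eq_fintype_card] at h
  rcases Nat.eq_zero_or_pos (Module.finrank F Y) with h0 | h0
  · exact Submodule.finrank_eq_zero.1 h0
  · exact absurd ((Nat.modEq_iff_dvd' (Nat.one_le_pow _ _ Fintype.card_pos)).1 h.symm) (hmin _ h0 hdim)

variable {K : Type*} [Field K] [Algebra F K] [Fintype K] [FiniteDimensional F K]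
variable [Module K V] [IsScalarTower F K V] [FiniteDimensional K V] {R : QuadraticForm K V}
variable (E : Over Q R) (hd3 : Module.finrank K V = 3) {w : V} (hw : R w ≠ 0)
include E hd3 hw

/-- A pair with nonzero discriminant spans the plane. -/
theorem plane_span {u x : V} (hu : QuadraticMap.polar R u w = 0) (hx : QuadraticMap.polar R x w = 0)
    (hli : ∀ a b : K, a • u + b • x = 0 → a = 0 ∧ b = 0) {z : V} (hz : QuadraticMap.polar R z w = 0) :
    ∃ a b : K, z = a • u + b • x := by
  have hw0 : w ≠ 0 := fun h => hw (by rw [h, map_zero])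
  have hle : Submodule.span K {u, x} ≤ qPerp R (Submodule.span K {w}) := by
    rw [Submodule.span_le]
    rintro y (rfl | rfl) <;> exact (mem_qPerp_singleton R).2 (by rw [QuadraticMap.polar_comm]; assumption)
  have hrange : Submodule.span K {u, x} = Submodule.span K (Set.range ![u, x]) := by
    rw [Matrix.range_cons, Matrix.range_cons, Matrix.range_empty, Set.union_empty, Set.singleton_union]
  have hfr : Module.finrank K (Submodule.span K ({u, x} : Set V)) = 2 := by
    rw [hrange, finrank_span_eq_card (Fintype.linearIndependent_iff.2 fun g hg i => by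
      obtain ⟨h0, h1⟩ := hli (g 0) (g 1) (by simpa [Fin.sum_univ_two] using hg)
      fin_cases i <;> assumption), Fintype.card_fin]
  have heq := Submodule.eq_of_le_of_finrank_le hle (by
    rw [finrank_qPerp R E.nd, finrank_span_singleton hw0, hd3, hfr])
  obtain ⟨a, b, h⟩ := Submodule.mem_span_pair.1
    (heq.symm ▸ (mem_qPerp_singleton R).2 (by rw [QuadraticMap.polar_comm]; exact hz) :
      z ∈ Submodule.span K ({u, x} : Set V))
  exact ⟨a, b, h.symm⟩

/-- The plane is complementary to the axis. -/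
theorem split_axis (z : V) : ∃ (a : K) (y : V), QuadraticMap.polar R y w = 0 ∧ z = a • w + y := by
  refine ⟨QuadraticMap.polar R z w / (2 * R w), z - (QuadraticMap.polar R z w / (2 * R w)) • w, ?_, by abel⟩
  rw [QuadraticMap.polar_sub_left, QuadraticMap.polar_smul_left, quad_polar_self, smul_eq_mul,
    div_mul_cancel₀ _ (mul_ne_zero E.two' hw), sub_self]

/-- A partner of a vector in the plane. -/
theorem exists_mate {u : V} (hu : QuadraticMap.polar R u w = 0) (hu0 : u ≠ 0) :
    ∃ z, QuadraticMap.polar R z w = 0 ∧ QuadraticMap.polar R z u = 1 := by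
  obtain ⟨z, hz⟩ : ∃ z, QuadraticMap.polar R z u ≠ 0 := by
    by_contra hc
    push Not at hc
    exact hu0 (E.nd u fun y => by rw [QuadraticMap.polar_comm]; exact hc y)
  obtain ⟨a, y, hy, rfl⟩ := split_axis E hd3 hw z
  rw [QuadraticMap.polar_add_left, QuadraticMap.polar_smul_left, QuadraticMap.polar_comm R w u, hu, smul_zero,
    zero_add] at hz
  exact ⟨(QuadraticMap.polar R y u)⁻¹ • y, by rw [QuadraticMap.polar_smul_left, hy, smul_zero],
    by rw [QuadraticMap.polar_smul_left, smul_eq_mul, inv_mul_cancel₀ hz]⟩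

/-- A vector with an isometric image off its line. -/
theorem exists_aniso : ∃ u, QuadraticMap.polar R u w = 0 ∧ R u ≠ 0 := by
  obtain ⟨a, b, haw, -, -, ha, -, -⟩ := exists_plane E hd3 hw
  exact ⟨a, haw, ha⟩

variable {a : qAut R} (haw : a.1 w = w) {ℓ : ℕ} (hℓ : ℓ.Prime) (hℓ2 : ℓ ≠ 2) (ha : a ^ ℓ = 1) (ha1 : a ≠ 1)
include haw hℓ hℓ2 ha ha1

omit hℓ hℓ2 ha ha1 in
lemma map_plane {u : V} (hu : QuadraticMap.polar R u w = 0) : QuadraticMap.polar R (a.1 u) w = 0 := by
  conv_lhs => rw [← haw]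
  rw [qAut_polar, hu]

/-- No vector of the plane is fixed. -/
theorem rot_free {u : V} (hu : QuadraticMap.polar R u w = 0) (hau : a.1 u = u) : u = 0 := by
  by_contra hu0
  obtain ⟨z, hz, hzu⟩ := exists_mate E hd3 hw hu hu0
  have hpow : ∀ x, a.1 x = x → ∀ m : ℕ, (a ^ m).1 x = x := fun x hx m => by
    induction m with
    | zero => rfl
    | succ m ih => rw [pow_succ, qAut_mul_apply, hx, ih]
  have hall : ∀ x, a.1 x = x ∨ a.1 x = -x → a.1 x = x := fun x hx => hx.elim id fun hx => by
    have hm : ∀ m : ℕ, (a ^ m).1 x = (-1 : K) ^ m • x := fun m => by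
      induction m with
      | zero => simp
      | succ m ih => rw [pow_succ, qAut_mul_apply, hx, map_neg, ih, pow_succ, mul_neg_one, neg_smul]
    have := hm ℓ
    rw [ha, (hℓ.odd_of_ne_two hℓ2).neg_one_pow, neg_one_smul] at this
    rw [hx]; exact this.symm
  suffices h : ∃ x, QuadraticMap.polar R x w = 0 ∧ a.1 x = x ∧ ∀ c d : K, c • u + d • x = 0 → c = 0 ∧ d = 0 by
    obtain ⟨x, hx, hax, hli⟩ := h
    refine ha1 (qAut_ext fun y => ?_)
    obtain ⟨k, y, hy, rfl⟩ := split_axis E hd3 hw y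
    obtain ⟨c, d, rfl⟩ := plane_span E hd3 hw hu hx hli hy
    simp only [map_add, map_smul, haw, hau, hax]
    rfl
  by_cases hRu : R u = 0
  · obtain ⟨x, hx⟩ : ∃ x, x = z + (-R z) • u := ⟨_, rfl⟩
    have hRx : R x = 0 := by
      rw [hx, quad_add, quad_smul, hRu, QuadraticMap.polar_smul_right, hzu]; simp
    have hxu : QuadraticMap.polar R x u = 1 := by
      rw [hx, QuadraticMap.polar_add_left, QuadraticMap.polar_smul_left, quad_polar_self, hRu, hzu]; simp
    have hxw : QuadraticMap.polar R x w = 0 := by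
      rw [hx, QuadraticMap.polar_add_left, QuadraticMap.polar_smul_left, hu, hz]; simp
    have hli : ∀ c d : K, c • u + d • x = 0 → c = 0 ∧ d = 0 := fun c d h => by
      have h1 := congrArg (fun y => QuadraticMap.polar R y u) h
      simp only [QuadraticMap.polar_add_left, QuadraticMap.polar_smul_left, quad_polar_self, hRu, hxu, smul_eq_mul,
        mul_zero, zero_add, mul_one, QuadraticMap.polar_zero_left] at h1
      subst h1
      rw [zero_smul, add_zero, smul_eq_zero] at h
      exact ⟨h.resolve_right hu0, rfl⟩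
    refine ⟨x, hxw, ?_, hli⟩
    obtain ⟨c, d, hcd⟩ := plane_span E hd3 hw hu hxw hli (map_plane E hd3 hw haw hxw)
    have hd : d = 1 := by
      have h1 := qAut_polar a x u
      rw [hau, hcd, hxu, QuadraticMap.polar_add_left, QuadraticMap.polar_smul_left, QuadraticMap.polar_smul_left,
        quad_polar_self, hRu, hxu] at h1
      simpa using h1
    have hc : c = 0 := by
      have h1 := qAut_map a x
      rw [hcd, hd, quad_add, quad_smul, one_smul, hRx, hRu, QuadraticMap.polar_smul_left,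
        QuadraticMap.polar_comm R u x, hxu] at h1
      simpa using h1
    rw [hcd, hc, hd]; simp
  · obtain ⟨a₁, b₁, h1w, h2w, hba, ha1', hb1', hspan⟩ := exists_plane E hd3 hw
    obtain ⟨x, hx⟩ : ∃ x, x = QuadraticMap.polar R u b₁ • a₁ - QuadraticMap.polar R u a₁ • b₁ := ⟨_, rfl⟩
    have hxu : QuadraticMap.polar R x u = 0 := by
      rw [hx, QuadraticMap.polar_sub_left, QuadraticMap.polar_smul_left, QuadraticMap.polar_smul_left,
        QuadraticMap.polar_comm R a₁ u, QuadraticMap.polar_comm R b₁ u, smul_eq_mul, smul_eq_mul]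
      ring
    have hxw : QuadraticMap.polar R x w = 0 := by
      rw [hx, QuadraticMap.polar_sub_left, QuadraticMap.polar_smul_left, QuadraticMap.polar_smul_left, h1w, h2w]
      simp
    have hx0 : x ≠ 0 := fun h => by
      rw [hx] at h
      have e1 := congrArg (fun y => QuadraticMap.polar R y a₁) h
      have e2 := congrArg (fun y => QuadraticMap.polar R y b₁) h
      simp only [QuadraticMap.polar_sub_left, QuadraticMap.polar_smul_left, quad_polar_self, hba,
        QuadraticMap.polar_comm R a₁ b₁, QuadraticMap.polar_zero_left, smul_eq_mul, mul_zero, sub_zero, zero_sub,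
        neg_eq_zero, mul_eq_zero, E.two', ha1', hb1', or_false, or_self] at e1 e2
      refine hu0 (E.nd u fun y => ?_)
      obtain ⟨k, c, d, rfl⟩ := hspan y
      simp [QuadraticMap.polar_add_right, QuadraticMap.polar_smul_right, hu, e1, e2]
    have hli : ∀ c d : K, c • u + d • x = 0 → c = 0 ∧ d = 0 := fun c d h => by
      have h1 := congrArg (fun y' => QuadraticMap.polar R y' u) h
      simp only [QuadraticMap.polar_add_left, QuadraticMap.polar_smul_left, quad_polar_self, hxu, smul_eq_mul,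
        mul_zero, add_zero, QuadraticMap.polar_zero_left, mul_eq_zero, E.two', hRu, or_false, false_or] at h1
      subst h1
      rw [zero_smul, zero_add, smul_eq_zero] at h
      exact ⟨rfl, h.resolve_right hx0⟩
    obtain ⟨c, d, hcd⟩ := plane_span E hd3 hw hu hxw hli (map_plane E hd3 hw haw hxw)
    have hc : c = 0 := by
      have h1 := qAut_polar a x u
      rw [hau, hcd, hxu, QuadraticMap.polar_add_left, QuadraticMap.polar_smul_left, QuadraticMap.polar_smul_left,
        quad_polar_self, hxu] at h1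
      simpa [E.two', hRu] using h1
    have hRx : R x ≠ 0 := fun hRx => hx0 (E.nd x fun y => by
      obtain ⟨k, y, hy, rfl⟩ := split_axis E hd3 hw y
      obtain ⟨c', d', rfl⟩ := plane_span E hd3 hw hu hxw hli hy
      simp [QuadraticMap.polar_add_right, QuadraticMap.polar_smul_right, hxw, hxu, quad_polar_self, hRx])
    rw [hc, zero_smul, zero_add] at hcd
    have hdd : d * d = 1 := by
      have h1 := qAut_map a x
      rw [hcd, quad_smul] at h1
      exact mul_right_cancel₀ hRx (by rw [one_mul]; exact h1)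
    refine ⟨x, hxw, hall x ?_, hli⟩
    rcases mul_self_eq_one_iff.1 hdd with rfl | rfl
    · left; rw [hcd, one_smul]
    · right; rw [hcd, neg_one_smul]

end CfsgLib.Classical22.OrthField.PrimeDeg
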