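/-
The centraliser and the normaliser of a rotation of large prime order.
-/
import Cfsg.Agent.Lib.Classical22.OrthFieldPrime.Rotation

set_option autoImplicit false
set_option linter.all false

namespace CfsgLib.Classical22.OrthField.PrimeDeg

open CfsgLib.Classical CfsgLib.Classical22.OrthField.Cubic

universe u

variable {F : Type u} [Field F] [Fintype F] {V : Type u} [AddCommGroup V] [Module F V] [FiniteDimensional F V]
variable {Q : QuadraticForm F V}

/-- A `p`-element fixes a nonzero vector of a nonzero invariant subspace in characteristic `p`. -/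
theorem exists_fixed_p {p : ℕ} [Fact p.Prime] [CharP F p] {g : qAut Q} {k : ℕ} (hg : g ^ p ^ k = 1)
    {Y : Submodule F V} (hY : ∀ y ∈ Y, g.1 y ∈ Y) (hY0 : Y ≠ ⊥) : ∃ y ∈ Y, y ≠ 0 ∧ g.1 y = y := by
  classical
  haveI : Finite V := Module.finite_of_finite F
  let G := Subgroup.zpowers g
  have hGY : ∀ x : G, ∀ y ∈ Y, x.1.1 y ∈ Y := fun x => by
    obtain ⟨x, hx⟩ := x
    obtain ⟨m, rfl⟩ := (Submonoid.mem_powers_iff _ _).1 ((IsOfFinOrder.mem_powers_iff_mem_zpowers
      (isOfFinOrder_iff_pow_eq_one.2 ⟨p ^ k, pow_pos (Fact.out : p.Prime).pos k, hg⟩)).2 hx)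
    intro y hy
    show (g ^ m).1 y ∈ Y
    clear hx
    induction m with
    | zero => exact hy
    | succ m ih =>
      show (g ^ (m + 1)).1 y ∈ Y
      rw [qPow_apply]
      exact hY _ ih
  letI : MulAction G Y :=
    { smul := fun x y => ⟨x.1.1 y, hGY x y y.2⟩
      one_smul := fun y => Subtype.ext rfl
      mul_smul := fun x x' y => Subtype.ext (qAut_mul_apply Q x.1 x'.1 y) }
  have hG : IsPGroup p G := fun x => by
    refine ⟨k, ?_⟩
    obtain ⟨x, hx⟩ := x
    obtain ⟨m, rfl⟩ := Subgroup.mem_zpowers_iff.1 hx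
    refine Subtype.ext ?_
    show (g ^ m) ^ (p ^ k) = 1
    rw [← zpow_natCast, ← zpow_mul, mul_comm, zpow_mul, zpow_natCast, hg, one_zpow]
  have hdvd : p ∣ Nat.card Y := by
    obtain ⟨m, hp, hF⟩ := FiniteField.card F p
    rw [Module.natCard_eq_pow_finrank (K := F), Nat.card_eq_fintype_card, hF, ← pow_mul]
    refine dvd_pow_self p (Nat.mul_ne_zero m.ne_zero fun h0 => hY0 (Submodule.finrank_eq_zero.1 h0))
  obtain ⟨y, hy, hy0⟩ := hG.exists_fixed_point_of_prime_dvd_card_of_fixed_point Y hdvd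
    (a := (0 : Y)) (fun x => Subtype.ext (map_zero x.1.1))
  exact ⟨y, y.2, fun h => hy0 (Subtype.ext h).symm, congrArg Subtype.val (hy ⟨g, Subgroup.mem_zpowers g⟩)⟩

omit [Fintype F] [FiniteDimensional F V] in
/-- An orbit sum is fixed. -/
theorem orbit_sum_fixed {g : qAut Q} {l : ℕ} (hg : g ^ l = 1) (x : V) :
    g.1 (∑ i ∈ Finset.range l, (g ^ i).1 x) = ∑ i ∈ Finset.range l, (g ^ i).1 x := by
  have h1 := Finset.sum_range_succ (fun i => (g ^ i).1 x) l
  rw [Finset.sum_range_succ', hg, pow_zero] at h1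
  rw [map_sum]
  refine Eq.trans (Finset.sum_congr rfl fun i _ => (qPow_apply g i x).symm) ?_
  exact add_right_cancel h1

variable {K : Type*} [Field K] [Algebra F K] [Fintype K] [FiniteDimensional F K]
variable [Module K V] [IsScalarTower F K V] [FiniteDimensional K V] {R : QuadraticForm K V}
variable (E : Over Q R) (hd3 : Module.finrank K V = 3) {w : V} (hw : R w ≠ 0)
variable {a : qAut R} (haw : a.1 w = w) {ℓ : ℕ} (hℓ : ℓ.Prime) (hℓ2 : ℓ ≠ 2) (ha : a ^ ℓ = 1) (ha1 : a ≠ 1)
include E hd3 hw haw hℓ hℓ2 ha ha1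

omit E hd3 hw hℓ hℓ2 ha ha1 in
lemma pow_axis (m : ℕ) : (a ^ m).1 w = w := by
  induction m with
  | zero => rfl
  | succ m ih => rw [pow_succ, qAut_mul_apply, haw, ih]

omit hℓ hℓ2 ha ha1 in
lemma pow_plane (m : ℕ) {u : V} (hu : QuadraticMap.polar R u w = 0) : QuadraticMap.polar R ((a ^ m).1 u) w = 0 :=
  map_plane E hd3 hw (pow_axis haw m) hu

/-- A power fixing a vector of the plane is trivial. -/
theorem fixed_pow {m : ℕ} {u : V} (hu : QuadraticMap.polar R u w = 0) (hu0 : u ≠ 0) (hm : (a ^ m).1 u = u) :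
    ℓ ∣ m := by
  haveI : Fact ℓ.Prime := ⟨hℓ⟩
  by_contra hd
  refine hu0 (rot_free E hd3 hw (pow_axis haw m) hℓ hℓ2 (by rw [← pow_mul, mul_comm, pow_mul, ha, one_pow])
    (fun h => hd ?_) hu hm)
  rw [← orderOf_eq_prime ha ha1]
  exact orderOf_dvd_of_pow_eq_one h

omit hℓ2 in
/-- The inverse as a power. -/
lemma inv_eq_pow : a⁻¹ = a ^ (ℓ - 1) := by
  refine inv_eq_of_mul_eq_one_right ?_
  rw [← pow_succ', Nat.sub_add_cancel hℓ.one_le, ha]

/-- Two vectors spanning the plane. -/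
theorem plane_basis {u : V} (hu : QuadraticMap.polar R u w = 0) (hRu : R u ≠ 0) :
    ∀ c d : K, c • u + d • a.1 u = 0 → c = 0 ∧ d = 0 := fun c d h => by
  have hu0 : u ≠ 0 := fun h => hRu (by rw [h, map_zero])
  by_cases hd : d = 0
  · subst hd
    rw [zero_smul, add_zero, smul_eq_zero] at h
    exact ⟨h.resolve_right hu0, rfl⟩
  exfalso
  obtain ⟨c', hc'⟩ : ∃ c', a.1 u = c' • u := ⟨-(c / d), by
    have h1 : d • a.1 u = -(c • u) := eq_neg_of_add_eq_zero_right h
    calc a.1 u = d⁻¹ • d • a.1 u := (inv_smul_smul₀ hd _).symm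
      _ = _ := by rw [h1, smul_neg, smul_smul, neg_smul, inv_mul_eq_div]⟩
  have h1 := qAut_map a u
  rw [hc', quad_smul] at h1
  have hcc : c' * c' = 1 := mul_right_cancel₀ hRu (by rw [one_mul]; exact h1)
  have h2 : (a ^ 2).1 u = u := by
    rw [sq, qAut_mul_apply, hc', map_smul, hc', smul_smul, hcc, one_smul]
  have := Nat.le_of_dvd two_pos (fixed_pow E hd3 hw haw hℓ hℓ2 ha ha1 hu hu0 h2)
  have := hℓ.two_le
  omega

variable {r : ℕ} (hr3 : 3 ≤ r) (hmin : ∀ m, 1 ≤ m → m < r → ¬ ℓ ∣ Fintype.card F ^ m - 1)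
include hr3 hmin

/-- The trace of the rotation. -/
theorem exists_xi : ∃ ξ : K, (∀ u, QuadraticMap.polar R u w = 0 → a.1 u + (a⁻¹).1 u = ξ • u) ∧
    ∀ c : F, algebraMap F K c ≠ ξ := by
  obtain ⟨u, hu, hRu⟩ := exists_aniso E hd3 hw
  have hu0 : u ≠ 0 := fun h => hRu (by rw [h, map_zero])
  obtain ⟨x, hx⟩ : ∃ x, x = a.1 u := ⟨_, rfl⟩
  have hxw : QuadraticMap.polar R x w = 0 := hx ▸ map_plane E hd3 hw haw hu
  have hli : ∀ c d : K, c • u + d • x = 0 → c = 0 ∧ d = 0 := hx ▸ plane_basis E hd3 hw haw hℓ hℓ2 ha ha1 hu hRu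
  obtain ⟨π, hπ⟩ : ∃ π, π = QuadraticMap.polar R x u := ⟨_, rfl⟩
  have hRx : R x = R u := hx ▸ qAut_map a u
  have hiw : QuadraticMap.polar R ((a⁻¹).1 u) w = 0 := by
    rw [inv_eq_pow E hd3 hw haw hℓ ha ha1]; exact pow_plane E hd3 hw haw _ hu
  obtain ⟨α, γ, hy⟩ := plane_span E hd3 hw hu hxw hli hiw
  have e1 : QuadraticMap.polar R ((a⁻¹).1 u) u = π := by
    rw [hπ, hx, ← qAut_polar a ((a⁻¹).1 u) u, qApply_inv_self, QuadraticMap.polar_comm]
  have e2 : R ((a⁻¹).1 u) = R u := qAut_map a⁻¹ u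
  rw [hy, QuadraticMap.polar_add_left, QuadraticMap.polar_smul_left, QuadraticMap.polar_smul_left, quad_polar_self,
    ← hπ, smul_eq_mul, smul_eq_mul] at e1
  rw [hy, quad_add, quad_smul, quad_smul, QuadraticMap.polar_smul_left, QuadraticMap.polar_smul_right,
    QuadraticMap.polar_comm R u x, ← hπ, hRx] at e2
  simp only [smul_eq_mul] at e2
  have hdisc : π * π - 4 * (R u * R u) ≠ 0 := fun h0 => by
    have hz : ∀ y, QuadraticMap.polar R (π • u + (-(2 * R u)) • x) y = 0 := fun y => by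
      obtain ⟨k, y, hy', rfl⟩ := split_axis E hd3 hw y
      obtain ⟨c, d, rfl⟩ := plane_span E hd3 hw hu hxw hli hy'
      simp only [QuadraticMap.polar_add_left, QuadraticMap.polar_add_right, QuadraticMap.polar_smul_left,
        QuadraticMap.polar_smul_right, quad_polar_self, hu, hxw, hRx, QuadraticMap.polar_comm R u x, ← hπ,
        smul_eq_mul, mul_zero, zero_add, add_zero]
      linear_combination d * h0
    have := (hli π (-(2 * R u)) (E.nd _ hz)).2
    exact mul_ne_zero E.two' hRu (neg_eq_zero.1 this)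
  have e3 : (γ * γ - 1) * (π * π - 4 * (R u * R u)) = 0 := by
    linear_combination (-(4 * R u)) * e2 + (2 * R u * α + γ * π + π) * e1
  have hγ : γ = -1 := by
    rcases mul_self_eq_one_iff.1 (sub_eq_zero.1 ((mul_eq_zero.1 e3).resolve_right hdisc)) with rfl | rfl
    · exfalso
      have hα : α = 0 := by
        have : α * (2 * R u) = 0 := by linear_combination e1
        exact (mul_eq_zero.1 this).resolve_right (mul_ne_zero E.two' hRu)
      rw [hα, zero_smul, zero_add, one_smul, hx] at hy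
      have h2 : (a ^ 2).1 u = u := by
        rw [sq, qAut_mul_apply, ← hy, qApply_inv_self]
      have := Nat.le_of_dvd two_pos (fixed_pow E hd3 hw haw hℓ hℓ2 ha ha1 hu hu0 h2)
      have := hℓ.two_le
      omega
    · rfl
  subst hγ
  rw [neg_one_smul] at hy
  refine ⟨α, fun y hy' => ?_, fun c hc => ?_⟩
  · obtain ⟨c, d, rfl⟩ := plane_span E hd3 hw hu hxw hli hy'
    have h1 : a.1 x = α • x - u := by
      have := congrArg a.1 (show (a⁻¹).1 u = α • u + -x from hy)
      rw [qApply_inv_self, map_add, map_smul, map_neg, ← hx] at this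
      linear_combination (norm := module) this
    simp only [map_add, map_smul, ← hx, hy, h1]
    rw [show (a⁻¹).1 x = u by rw [hx, qInv_apply_self]]
    module
  · -- a plane over the ground field
    have h1 : a.1 x = c • x - u := by
      have := congrArg a.1 (show (a⁻¹).1 u = α • u + -x from hy)
      rw [qApply_inv_self, map_add, map_smul, map_neg, ← hx, ← hc, algebraMap_smul] at this
      linear_combination (norm := module) this
    have hY := eq_bot_of_free hℓ hmin (g := E.lift a) (Y := Submodule.span F {u, x})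
      (by rw [← map_pow, ha, map_one]) (fun y hy => by
        obtain ⟨p, q, rfl⟩ := Submodule.mem_span_pair.1 hy
        rw [Over.lift_apply, map_add, ← algebraMap_smul K p u, ← algebraMap_smul K q x, map_smul, map_smul, algebraMap_smul, algebraMap_smul, ← hx, h1]
        refine Submodule.mem_span_pair.2 ⟨-q, p + q * c, ?_⟩
        module)
      (fun y hy hfix => by
        refine rot_free E hd3 hw haw hℓ hℓ2 ha ha1 ?_ (by rw [Over.lift_apply] at hfix; exact hfix)
        obtain ⟨p, q, rfl⟩ := Submodule.mem_span_pair.1 hy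
        rw [← algebraMap_smul K p u, ← algebraMap_smul K q x, QuadraticMap.polar_add_left,
          QuadraticMap.polar_smul_left, QuadraticMap.polar_smul_left, hu, hxw, smul_zero, smul_zero, add_zero])
      (lt_of_le_of_lt (b := 2) (by
        rw [show ({u, x} : Set V) = Set.range ![u, x] by
          rw [Matrix.range_cons, Matrix.range_cons, Matrix.range_empty, Set.union_empty, Set.singleton_union]]
        exact finrank_range_le_card (R := F) (b := ![u, x])) (by omega))
    exact hu0 ((Submodule.eq_bot_iff _).1 hY u (Submodule.subset_span (Set.mem_insert _ _)))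

variable (hrK : Module.finrank F K = r) (hrp : r.Prime) (hr2 : r ≠ 2)
include hrK hrp hr2

/-- An element normalising the rotation is semilinear on the plane, and its square power centralises. -/
theorem conj_structure {T : qAut Q} (hTw : T.1 w = w) {i : ℕ} (hT : T * E.lift a = E.lift a ^ i * T) :
    (∀ u, QuadraticMap.polar R u w = 0 → QuadraticMap.polar R (T.1 u) w = 0) ∧
      T ^ (2 * r) * E.lift a = E.lift a * T ^ (2 * r) := by
  classical
  obtain ⟨ξ, hξ, hξF⟩ := exists_xi E hd3 hw haw hℓ hℓ2 ha ha1 hr3 hmin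
  haveI : Finite V := Module.finite_of_finite F
  have hTa : ∀ z, T.1 (a.1 z) = (a ^ i).1 (T.1 z) := fun z => by
    rw [← E.lift_apply a, ← qAut_mul_apply, hT, qAut_mul_apply, ← map_pow, Over.lift_apply]
  have hsurj : ∀ z, QuadraticMap.polar R z w = 0 → ∃ y, QuadraticMap.polar R y w = 0 ∧ a.1 y - y = z := fun z hz => by
    let W := {y : V // QuadraticMap.polar R y w = 0}
    let L : W → W := fun y => ⟨a.1 y.1 - y.1, by
      rw [QuadraticMap.polar_sub_left, map_plane E hd3 hw haw y.2, y.2, sub_self]⟩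
    have hL : Function.Injective L := fun y y' h => by
      have h' : a.1 y.1 - y.1 = a.1 y'.1 - y'.1 := congrArg Subtype.val h
      refine Subtype.ext (sub_eq_zero.1 (rot_free E hd3 hw haw hℓ hℓ2 ha ha1 ?_ ?_))
      · rw [QuadraticMap.polar_sub_left, y.2, y'.2, sub_self]
      · rw [map_sub]; linear_combination (norm := module) h'
    obtain ⟨y, hy⟩ := Finite.injective_iff_surjective.1 hL ⟨z, hz⟩
    exact ⟨y.1, y.2, congrArg Subtype.val hy⟩
  have hTW : ∀ u, QuadraticMap.polar R u w = 0 → QuadraticMap.polar R (T.1 u) w = 0 := fun u hu => by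
    obtain ⟨y, -, rfl⟩ := hsurj u hu
    rw [map_sub, hTa, QuadraticMap.polar_sub_left]
    conv_lhs => arg 1; arg 3; rw [← pow_axis haw i]
    rw [qAut_polar, sub_self]
  refine ⟨hTW, ?_⟩
  have hpowinv : ∀ (m : ℕ) (z : V), ((a⁻¹) ^ m).1 ((a ^ m).1 z) = z := fun m z => by
    rw [← qAut_mul_apply, inv_pow, inv_mul_cancel]; rfl
  have hxi : ∀ m : ℕ, ∃ c : K, ∀ u, QuadraticMap.polar R u w = 0 → (a ^ m).1 u + ((a⁻¹) ^ m).1 u = c • u := fun m => by
    induction m using Nat.strong_induction_on with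
    | _ m ih =>
      match m with
      | 0 => exact ⟨2, fun u _ => by rw [pow_zero, pow_zero, two_smul]; rfl⟩
      | 1 => exact ⟨ξ, fun u hu => by rw [pow_one, pow_one]; exact hξ u hu⟩
      | n + 2 =>
        obtain ⟨c1, h1⟩ := ih (n + 1) (by omega)
        obtain ⟨c0, h0⟩ := ih n (by omega)
        refine ⟨c1 * ξ - c0, fun u hu => ?_⟩
        have e0 := h0 u hu
        have e1 := h1 (a.1 u) (map_plane E hd3 hw haw hu)
        have hiw : QuadraticMap.polar R ((a⁻¹).1 u) w = 0 := by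
          rw [inv_eq_pow E hd3 hw haw hℓ ha ha1]; exact pow_plane E hd3 hw haw _ hu
        have e2 := h1 ((a⁻¹).1 u) hiw
        have e3 : ((a⁻¹) ^ (n + 1)).1 (a.1 u) = ((a⁻¹) ^ n).1 u := by
          rw [pow_succ, qAut_mul_apply, qInv_apply_self]
        have e4 : (a ^ (n + 1)).1 ((a⁻¹).1 u) = (a ^ n).1 u := by
          rw [pow_succ, qAut_mul_apply, qApply_inv_self]
        rw [e3] at e1
        rw [e4] at e2
        rw [pow_succ a (n + 1), pow_succ a⁻¹ (n + 1), qAut_mul_apply, qAut_mul_apply, sub_smul, mul_smul, ← hξ u hu,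
          ← e0, smul_add, ← e1, ← e2]
        abel
  -- semilinear
  have hTinv : ∀ z, T.1 ((a⁻¹).1 z) = ((a⁻¹) ^ i).1 (T.1 z) := fun z => by
    have := hTa ((a⁻¹).1 z)
    rw [qApply_inv_self] at this
    rw [this, hpowinv]
  let S : Subalgebra F K :=
    { carrier := {k | ∃ k' : K, ∀ u, QuadraticMap.polar R u w = 0 → T.1 (k • u) = k' • T.1 u}
      mul_mem' := fun {k l} ⟨k', hk⟩ ⟨l', hl⟩ => ⟨k' * l', fun u hu => by
        rw [mul_smul, hk _ (by rw [QuadraticMap.polar_smul_left, hu, smul_zero]), hl u hu, smul_smul]⟩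
      add_mem' := fun {k l} ⟨k', hk⟩ ⟨l', hl⟩ => ⟨k' + l', fun u hu => by
        rw [add_smul, map_add, hk u hu, hl u hu, add_smul]⟩
      algebraMap_mem' := fun c => ⟨algebraMap F K c, fun u _ => by rw [algebraMap_smul, algebraMap_smul, map_smul]⟩ }
  have hξS : ξ ∈ S := by
    obtain ⟨c, hc⟩ := hxi i
    exact ⟨c, fun u hu => by rw [← hξ u hu, map_add, hTa, hTinv, hc _ (hTW u hu)]⟩
  have hStop : ∀ k : K, k ∈ S := by
    haveI := Subalgebra.isSimpleOrder_of_finrank_prime F K (hrK ▸ hrp)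
    rcases eq_bot_or_eq_top S with h | h
    · exfalso
      obtain ⟨c, hc⟩ := Algebra.mem_bot.1 (h ▸ hξS)
      exact hξF c hc
    · exact fun k => h ▸ Algebra.mem_top
  obtain ⟨τ, hτ⟩ : ∃ τ : K → K, ∀ k u, QuadraticMap.polar R u w = 0 → T.1 (k • u) = τ k • T.1 u :=
    ⟨fun k => (hStop k).choose, fun k => (hStop k).choose_spec⟩
  obtain ⟨u₀, hu₀, hRu₀⟩ := exists_aniso E hd3 hw
  have hu₀0 : u₀ ≠ 0 := fun h => hRu₀ (by rw [h, map_zero])
  have hTu0 : T.1 u₀ ≠ 0 := by rw [ne_eq, LinearEquiv.map_eq_zero_iff]; exact hu₀0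
  let τ₀ : K →ₐ[F] K :=
    { toFun := τ
      map_one' := smul_left_injective K hTu0 (by show τ 1 • T.1 u₀ = (1 : K) • T.1 u₀; rw [← hτ _ _ hu₀, one_smul, one_smul])
      map_mul' := fun k l => smul_left_injective K hTu0 (by
        show τ (k * l) • T.1 u₀ = (τ k * τ l) • T.1 u₀
        rw [← hτ _ _ hu₀, mul_smul, hτ _ _ (by rw [QuadraticMap.polar_smul_left, hu₀, smul_zero]), hτ _ _ hu₀,
          smul_smul])
      map_zero' := smul_left_injective K hTu0 (by
        show τ 0 • T.1 u₀ = (0 : K) • T.1 u₀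
        rw [← hτ _ _ hu₀, zero_smul, zero_smul, map_zero])
      map_add' := fun k l => smul_left_injective K hTu0 (by
        show τ (k + l) • T.1 u₀ = (τ k + τ l) • T.1 u₀
        rw [← hτ _ _ hu₀, add_smul, map_add, hτ _ _ hu₀, hτ _ _ hu₀, add_smul])
      commutes' := fun c => smul_left_injective K hTu0 (by
        show τ (algebraMap F K c) • T.1 u₀ = algebraMap F K c • T.1 u₀
        rw [← hτ _ _ hu₀, algebraMap_smul, algebraMap_smul, map_smul]) }
  let τe : K ≃ₐ[F] K := AlgEquiv.ofBijective τ₀ (Finite.injective_iff_bijective.1 τ₀.toRingHom.injective)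
  have hm : ∀ (m : ℕ), (∀ u, QuadraticMap.polar R u w = 0 → QuadraticMap.polar R ((T ^ m).1 u) w = 0) ∧
      (∀ (k : K) u, QuadraticMap.polar R u w = 0 → (T ^ m).1 (k • u) = (τe ^ m) k • (T ^ m).1 u) := fun m => by
    induction m with
    | zero => exact ⟨fun u hu => hu, fun k u _ => rfl⟩
    | succ m ih =>
      refine ⟨fun u hu => ?_, fun k u hu => ?_⟩
      · rw [qPow_apply]; exact hTW _ (ih.1 u hu)
      · rw [qPow_apply, qPow_apply, ih.2 k u hu, hτ _ _ (ih.1 u hu), pow_succ' τe]; rfl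
  have hconj : ∀ (m : ℕ) (n : ℕ), T ^ m * E.lift a ^ n = E.lift a ^ (n * i ^ m) * T ^ m := fun m => by
    induction m with
    | zero => intro n; simp
    | succ m ih =>
      intro n
      have h1 : ∀ n : ℕ, T * E.lift a ^ n = E.lift a ^ (n * i) * T := fun n => by
        induction n with
        | zero => simp
        | succ n ih' => rw [pow_succ, ← mul_assoc, ih', mul_assoc, hT, ← mul_assoc, ← pow_add, add_mul, one_mul]
      rw [pow_succ' T, mul_assoc, ih, ← mul_assoc, h1, mul_assoc, pow_succ, mul_assoc n]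
  obtain ⟨j, hj⟩ : ∃ j, j = i ^ r := ⟨_, rfl⟩
  have hU : T ^ r * E.lift a = E.lift a ^ j * T ^ r := by
    have := hconj r 1
    rwa [pow_one, one_mul, ← hj] at this
  have hτr : τe ^ r = 1 := by
    haveI : Finite F := inferInstance
    rw [← hrK, ← IsGalois.card_aut_eq_finrank]
    exact pow_card_eq_one'
  have hUa : ∀ z, (T ^ r).1 (a.1 z) = (a ^ j).1 ((T ^ r).1 z) := fun z => by
    rw [← E.lift_apply a, ← qAut_mul_apply, hU, qAut_mul_apply, ← map_pow, Over.lift_apply]
  have hUi : ∀ z, (T ^ r).1 ((a⁻¹).1 z) = ((a⁻¹) ^ j).1 ((T ^ r).1 z) := fun z => by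
    have := hUa ((a⁻¹).1 z)
    rw [qApply_inv_self] at this
    rw [this, hpowinv]
  -- the image under the power has the same trace
  obtain ⟨u₁, hu₁⟩ : ∃ u₁, u₁ = (T ^ r).1 u₀ := ⟨_, rfl⟩
  have hu₁w : QuadraticMap.polar R u₁ w = 0 := hu₁ ▸ (hm r).1 u₀ hu₀
  have hu₁0 : u₁ ≠ 0 := by rw [hu₁, ne_eq, LinearEquiv.map_eq_zero_iff]; exact hu₀0
  have heq : (a ^ j).1 u₁ + ((a⁻¹) ^ j).1 u₁ = a.1 u₁ + (a⁻¹).1 u₁ := by
    rw [hξ u₁ hu₁w, hu₁, ← hUa, ← hUi, ← map_add, hξ u₀ hu₀, (hm r).2 ξ u₀ hu₀, hτr]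
    rfl
  obtain ⟨z, hz⟩ : ∃ z, z = (a ^ j).1 u₁ - a.1 u₁ := ⟨_, rfl⟩
  have hzw : QuadraticMap.polar R z w = 0 := by
    rw [hz, QuadraticMap.polar_sub_left, pow_plane E hd3 hw haw j hu₁w, map_plane E hd3 hw haw hu₁w, sub_self]
  have hcase : a ^ j = a ∨ a ^ j = a⁻¹ := by
    by_cases hz0 : z = 0
    · left
      rw [hz, sub_eq_zero] at hz0
      have hj0 : j ≠ 0 := fun h => hu₁0 (rot_free E hd3 hw haw hℓ hℓ2 ha ha1 hu₁w (by
        rw [← hz0, h, pow_zero]; rfl))
      have h1 : (a ^ (j - 1)).1 u₁ = u₁ := by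
        refine a.1.injective ?_
        rw [← qAut_mul_apply, ← pow_succ', Nat.sub_add_cancel (Nat.pos_of_ne_zero hj0), hz0]
      obtain ⟨c, hc⟩ := fixed_pow E hd3 hw haw hℓ hℓ2 ha ha1 hu₁w hu₁0 h1
      rw [show j = ℓ * c + 1 by omega, pow_succ, pow_mul, ha, one_pow, one_mul]
    · right
      have hz' : z = (a⁻¹).1 u₁ - ((a⁻¹) ^ j).1 u₁ := by rw [hz]; linear_combination (norm := module) heq
      have h1 : (a ^ (j + 1)).1 z = z := by
        have e1 : (a ^ (j + 1)).1 ((a⁻¹).1 u₁) = (a ^ j).1 u₁ := by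
          rw [pow_succ, qAut_mul_apply, qApply_inv_self]
        have e2 : (a ^ (j + 1)).1 (((a⁻¹) ^ j).1 u₁) = a.1 u₁ := by
          rw [pow_succ', qAut_mul_apply, ← qAut_mul_apply R (a ^ j), inv_pow, mul_inv_cancel]
          rfl
        conv_lhs => rw [hz', map_sub, e1, e2, ← hz]
      obtain ⟨c, hc⟩ := fixed_pow E hd3 hw haw hℓ hℓ2 ha ha1 hzw hz0 h1
      exact eq_inv_of_mul_eq_one_left (by rw [← pow_succ, hc, pow_mul, ha, one_pow])
  have hfin : E.lift a ^ j = E.lift a ∨ E.lift a ^ j = (E.lift a)⁻¹ :=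
    hcase.imp (fun h => by rw [← map_pow, h]) (fun h => by rw [← map_pow, h, map_inv])
  rw [two_mul, pow_add, mul_assoc, hU, ← mul_assoc]
  rcases hfin with h | h
  · rw [h, hU, h, mul_assoc]
  · rw [h] at hU ⊢
    have h2 : T ^ r * (E.lift a)⁻¹ = E.lift a * T ^ r := by
      have h3 := congrArg (fun x => E.lift a * x * (E.lift a)⁻¹) hU
      simp only [← mul_assoc, mul_inv_cancel, one_mul, inv_mul_cancel_right, mul_inv_cancel_right] at h3
      exact h3.symm
    rw [h2, mul_assoc]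

/-- What centralises the rotation is linear on the plane. -/
theorem cent_semi {T : qAut Q} (hTw : T.1 w = w) (hT : T * E.lift a = E.lift a * T) :
    (∀ u, QuadraticMap.polar R u w = 0 → QuadraticMap.polar R (T.1 u) w = 0) ∧
      ∀ (k : K) u, QuadraticMap.polar R u w = 0 → T.1 (k • u) = k • T.1 u := by
  obtain ⟨hTW, -⟩ := conj_structure E hd3 hw haw hℓ hℓ2 ha ha1 hr3 hmin hrK hrp hr2 hTw (i := 1)
    (by rw [pow_one]; exact hT)
  refine ⟨hTW, ?_⟩
  obtain ⟨ξ, hξ, hξF⟩ := exists_xi E hd3 hw haw hℓ hℓ2 ha ha1 hr3 hmin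
  have hTa : ∀ z, T.1 (a.1 z) = a.1 (T.1 z) := fun z => by
    rw [← E.lift_apply a, ← qAut_mul_apply, hT, qAut_mul_apply, Over.lift_apply]
  have hTi : ∀ z, T.1 ((a⁻¹).1 z) = (a⁻¹).1 (T.1 z) := fun z => by
    conv_rhs => rw [← qApply_inv_self R a z, hTa, qInv_apply_self]
  let S : Subalgebra F K :=
    { carrier := {k | ∀ u, QuadraticMap.polar R u w = 0 → T.1 (k • u) = k • T.1 u}
      mul_mem' := fun {k l} hk hl u hu => by
        rw [mul_smul, hk _ (by rw [QuadraticMap.polar_smul_left, hu, smul_zero]), hl u hu, smul_smul]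
      add_mem' := fun {k l} hk hl u hu => by rw [add_smul, map_add, hk u hu, hl u hu, add_smul]
      algebraMap_mem' := fun c u _ => by rw [algebraMap_smul, algebraMap_smul, map_smul] }
  have hξS : ξ ∈ S := fun u hu => by rw [← hξ u hu, map_add, hTa, hTi, hξ _ (hTW u hu)]
  haveI := Subalgebra.isSimpleOrder_of_finrank_prime F K (hrK ▸ hrp)
  rcases eq_bot_or_eq_top S with h | h
  · exfalso
    obtain ⟨c, hc⟩ := Algebra.mem_bot.1 (h ▸ hξS)
    exact hξF c hc
  · intro k
    exact (h ▸ Algebra.mem_top : k ∈ S)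

/-- What centralises the rotation and fixes a vector of the plane is trivial on the plane. -/
theorem cent_fixed {T : qAut Q} (hTw : T.1 w = w) (hT : T * E.lift a = E.lift a * T) {u : V}
    (hu : QuadraticMap.polar R u w = 0) (hu0 : u ≠ 0) (hTu : T.1 u = u) :
    ∀ z, QuadraticMap.polar R z w = 0 → T.1 z = z := by
  obtain ⟨hTW, hlin⟩ := cent_semi E hd3 hw haw hℓ hℓ2 ha ha1 hr3 hmin hrK hrp hr2 hTw hT
  suffices h : ∃ x, QuadraticMap.polar R x w = 0 ∧ T.1 x = x ∧ ∀ c d : K, c • u + d • x = 0 → c = 0 ∧ d = 0 by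
    obtain ⟨x, hx, hTx, hli⟩ := h
    intro z hz
    obtain ⟨c, d, rfl⟩ := plane_span E hd3 hw hu hx hli hz
    rw [map_add, hlin _ _ hu, hlin _ _ hx, hTu, hTx]
  by_cases hRu : R u = 0
  · obtain ⟨z, hz, hzu⟩ := exists_mate E hd3 hw hu hu0
    obtain ⟨x, hx⟩ : ∃ x, x = z + (-R z) • u := ⟨_, rfl⟩
    have hRx : R x = 0 := by
      rw [hx, quad_add, quad_smul, hRu, QuadraticMap.polar_smul_right, hzu]; simp
    have hxu : QuadraticMap.polar R x u = 1 := by
      rw [hx, QuadraticMap.polar_add_left, QuadraticMap.polar_smul_left, quad_polar_self, hRu, hzu]; simp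
    have hxw : QuadraticMap.polar R x w = 0 := by
      rw [hx, QuadraticMap.polar_add_left, QuadraticMap.polar_smul_left, hu, hz]; simp
    have hli : ∀ c d : K, c • u + d • x = 0 → c = 0 ∧ d = 0 := fun c d h => by
      have h1 := congrArg (fun y => QuadraticMap.polar R y u) h
      simp only [QuadraticMap.polar_add_left, QuadraticMap.polar_smul_left, quad_polar_self, hRu, hxu, smul_eq_mul,
        mul_zero, zero_add, mul_one, QuadraticMap.polar_zero_left] at h1
      subst h1
      rw [zero_smul, add_zero, smul_eq_zero] at h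
      exact ⟨h.resolve_right hu0, rfl⟩
    refine ⟨x, hxw, ?_, hli⟩
    obtain ⟨α, β, hab⟩ := plane_span E hd3 hw hu hxw hli (hTW x hxw)
    have hux : QuadraticMap.polar R u x = 1 := by rw [QuadraticMap.polar_comm]; exact hxu
    have hβ : β = 1 := trace_ext' (F := F) fun k => by
      have h := qAut_polar T (k • u) x
      rw [hlin k u hu, hTu, hab, E.polar, E.polar] at h
      simpa [QuadraticMap.polar_add_right, QuadraticMap.polar_smul_right, QuadraticMap.polar_smul_left, hux,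
        quad_polar_self, hRu, mul_comm] using h
    have hα : α = 0 := by
      have h0 : α + α = 0 := trace_ext' (F := F) fun k => by
        have h := qAut_polar T (k • x) x
        rw [hlin k x hxw, hab, hβ, E.polar, E.polar] at h
        simpa [QuadraticMap.polar_add_right, QuadraticMap.polar_add_left, QuadraticMap.polar_smul_right,
          QuadraticMap.polar_smul_left, hux, hxu, quad_polar_self, hRu, hRx, mul_add, mul_comm α k] using h
      rw [← two_mul] at h0
      exact (mul_eq_zero.1 h0).resolve_left E.two'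
    rw [hab, hα, hβ, zero_smul, zero_add, one_smul]
  · refine ⟨a.1 u, map_plane E hd3 hw haw hu, ?_, plane_basis E hd3 hw haw hℓ hℓ2 ha ha1 hu hRu⟩
    rw [← E.lift_apply a, ← qAut_mul_apply, hT, qAut_mul_apply, hTu]

/-- A centralising element of characteristic power order is trivial on the plane. -/
theorem cent_p {p k : ℕ} [Fact p.Prime] [CharP F p] {T : qAut Q} (hTw : T.1 w = w)
    (hT : T * E.lift a = E.lift a * T) (hTp : T ^ p ^ k = 1) : ∀ z, QuadraticMap.polar R z w = 0 → T.1 z = z := by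
  obtain ⟨hTW, -⟩ := cent_semi E hd3 hw haw hℓ hℓ2 ha ha1 hr3 hmin hrK hrp hr2 hTw hT
  obtain ⟨Y, hY⟩ : ∃ Y : Submodule F V, ∀ z, z ∈ Y ↔ QuadraticMap.polar R z w = 0 :=
    ⟨LinearMap.ker (((QuadraticMap.polarBilin R).flip w).restrictScalars F), fun z => by simp⟩
  obtain ⟨u₀, hu₀, hRu₀⟩ := exists_aniso E hd3 hw
  obtain ⟨u, hu, hu0, hTu⟩ := exists_fixed_p hTp (Y := Y) (fun y hy => (hY _).2 (hTW y ((hY y).1 hy)))
    fun h => hRu₀ (by rw [(Submodule.eq_bot_iff _).1 h u₀ ((hY _).2 hu₀), map_zero])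
  exact cent_fixed E hd3 hw haw hℓ hℓ2 ha ha1 hr3 hmin hrK hrp hr2 hTw hT ((hY u).1 hu) hu0 hTu

/-- A centralising element of the same prime order is a power. -/
theorem cent_ell (hℓF : (ℓ : F) ≠ 0) {T : qAut Q} (hTw : T.1 w = w) (hT : T * E.lift a = E.lift a * T)
    (hTl : T ^ ℓ = 1) : ∃ i : ℕ, T = E.lift a ^ i := by
  classical
  have hw0 : w ≠ 0 := fun h => hw (by rw [h, map_zero])
  obtain ⟨hTW, -⟩ := cent_semi E hd3 hw haw hℓ hℓ2 ha ha1 hr3 hmin hrK hrp hr2 hTw hT
  have hpk : ∀ (i : ℕ) (z : V), (E.lift a ^ i).1 z = (a ^ i).1 z := fun i z => by rw [← map_pow, Over.lift_apply]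
  have hcancel : ∀ y : V, (ℓ : F) • y = 0 → y = 0 := fun y h => (smul_eq_zero.1 h).resolve_left hℓF
  -- the axis
  have hline : ∀ z ∈ lineF F (K := K) w, T.1 z ∈ lineF F (K := K) w := fun z hz => by
    obtain ⟨k, rfl⟩ := mem_lineF.1 hz
    obtain ⟨c, y, hy, hcy⟩ := split_axis E hd3 hw (T.1 (k • w))
    have h1 : a.1 (T.1 (k • w)) = T.1 (k • w) := by
      rw [← E.lift_apply a, ← qAut_mul_apply, ← hT, qAut_mul_apply, Over.lift_apply, map_smul, haw]
    rw [hcy, map_add, map_smul, haw, add_right_inj] at h1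
    have hy0 := rot_free E hd3 hw haw hℓ hℓ2 ha ha1 hy h1
    exact mem_lineF.2 ⟨c, by rw [hcy, hy0, add_zero]⟩
  obtain ⟨D, hD⟩ : ∃ D : V →ₗ[F] V, ∀ z, D z = T.1 z - z :=
    ⟨(T.1 : V →ₗ[F] V) - LinearMap.id, fun z => rfl⟩
  have hbot : (lineF F (K := K) w).map D = ⊥ := by
    refine eq_bot_of_free hℓ hmin hTl ?_ ?_ ?_
    · rintro _ ⟨z, hz, rfl⟩
      exact ⟨_, hline z hz, by rw [hD, hD, map_sub]⟩
    · rintro _ ⟨z, -, rfl⟩ hfix
      have hm : ∀ m : ℕ, (T ^ m).1 z = z + (m : F) • D z := fun m => by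
        induction m with
        | zero => simp
        | succ m ih =>
          rw [qPow_apply, ih, map_add, map_smul, hfix, Nat.cast_succ, add_smul, one_smul,
            show T.1 z = z + D z by rw [hD]; abel]
          abel
      have := hm ℓ
      rw [hTl] at this
      exact hcancel _ (add_left_cancel (a := z) (by rw [add_zero]; exact this.symm))
    · have h1 := LinearMap.finrank_range_add_finrank_ker (D ∘ₗ (lineF F (K := K) w).subtype)
      rw [LinearMap.range_comp, Submodule.range_subtype] at h1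
      have h2 : Module.finrank F (lineF F (K := K) w) = r := by
        have h3 := Module.finrank_mul_finrank F K (Submodule.span K {w})
        rw [finrank_span_singleton hw0, mul_one, hrK] at h3
        exact h3.symm
      have h4 : 0 < Module.finrank F (LinearMap.ker (D ∘ₗ (lineF F (K := K) w).subtype)) := by
        rw [Module.finrank_pos_iff]
        refine ⟨⟨⟨⟨w, mem_lineF.2 ⟨1, one_smul K w⟩⟩, ?_⟩, 0, fun h => hw0 ?_⟩⟩
        · rw [LinearMap.mem_ker, LinearMap.comp_apply, Submodule.subtype_apply, hD, hTw, sub_self]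
        · exact congrArg (fun x => ((x.1 : lineF F (K := K) w) : V)) h
      omega
  have hTk : ∀ k : K, T.1 (k • w) = k • w := fun k => by
    have := (Submodule.eq_bot_iff _).1 hbot _ ⟨_, mem_lineF.2 ⟨k, rfl⟩, rfl⟩
    rwa [hD, sub_eq_zero] at this
  -- the plane
  have hcomm : Commute T (E.lift a) := hT
  have hla : E.lift a ^ ℓ = 1 := by rw [← map_pow, ha, map_one]
  by_cases hex : ∃ i < ℓ, ∃ u, QuadraticMap.polar R u w = 0 ∧ u ≠ 0 ∧ (T * E.lift a ^ i).1 u = u
  · obtain ⟨i, hi, u, hu, hu0, hfix⟩ := hex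
    have h1 : ∀ z, QuadraticMap.polar R z w = 0 → (T * E.lift a ^ i).1 z = z :=
      cent_fixed E hd3 hw haw hℓ hℓ2 ha ha1 hr3 hmin hrK hrp hr2
        (by rw [qAut_mul_apply, hpk, pow_axis haw, hTw]) ((hcomm.mul_left (Commute.pow_self _ i)).eq)
        hu hu0 hfix
    refine ⟨ℓ - i, ?_⟩
    have h2 : T * E.lift a ^ i = 1 := qAut_ext fun z => by
      obtain ⟨c, y, hy, rfl⟩ := split_axis E hd3 hw z
      rw [map_add, h1 y hy, qAut_mul_apply, hpk, map_smul, pow_axis haw, hTk]
      rfl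
    calc T = T * E.lift a ^ i * E.lift a ^ (ℓ - i) := by
          rw [mul_assoc, ← pow_add, Nat.add_sub_cancel' hi.le, hla, mul_one]
      _ = _ := by rw [h2, one_mul]
  · exfalso
    push Not at hex
    obtain ⟨u, hu, hRu⟩ := exists_aniso E hd3 hw
    have hu0 : u ≠ 0 := fun h => hRu (by rw [h, map_zero])
    have hWpow : ∀ (g : qAut Q), (∀ y, QuadraticMap.polar R y w = 0 → QuadraticMap.polar R (g.1 y) w = 0) →
        ∀ (m : ℕ) y, QuadraticMap.polar R y w = 0 → QuadraticMap.polar R ((g ^ m).1 y) w = 0 := fun g hg m => by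
      induction m with
      | zero => exact fun y hy => hy
      | succ m ih => intro y hy; rw [qPow_apply]; exact hg _ (ih y hy)
    have hzero : ∀ i < ℓ, ∑ m ∈ Finset.range ℓ, ((T * E.lift a ^ i) ^ m).1 u = 0 := fun i hi => by
      by_contra h
      refine hex i hi _ ?_ h (orbit_sum_fixed ?_ u)
      · obtain ⟨P, hP⟩ : ∃ P : V →ₗ[K] K, ∀ z, P z = QuadraticMap.polar R z w :=
          ⟨(QuadraticMap.polarBilin R).flip w, fun z => by simp⟩
        rw [← hP, map_sum]
        exact Finset.sum_eq_zero fun m _ => by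
          rw [hP]
          exact hWpow _ (fun y hy => by
            rw [qAut_mul_apply, hpk]; exact hTW _ (pow_plane E hd3 hw haw i hy)) m u hu
      · rw [(hcomm.pow_right i).mul_pow, hTl, ← pow_mul, mul_comm i ℓ, pow_mul, hla, one_pow, one_mul]
    have h1 : ∑ i ∈ Finset.range ℓ, ∑ m ∈ Finset.range ℓ, ((T * E.lift a ^ i) ^ m).1 u = 0 :=
      Finset.sum_eq_zero fun i hi => hzero i (Finset.mem_range.1 hi)
    rw [Finset.sum_comm, Finset.sum_eq_single 0] at h1
    · simp only [pow_zero, Finset.sum_const, Finset.card_range] at h1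
      refine hu0 (hcancel u ?_)
      rw [Nat.cast_smul_eq_nsmul]
      exact h1
    · intro m hm hm0
      have hz : ∑ i ∈ Finset.range ℓ, ((a ^ m) ^ i).1 u = 0 := by
        by_contra h
        have hd := fixed_pow E hd3 hw haw hℓ hℓ2 ha ha1 (m := m) ?_ h
          (by
            have h4 := orbit_sum_fixed (g := E.lift (a ^ m)) (l := ℓ)
              (by rw [← map_pow, ← pow_mul, mul_comm, pow_mul, ha, one_pow, map_one]) u
            simp only [← map_pow, Over.lift_apply] at h4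
            exact h4)
        · have := Nat.le_of_dvd (Nat.pos_of_ne_zero hm0) hd
          have := Finset.mem_range.1 hm
          omega
        · obtain ⟨P, hP⟩ : ∃ P : V →ₗ[K] K, ∀ z, P z = QuadraticMap.polar R z w :=
            ⟨(QuadraticMap.polarBilin R).flip w, fun z => by simp⟩
          rw [← hP, map_sum]
          exact Finset.sum_eq_zero fun i _ => by
            rw [hP, ← pow_mul]; exact pow_plane E hd3 hw haw _ hu
      have h2 : ∀ i, ((T * E.lift a ^ i) ^ m).1 u = (T ^ m).1 (((a ^ m) ^ i).1 u) := fun i => by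
        rw [(hcomm.pow_right i).mul_pow, qAut_mul_apply, ← pow_mul, hpk, ← pow_mul, mul_comm]
      rw [Finset.sum_congr rfl fun i _ => h2 i, ← map_sum, hz, map_zero]
    · exact fun h => absurd (Finset.mem_range.2 hℓ.pos) h

end CfsgLib.Classical22.OrthField.PrimeDeg
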