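/-
No element with cube-zero displacement normalises a rotation group without centralising it.
-/
import Cfsg.Agent.Lib.Classical22.OrthFieldPrime.Plane

set_option autoImplicit false
set_option linter.all false

namespace CfsgLib.Classical22.OrthField.PrimeDeg

open CfsgLib.Classical CfsgLib.Classical22.OrthField.Cubic

universe u

variable {F : Type u} [Field F] {V : Type u} [AddCommGroup V] [Module F V] {Q : QuadraticForm F V}

/-- Moving a cube-zero element along a cyclic group of prime order kills that group. -/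
theorem cube_false {y U : qAut Q} {ℓ p i : ℕ} (hℓ : ℓ.Prime) (hℓ2 : ℓ ≠ 2) (hℓF : (ℓ : F) ≠ 0) (hp : p.Prime)
    (hp5 : 5 ≤ p) (hy : y ^ ℓ = 1) (hy1 : y ≠ 1) (hU : U * y = y ^ i * U) (hUp : U ^ p = 1) (hne : U * y ≠ y * U)
    (hcube : ∀ z : V, U.1 (U.1 (U.1 z)) - (3 : ℕ) • U.1 (U.1 z) + (3 : ℕ) • U.1 z - z = 0) : False := by
  classical
  haveI : Fact ℓ.Prime := ⟨hℓ⟩
  have hord : orderOf y = ℓ := orderOf_eq_prime hy hy1
  have hpow : ∀ c d : ℕ, y ^ c = y ^ d ↔ (c : ZMod ℓ) = d := fun c d => by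
    rw [pow_eq_pow_iff_modEq, hord, ZMod.natCast_eq_natCast_iff]
  have h1 : ∀ n : ℕ, U * y ^ n = y ^ (n * i) * U := fun n => by
    induction n with
    | zero => simp
    | succ n ih => rw [pow_succ, ← mul_assoc, ih, mul_assoc, hU, ← mul_assoc, ← pow_add, add_mul, one_mul]
  have h2 : ∀ n : ℕ, U ^ n * y = y ^ (i ^ n) * U ^ n := fun n => by
    induction n with
    | zero => simp
    | succ n ih => rw [pow_succ' U, mul_assoc, ih, ← mul_assoc, h1, mul_assoc, pow_succ i]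
  have hip : (i : ZMod ℓ) ^ p = 1 := by
    have h := h2 p
    rw [hUp, one_mul, mul_one] at h
    have := (hpow 1 (i ^ p)).1 (by rwa [pow_one])
    rw [Nat.cast_one, Nat.cast_pow] at this
    exact this.symm
  have hi1 : (i : ZMod ℓ) ≠ 1 := fun h => hne (by
    rw [hU, show y ^ i = y from by
      have := (hpow i 1).2 (by rw [h, Nat.cast_one])
      rwa [pow_one] at this])
  have hc2 : ((1 + i : ℕ) : ZMod ℓ) ≠ 0 := fun h => by
    rw [Nat.cast_add, Nat.cast_one] at h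
    have h' : (i : ZMod ℓ) = -1 := by linear_combination h
    rw [h', (hp.odd_of_ne_two (by omega)).neg_one_pow] at hip
    haveI : Fact (2 < ℓ) := ⟨lt_of_le_of_ne hℓ.two_le (Ne.symm hℓ2)⟩
    exact ZMod.neg_one_ne_one hip
  have hc3 : ((1 + i + i * i : ℕ) : ZMod ℓ) ≠ 0 := fun h => by
    push_cast at h
    have h3 : (i : ZMod ℓ) ^ 3 = 1 := by linear_combination ((i : ZMod ℓ) - 1) * h
    have hg := pow_gcd_eq_one.2 ⟨hip, h3⟩
    rw [show Nat.gcd p 3 = 1 from (Nat.coprime_primes hp Nat.prime_three).2 (by omega), pow_one] at hg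
    exact hi1 hg
  -- every translate is conjugate
  have hX : ∀ b : ℕ, ∀ z : V, (y ^ b * U).1 ((y ^ b * U).1 ((y ^ b * U).1 z)) -
      (3 : ℕ) • (y ^ b * U).1 ((y ^ b * U).1 z) + (3 : ℕ) • (y ^ b * U).1 z - z = 0 := fun b z => by
    obtain ⟨a, ha⟩ : ∃ a : ℕ, (a : ZMod ℓ) = b / (1 - i) := ⟨_, ZMod.natCast_zmod_val _⟩
    have hd : (1 : ZMod ℓ) - i ≠ 0 := sub_ne_zero.2 (Ne.symm hi1)
    have hc : y ^ a * U = y ^ b * U * y ^ a := by
      rw [mul_assoc, h1, ← mul_assoc, ← pow_add]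
      congr 1
      refine (hpow _ _).2 ?_
      push_cast
      rw [ha]
      field_simp
      ring
    have hc' : ∀ u, (y ^ b * U).1 ((y ^ a).1 u) = (y ^ a).1 (U.1 u) := fun u => by
      rw [← qAut_mul_apply, ← hc, qAut_mul_apply]
    have := congrArg (y ^ a).1 (hcube (((y ^ a)⁻¹).1 z))
    rw [map_sub, map_add, map_sub, map_nsmul, map_nsmul, ← hc', ← hc', ← hc', qApply_inv_self, map_zero] at this
    exact this
  have hexp : ∀ (b : ℕ) (z : V), (y ^ b * U).1 z = (y ^ b).1 (U.1 z) ∧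
      (y ^ b * U).1 ((y ^ b * U).1 z) = ((y ^ (1 + i)) ^ b).1 (U.1 (U.1 z)) ∧
      (y ^ b * U).1 ((y ^ b * U).1 ((y ^ b * U).1 z)) = ((y ^ (1 + i + i * i)) ^ b).1 (U.1 (U.1 (U.1 z))) := by
    intro b z
    refine ⟨qAut_mul_apply Q _ _ z, ?_, ?_⟩
    · simp only [← qAut_mul_apply]
      refine congrArg (fun x : qAut Q => x.1 z) ?_
      rw [← pow_mul, mul_assoc (y ^ b) U, ← mul_assoc U (y ^ b) U, h1, mul_assoc, ← mul_assoc (y ^ b), ← pow_add,
        show b + b * i = (1 + i) * b by ring, ← mul_assoc]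
    · simp only [← qAut_mul_apply]
      refine congrArg (fun x : qAut Q => x.1 z) ?_
      have e : ∀ c, U * (y ^ c * U) = y ^ (c * i) * (U * U) := fun c => by rw [← mul_assoc, h1, mul_assoc]
      have e' : ∀ c, U * (y ^ c * (U * U)) = y ^ (c * i) * (U * (U * U)) := fun c => by
        rw [← mul_assoc, h1, mul_assoc]
      simp only [mul_assoc, ← pow_mul]
      rw [e, ← mul_assoc (y ^ b) (y ^ (b * i)), ← pow_add, e', ← mul_assoc (y ^ b), ← pow_add]
      congr 2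
      ring
  have hfix : ∀ c : ℕ, (c : ZMod ℓ) ≠ 0 → ∀ z, y.1 (∑ b ∈ Finset.range ℓ, ((y ^ c) ^ b).1 z) =
      ∑ b ∈ Finset.range ℓ, ((y ^ c) ^ b).1 z := fun c hc z => by
    have h := orbit_sum_fixed (g := y ^ c) (l := ℓ) (by rw [← pow_mul, mul_comm, pow_mul, hy, one_pow]) z
    obtain ⟨m, hm⟩ : ∃ m : ℕ, (y ^ c) ^ m = y := by
      refine ⟨((c : ZMod ℓ)⁻¹).val, ?_⟩
      rw [← pow_mul]
      conv_rhs => rw [← pow_one y]
      refine (hpow _ _).2 ?_
      rw [Nat.cast_mul, ZMod.natCast_zmod_val, mul_inv_cancel₀ hc, Nat.cast_one]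
    have key : ∀ n : ℕ, ((y ^ c) ^ n).1 (∑ b ∈ Finset.range ℓ, ((y ^ c) ^ b).1 z) =
        ∑ b ∈ Finset.range ℓ, ((y ^ c) ^ b).1 z := fun n => by
      induction n with
      | zero => rfl
      | succ n ih => rw [qPow_apply, ih, h]
    exact (congrArg (fun g : qAut Q => g.1 (∑ b ∈ Finset.range ℓ, ((y ^ c) ^ b).1 z)) hm).symm.trans (key m)
  refine hy1 (qAut_ext fun x => ?_)
  show y.1 x = x
  have hsum : ∑ b ∈ Finset.range ℓ, ((y ^ b * U).1 ((y ^ b * U).1 ((y ^ b * U).1 x)) -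
      (3 : ℕ) • (y ^ b * U).1 ((y ^ b * U).1 x) + (3 : ℕ) • (y ^ b * U).1 x - x) = 0 :=
    Finset.sum_eq_zero fun b _ => hX b x
  rw [Finset.sum_congr rfl fun b _ =>
    show _ = ((y ^ (1 + i + i * i)) ^ b).1 (U.1 (U.1 (U.1 x))) - (3 : ℕ) • ((y ^ (1 + i)) ^ b).1 (U.1 (U.1 x)) +
      (3 : ℕ) • (y ^ b).1 (U.1 x) - x by rw [(hexp b x).2.2, (hexp b x).2.1, (hexp b x).1]] at hsum
  simp only [Finset.sum_sub_distrib,
    Finset.sum_add_distrib, ← Finset.smul_sum, Finset.sum_const, Finset.card_range, sub_eq_zero] at hsum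
  have hfx := congrArg y.1 hsum
  rw [map_add, map_sub, map_nsmul, map_nsmul, map_nsmul, hfix _ hc3, hfix _ hc2] at hfx
  have h1' := hfix 1 (by rw [Nat.cast_one]; exact one_ne_zero)
  simp only [pow_one] at h1'
  rw [h1', hsum, ← sub_eq_zero, ← nsmul_sub, ← Nat.cast_smul_eq_nsmul F] at hfx
  exact (sub_eq_zero.1 ((smul_eq_zero.1 hfx).resolve_left hℓF)).symm

end CfsgLib.Classical22.OrthField.PrimeDeg
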