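/-
The maps on an axis fix one.
-/
import Cfsg.Agent.Lib.Classical22.OrthFieldPrime.AxisOrder

set_option autoImplicit false
set_option linter.all false

namespace CfsgLib.Classical22.OrthField.PrimeDeg

open CfsgLib.Classical CfsgLib.Classical22.OrthField.Cubic

universe u

variable {F : Type u} [Field F] {K : Type*} [Field K] [Algebra F K] [Fintype K] [FiniteDimensional F K]

/-- The adjoint has the same determinant. -/
lemma det_eadj (X : Module.End F K) : LinearMap.det (eadj X) = LinearMap.det X := by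
  haveI : Finite F := Finite.of_injective _ (algebraMap F K).injective
  obtain ⟨D, hD⟩ : ∃ D : K ≃ₗ[F] Module.Dual F K, ∀ a b, D a b = Algebra.trace F K (a * b) :=
    ⟨(Algebra.traceForm F K).toDual (traceForm_nondegenerate F K), fun a b => by
      rw [LinearMap.BilinForm.toDual_def, Algebra.traceForm_apply]⟩
  have h : (LinearMap.dualMap X : Module.End F (Module.Dual F K)) =
      (D : K →ₗ[F] Module.Dual F K) ∘ₗ eadj X ∘ₗ (D.symm : Module.Dual F K →ₗ[F] K) := by
    refine LinearMap.ext fun φ => LinearMap.ext fun b => ?_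
    obtain ⟨a, rfl⟩ := D.surjective φ
    simp only [LinearMap.comp_apply, LinearEquiv.coe_coe, LinearEquiv.symm_apply_apply, LinearMap.dualMap_apply, hD]
    exact (trace_adjT' X a b).symm
  rw [← LinearMap.det_dualMap X, h, LinearMap.det_conj]

/-- An orthogonal map of determinant one in odd dimension fixes a vector. -/
theorem exists_fixed [Fintype F] (h2 : (2 : F) ≠ 0) (hodd : Odd (Module.finrank F K)) {n : Module.End F K}
    (hn : eadj n * n = 1) (hdet : LinearMap.det n = 1) : ∃ x, x ≠ 0 ∧ n x = x := by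
  by_contra hc
  push Not at hc
  have hinj : LinearMap.ker (n - 1) = ⊥ := (Submodule.eq_bot_iff _).2 fun x hx => by
    by_contra hx0
    exact hc x hx0 (sub_eq_zero.1 (by simpa using hx))
  have h0 : LinearMap.det (n - 1) ≠ 0 := fun h => by
    have := LinearMap.bot_lt_ker_of_det_eq_zero h
    rw [hinj] at this
    exact lt_irrefl _ this
  have e : eadj n * (n - 1) = eadj ((-1 : F) • (n - 1)) := by
    rw [eadj_smul, eadj_sub, eadj_one, mul_sub, hn, mul_one]
    module
  have h1 := congrArg LinearMap.det e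
  rw [map_mul, det_eadj, det_eadj, hdet, one_mul, LinearMap.det_smul, hodd.neg_one_pow] at h1
  have : (2 : F) * LinearMap.det (n - 1) = 0 := by linear_combination h1
  exact h0 ((mul_eq_zero.1 this).resolve_left h2)

variable {V : Type u} [AddCommGroup V] [Module F V] [Module K V] [IsScalarTower F K V]
variable {Q : QuadraticForm F V} {R : QuadraticForm K V} {M : Subgroup (qAut Q)}
variable [Fintype F] [FiniteDimensional F V] [FiniteDimensional K V]
variable (E : Over Q R) (hn : 5 ≤ Module.finrank F V) {v f e : V} {t : F} (S : Std R v f e t) (hM : SemiMem K M)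
variable (hr : (Module.finrank F K).Prime) (hr2 : Module.finrank F K ≠ 2) (hME : M ≤ eichGroup Q)
variable (hnot : ¬ ∀ X : K →ₗ[F] K, IsSkew X → Long R M v X) (hd3 : Module.finrank K V = 3)
include E hn S hM hr hr2 hME hnot hd3

omit hM hr hr2 hnot hd3 in
/-- The determinant of an axis map. -/
theorem det_axis {h : qAut Q} (hh : h ∈ M) {B : Module.End F K} (hd : Diag v f e h (cid 1) B (cid 1)) :
    LinearMap.det B = 1 := by
  have hc : h ∈ commutator (qAut Q) := by
    rw [← eichGroup_eq_commutator Q E.polarNondeg hn]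
    exact hME hh
  have hker : commutator (qAut Q) ≤ (LinearEquiv.det.comp (qAut Q).subtype).ker :=
    Abelianization.commutator_subset_ker _
  have h1 : LinearEquiv.det h.1 = 1 := hker hc
  have h2 : LinearMap.det (h.1 : V →ₗ[F] V) = 1 := by rw [← LinearEquiv.coe_det, h1, Units.val_one]
  have h2t : (2 : K) * algebraMap F K t ≠ 0 := mul_ne_zero E.two' S.t0'
  let Φ₀ : ((K × K) × K) →ₗ[F] V :=
    (((LinearMap.toSpanSingleton K V v).restrictScalars F).coprod
      ((LinearMap.toSpanSingleton K V e).restrictScalars F)).coprod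
      ((LinearMap.toSpanSingleton K V f).restrictScalars F)
  have hΦ : ∀ a b c : K, Φ₀ ((a, b), c) = a • v + b • e + c • f := fun a b c => by simp [Φ₀]
  have hbij : Function.Bijective Φ₀ := by
    refine ⟨fun x y hxy => ?_, fun z => ?_⟩
    · obtain ⟨⟨a, b⟩, c⟩ := x
      obtain ⟨⟨a', b'⟩, c'⟩ := y
      rw [hΦ, hΦ] at hxy
      obtain ⟨rfl, rfl, rfl⟩ := co_inj S E.two' hxy
      rfl
    · obtain ⟨a, b, c, rfl⟩ := S.span z
      exact ⟨((a, b), c), hΦ a b c⟩
  have hconj : (h.1 : V →ₗ[F] V) = (LinearEquiv.ofBijective Φ₀ hbij : ((K × K) × K) →ₗ[F] V) ∘ₗ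
      LinearMap.prodMap (LinearMap.prodMap LinearMap.id B) LinearMap.id ∘ₗ
        ((LinearEquiv.ofBijective Φ₀ hbij).symm : V →ₗ[F] (K × K) × K) := by
    refine LinearMap.ext fun z => ?_
    obtain ⟨⟨⟨a, b⟩, c⟩, rfl⟩ := (LinearEquiv.ofBijective Φ₀ hbij).surjective z
    rw [LinearMap.comp_apply, LinearMap.comp_apply, LinearEquiv.coe_coe, LinearEquiv.coe_coe, LinearEquiv.coe_coe,
      LinearEquiv.symm_apply_apply]
    show h.1 (Φ₀ ((a, b), c)) = Φ₀ ((a, B b), c)
    rw [hΦ, hΦ, map_add, map_add, hd.line, hd.mid, hd.top]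
    simp
  rw [hconj, LinearMap.det_conj, LinearMap.det_prodMap, LinearMap.det_prodMap, LinearMap.det_id, one_mul,
    mul_one] at h2
  exact h2

/-- Axis maps fix one. -/
theorem axis_fix_one (h5 : 5 ≤ Module.finrank F K) {h : qAut Q} (hh : h ∈ M) {B : Module.End F K}
    (hd : Diag v f e h (cid 1) B (cid 1)) : B 1 = 1 := by
  classical
  by_cases hq : 3 < Fintype.card F
  · rw [axis_eq_one E hn S hM hr hr2 hME (one_mul 1) hh hd hnot hd3 hq]
    rfl
  haveI : Fact (Module.finrank F K).Prime := ⟨hr⟩
  have hq3 : Fintype.card F = 3 := by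
    have := Fintype.one_lt_card (α := F)
    have h2 : Fintype.card F ≠ 2 := fun h2 => E.two (by
      haveI : Fact (Nat.Prime 2) := ⟨Nat.prime_two⟩
      haveI : CharP F 2 := charP_of_card_eq_prime h2
      exact CharTwo.two_eq_zero)
    omega
  haveI : Fact (Nat.Prime 3) := ⟨Nat.prime_three⟩
  haveI : CharP F 3 := charP_of_card_eq_prime hq3
  haveI : Finite (Module.End F K) := Finite.of_injective (fun g : Module.End F K => (g : K → K)) DFunLike.coe_injective
  have hrF : (Module.finrank F K : F) ≠ 0 := fun h0 => by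
    have := (Nat.prime_dvd_prime_iff_eq Nat.prime_three hr).1 ((CharP.cast_eq_zero_iff F 3 _).1 h0)
    omega
  obtain ⟨τ, hτ⟩ : ∃ τ : K ≃ₐ[F] K, τ ≠ 1 := by
    haveI : Nontrivial (K ≃ₐ[F] K) := Finite.one_lt_card_iff_nontrivial.1 (by
      rw [IsGalois.card_aut_eq_finrank]; omega)
    exact exists_ne 1
  -- the maps on the axis
  obtain ⟨B₁, hB₁⟩ : ∃ B₁ : Set (Module.End F K),
      ∀ b, b ∈ B₁ ↔ ∃ g ∈ M, Diag v f e g (cid 1) b (cid 1) := ⟨{b | ∃ g ∈ M, Diag v f e g (cid 1) b (cid 1)},
    fun b => Iff.rfl⟩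
  have hsq : ∀ b ∈ B₁, b * b = 1 := fun b hb => by
    obtain ⟨g, hg, hgd⟩ := (hB₁ b).1 hb
    exact axis_sq_one E hn S hM hr hr2 hME (one_mul 1) hg hgd hnot hd3
  have hid : cid (K := K) (1 : F) = LinearMap.id := one_smul F _
  have hone : (1 : Module.End F K) ∈ B₁ := (hB₁ _).2 ⟨1, M.one_mem, by
    rw [hid]; exact ⟨fun k => rfl, fun k => rfl, fun k => rfl⟩⟩
  have hmul : ∀ b ∈ B₁, ∀ b' ∈ B₁, b * b' ∈ B₁ := fun b hb b' hb' => by
    obtain ⟨g, hg, hgd⟩ := (hB₁ b).1 hb
    obtain ⟨g', hg', hgd'⟩ := (hB₁ b').1 hb'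
    refine (hB₁ _).2 ⟨g * g', M.mul_mem hg hg', ?_⟩
    have := hgd.mul hgd'
    rw [hid, LinearMap.id_comp] at this
    rw [hid]
    exact this
  have hcm : ∀ b ∈ B₁, ∀ b' ∈ B₁, b * b' = b' * b := fun b hb b' hb' => by
    have h1 := hsq _ (hmul b hb b' hb')
    calc b * b' = b * (b * b' * (b * b')) * b' := by rw [h1, mul_one]
      _ = b * b * (b' * b) * (b' * b') := by simp only [mul_assoc]
      _ = b' * b := by rw [hsq b hb, hsq b' hb', one_mul, mul_one]
  have hadj : ∀ b ∈ B₁, eadj b = b := fun b hb => by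
    obtain ⟨g, -, hgd⟩ := (hB₁ b).1 hb
    calc eadj b = eadj b * (b * b) := by rw [hsq b hb, mul_one]
      _ = eadj b * b * b := (mul_assoc _ _ _).symm
      _ = b := by rw [eadj_axis E S hgd, one_mul]
  have hconj : ∀ (ω : K ≃ₐ[F] K), ∀ b ∈ B₁, (ω.toLinearMap : Module.End F K) * b * ω⁻¹.toLinearMap ∈ B₁ :=
    fun ω b hb => by
      obtain ⟨g, hg, hgd⟩ := (hB₁ b).1 hb
      obtain ⟨y, hy, hyd⟩ := exists_gal E hn S hM (hr.odd_of_ne_two hr2) ω
      obtain ⟨y', hy', hyd'⟩ := exists_gal E hn S hM (hr.odd_of_ne_two hr2) ω⁻¹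
      refine (hB₁ _).2 ⟨y * g * y', M.mul_mem (M.mul_mem hy hg) hy', ?_⟩
      have := (hyd.mul hgd).mul hyd'
      rw [hid] at this ⊢
      have e1 : (ω.toLinearMap ∘ₗ LinearMap.id) ∘ₗ ω⁻¹.toLinearMap = (LinearMap.id : K →ₗ[F] K) :=
        LinearMap.ext fun k => ω.apply_symm_apply k
      rw [e1] at this
      exact this
  obtain ⟨C, hC⟩ : ∃ C : (K ≃ₐ[F] K) → Module.End F K → Module.End F K,
      ∀ ω x, C ω x = (ω.toLinearMap : Module.End F K) * x * ω⁻¹.toLinearMap := ⟨_, fun _ _ => rfl⟩
  by_cases hcommτ : ∀ b ∈ B₁, C τ b = b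
  · -- commuting with the automorphisms
    have hB : B ∈ B₁ := (hB₁ B).2 ⟨h, hh, hd⟩
    have hfix : τ (B 1) = B 1 := by
      have := LinearMap.congr_fun (hcommτ B hB) 1
      rw [hC] at this
      simpa using this
    obtain ⟨c, hc⟩ := mem_of_fixed hr hτ hfix
    have hcc : c * c = 1 := by
      have h1 : Algebra.trace F K (B 1 * B 1) = Algebra.trace F K ((1 : K) * 1) := by
        rw [trace_adjT, ← LinearMap.comp_apply, hd.adj_comp E S]; rfl
      rw [← hc, ← map_mul, one_mul, Algebra.trace_algebraMap, ← map_one (algebraMap F K), Algebra.trace_algebraMap,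
        nsmul_eq_mul, nsmul_eq_mul, mul_one] at h1
      exact mul_left_cancel₀ hrF (by rw [h1, mul_one])
    rcases mul_self_eq_one_iff.1 hcc with rfl | rfl
    · rw [← hc, map_one]
    exfalso
    obtain ⟨n, hn'⟩ : ∃ n : Module.End F K, n = τ.toLinearMap * B := ⟨_, rfl⟩
    have hτadj : eadj (τ.toLinearMap : Module.End F K) = τ⁻¹.toLinearMap := adjT_unique fun x y => by
      show Algebra.trace F K (τ x * y) = Algebra.trace F K (x * τ⁻¹ y)
      rw [← Algebra.trace_eq_of_algEquiv τ (x * τ⁻¹ y), map_mul τ, AlgEquiv.aut_inv, AlgEquiv.apply_symm_apply]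
    have hττ : (τ⁻¹.toLinearMap : Module.End F K) * τ.toLinearMap = 1 := LinearMap.ext fun k => τ.symm_apply_apply k
    have horth : eadj n * n = 1 := by
      rw [hn', eadj_mul, hτadj, mul_assoc, ← mul_assoc τ⁻¹.toLinearMap, hττ, one_mul]
      exact hd.adj_comp E S
    have hpow : ∀ m : ℕ, (τ.toLinearMap : Module.End F K) ^ m = (τ ^ m).toLinearMap := fun m => by
      induction m with
      | zero => rfl
      | succ m ih => rw [pow_succ', ih, pow_succ']; rfl
    have hdτ : LinearMap.det (τ.toLinearMap : Module.End F K) = 1 := by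
      have h1 : LinearMap.det ((τ.toLinearMap : Module.End F K) ^ Module.finrank F K) = 1 := by
        rw [hpow, ← IsGalois.card_aut_eq_finrank, pow_card_eq_one']
        exact map_one _
      rw [map_pow] at h1
      have h5' := FiniteField.pow_card (LinearMap.det (τ.toLinearMap : Module.End F K))
      rw [hq3] at h5'
      obtain ⟨m, hm⟩ := hr.odd_of_ne_two hr2
      by_cases h0 : LinearMap.det (τ.toLinearMap : Module.End F K) = 0
      · rw [h0, zero_pow hr.ne_zero] at h1; exact absurd h1 zero_ne_one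
      · have h6 : LinearMap.det (τ.toLinearMap : Module.End F K) ^ 2 = 1 :=
          mul_left_cancel₀ h0 (by rw [← pow_succ', h5', mul_one])
        rwa [hm, pow_succ, pow_mul, h6, one_pow, one_mul] at h1
    obtain ⟨x, hx0, hx⟩ := exists_fixed E.two (hr.odd_of_ne_two hr2) horth (by
      rw [hn', map_mul, hdτ, det_axis E hn S hME hh hd, one_mul])
    -- the fixed vector is fixed by both
    have hBτ : (τ.toLinearMap : Module.End F K) * B = B * τ.toLinearMap := by
      have := congrArg (fun X : Module.End F K => X * τ.toLinearMap) (hcommτ B hB)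
      simp only [hC] at this
      rw [mul_assoc, hττ, mul_one] at this
      exact this
    rw [hn'] at hx
    have hxr : ∀ m : ℕ, ((τ.toLinearMap : Module.End F K) ^ m * B ^ m) x = x := fun m => by
      induction m with
      | zero => rfl
      | succ m ih =>
        rw [← Commute.mul_pow hBτ, pow_succ, Module.End.mul_apply, hx, Commute.mul_pow hBτ, ih]
    have hBx : B x = x := by
      have h1 := hxr (Module.finrank F K)
      obtain ⟨m, hm⟩ := hr.odd_of_ne_two hr2
      rw [hpow, ← IsGalois.card_aut_eq_finrank, pow_card_eq_one'] at h1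
      rw [IsGalois.card_aut_eq_finrank, hm, pow_succ, pow_mul, sq, hsq B hB, one_pow, one_mul] at h1
      exact h1
    have hτx : τ x = x := by
      rw [Module.End.mul_apply, hBx] at hx
      exact hx
    obtain ⟨a, ha⟩ := mem_of_fixed hr hτ hτx
    rw [← ha, Algebra.algebraMap_eq_smul_one, map_smul, ← hc] at hBx
    simp only [map_neg, map_one, smul_neg] at hBx
    refine hx0 ?_
    rw [← ha, Algebra.algebraMap_eq_smul_one]
    have : (2 : F) • (a • (1 : K)) = 0 := by rw [two_smul]; nth_rewrite 1 [← hBx]; exact neg_add_cancel _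
    exact (smul_eq_zero.1 this).resolve_left E.two
  · exfalso
    push Not at hcommτ
    obtain ⟨b, hb, hbτ⟩ := hcommτ
    obtain ⟨A, hA⟩ : ∃ A : Submodule F (Module.End F K), A = Submodule.span F B₁ := ⟨_, rfl⟩
    have hAmul : ∀ x ∈ A, ∀ y ∈ A, x * y ∈ A := fun x hx y hy => by
      rw [hA] at hx hy ⊢
      have h1 := Submodule.mul_mem_mul hx hy
      rw [Submodule.span_mul_span] at h1
      refine Submodule.span_mono ?_ h1
      rintro _ ⟨p, hp, p', hp', rfl⟩
      exact hmul p hp p' hp'
    have hAcm : ∀ x ∈ A, ∀ y ∈ A, x * y = y * x := fun x hx y hy => by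
      rw [hA] at hx hy
      induction hx using Submodule.span_induction with
      | mem p hp =>
        induction hy using Submodule.span_induction with
        | mem p' hp' => exact hcm p hp p' hp'
        | zero => rw [mul_zero, zero_mul]
        | add _ _ _ _ h1 h2 => rw [mul_add, add_mul, h1, h2]
        | smul c _ _ h1 => rw [mul_smul_comm, smul_mul_assoc, h1]
      | zero => rw [mul_zero, zero_mul]
      | add _ _ _ _ h1 h2 => rw [mul_add, add_mul, h1, h2]
      | smul c _ _ h1 => rw [mul_smul_comm, smul_mul_assoc, h1]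
    have hAadj : ∀ x ∈ A, eadj x = x := fun x hx => by
      rw [hA] at hx
      induction hx using Submodule.span_induction with
      | mem p hp => exact hadj p hp
      | zero => exact adjT_zero
      | add _ _ _ _ h1 h2 => rw [eadj_add, h1, h2]
      | smul c _ _ h1 => rw [eadj_smul, h1]
    have hAC : ∀ ω, ∀ x ∈ A, C ω x ∈ A := fun ω x hx => by
      rw [hA] at hx ⊢
      induction hx using Submodule.span_induction with
      | mem p hp => exact Submodule.subset_span (hC ω p ▸ hconj ω p hp)
      | zero => rw [hC, mul_zero, zero_mul]; exact Submodule.zero_mem _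
      | add p p' _ _ h1 h2 =>
        rw [hC] at h1 h2 ⊢
        rw [mul_add, add_mul]
        exact Submodule.add_mem _ h1 h2
      | smul c p _ h1 =>
        rw [hC] at h1 ⊢
        rw [mul_smul_comm, smul_mul_assoc]
        exact Submodule.smul_mem _ c h1
    have hA1 : (1 : Module.End F K) ∈ A := hA ▸ Submodule.subset_span hone
    have hinv : ∀ ω : K ≃ₐ[F] K, (ω⁻¹.toLinearMap : Module.End F K) * ω.toLinearMap = 1 :=
      fun ω => LinearMap.ext fun k => ω.symm_apply_apply k
    have hCmul : ∀ ω x y, C ω (x * y) = C ω x * C ω y := fun ω x y => by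
      rw [hC, hC, hC]
      simp only [mul_assoc]
      rw [← mul_assoc ω⁻¹.toLinearMap ω.toLinearMap, hinv, one_mul]
    have hC1 : ∀ ω, C ω 1 = 1 := fun ω => by
      rw [hC, mul_one]; exact LinearMap.ext fun k => ω.apply_symm_apply k
    have hCC : ∀ ω ω' x, C ω (C ω' x) = C (ω * ω') x := fun ω ω' x => by
      simp only [hC]
      exact LinearMap.ext fun k => rfl
    have hCone : ∀ x, C 1 x = x := fun x => by
      rw [hC]; exact LinearMap.ext fun k => rfl
    have hCadd : ∀ ω x y, C ω (x - y) = C ω x - C ω y := fun ω x y => by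
      rw [hC, hC, hC, mul_sub, sub_mul]
    have hCsmul : ∀ ω (c : F) x, C ω (c • x) = c • C ω x := fun ω c x => by
      rw [hC, hC, mul_smul_comm, smul_mul_assoc]
    obtain ⟨π, hπ⟩ : ∃ π : Module.End F K, π = (2 : F)⁻¹ • (1 - b) := ⟨_, rfl⟩
    have hπA : π ∈ A := hπ ▸ A.smul_mem _ (A.sub_mem hA1 (hA ▸ Submodule.subset_span hb))
    have hππ : π * π = π := by
      rw [hπ, smul_mul_smul_comm]
      simp only [sub_mul, mul_sub, one_mul, mul_one, hsq b hb]
      rw [show (1 : Module.End F K) - b - (b - 1) = (2 : F) • (1 - b) by module, smul_smul, mul_assoc,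
        inv_mul_cancel₀ E.two, mul_one]
    obtain ⟨π', hπ'⟩ : ∃ π', π' = C τ π := ⟨_, rfl⟩
    have hπ'A : π' ∈ A := hπ' ▸ hAC τ π hπA
    have hπ'π' : π' * π' = π' := by rw [hπ', ← hCmul, hππ]
    have hne : π ≠ π' := fun h0 => hbτ (by
      rw [hπ'] at h0
      have hb' : b = 1 - (2 : F) • π := by rw [hπ, smul_smul, mul_inv_cancel₀ E.two, one_smul, sub_sub_cancel]
      rw [hb', hCadd, hC1, hCsmul, ← h0])
    obtain ⟨e₀, he₀A, he₀i, he₀0, hkey⟩ : ∃ e₀ ∈ A, e₀ * e₀ = e₀ ∧ e₀ ≠ 0 ∧
        ∀ P ∈ A, P * e₀ = P → C τ P = P → P = 0 := by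
      have hidem : ∀ x ∈ A, ∀ y ∈ A, x * x = x → y * y = y → x * (1 - y) * (x * (1 - y)) = x * (1 - y) :=
        fun x hx y hy hxx hyy => by
          have hc := hAcm _ (A.sub_mem hA1 hy) _ hx
          calc x * (1 - y) * (x * (1 - y)) = x * ((1 - y) * x) * (1 - y) := by simp only [mul_assoc]
            _ = x * x * ((1 - y) * (1 - y)) := by rw [hc]; simp only [mul_assoc]
            _ = x * (1 - y) := by
              rw [hxx]; congr 1
              simp only [sub_mul, mul_sub, one_mul, mul_one, hyy]; abel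
      by_cases h1 : π * (1 - π') = 0
      · refine ⟨π' * (1 - π), hAmul _ hπ'A _ (A.sub_mem hA1 hπA), hidem _ hπ'A _ hπA hπ'π' hππ, fun h0 => hne ?_,
          fun P hP hPe hCP => ?_⟩
        · rw [mul_sub, mul_one, sub_eq_zero] at h1 h0
          rw [h1, hAcm _ hπA _ hπ'A, ← h0]
        · have e1 : P * π = 0 := by
            rw [← hPe, mul_assoc, mul_assoc, sub_mul, one_mul, hππ, sub_self, mul_zero, mul_zero]
          have e2 : P * π' = P := by
            rw [← hPe, mul_assoc, hAcm _ (hAmul _ hπ'A _ (A.sub_mem hA1 hπA)) _ hπ'A, ← mul_assoc π', hπ'π']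
          rw [← e2, hπ', ← hCP, ← hCmul, e1, hC, mul_zero, zero_mul]
      · refine ⟨π * (1 - π'), hAmul _ hπA _ (A.sub_mem hA1 hπ'A), hidem _ hπA _ hπ'A hππ hπ'π', h1,
          fun P hP hPe hCP => ?_⟩
        have e1 : P * π' = 0 := by
          rw [← hPe, mul_assoc, mul_assoc, sub_mul, one_mul, hπ'π', sub_self, mul_zero, mul_zero]
        have e2 : P * π = P := by
          rw [← hPe, mul_assoc, hAcm _ (hAmul _ hπA _ (A.sub_mem hA1 hπ'A)) _ hπA, ← mul_assoc π, hππ]
        calc P = C τ (P * π) := by rw [e2, hCP]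
          _ = P * π' := by rw [hCmul, hCP, hπ']
          _ = 0 := e1
    -- a least projection
    obtain ⟨P, ⟨hPA, hPP, hP0, hPe⟩, hmin⟩ := (Set.toFinite
      {P : Module.End F K | P ∈ A ∧ P * P = P ∧ P ≠ 0 ∧ P * e₀ = P}).exists_minimalFor
        (fun P => Module.finrank F (LinearMap.range P)) _ ⟨e₀, he₀A, he₀i, he₀0, he₀i⟩
    have hprim : ∀ X ∈ A, X * X = X → P * X = 0 ∨ P * X = P := fun X hX hXX => by
      by_cases h0 : P * X = 0
      · exact Or.inl h0
      refine Or.inr ?_
      have hc := hAcm _ hX _ hPA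
      have h1 : P * X * (P * X) = P * X := by
        calc P * X * (P * X) = P * (X * P) * X := by simp only [mul_assoc]
          _ = P * P * (X * X) := by rw [hc]; simp only [mul_assoc]
          _ = P * X := by rw [hPP, hXX]
      have h2 : P * X * e₀ = P * X := by
        calc P * X * e₀ = P * (X * e₀) := mul_assoc _ _ _
          _ = P * e₀ * X := by rw [hAcm _ hX _ he₀A, mul_assoc]
          _ = P * X := by rw [hPe]
      have hle : LinearMap.range (P * X) ≤ LinearMap.range P := LinearMap.range_comp_le_range X P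
      have := hmin (j := P * X) ⟨hAmul _ hPA _ hX, h1, h0, h2⟩ (Submodule.finrank_mono hle)
      have heq := Submodule.eq_of_le_of_finrank_le hle this
      refine LinearMap.ext fun k => ?_
      obtain ⟨k', hk'⟩ : P k ∈ LinearMap.range (P * X) := heq ▸ LinearMap.mem_range_self P k
      calc (P * X) k = (X * P) k := by rw [hc]
        _ = X (P k) := rfl
        _ = X ((P * X) k') := by rw [hk']
        _ = (P * X) k' := by
          rw [← Module.End.mul_apply, ← mul_assoc, hc, mul_assoc, hXX]
        _ = P k := hk'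
    have hdisj : ∀ ω : K ≃ₐ[F] K, ω ≠ 1 → P * C ω P = 0 := fun ω hω => by
      have hCi : C ω P * C ω P = C ω P := by rw [← hCmul, hPP]
      rcases hprim _ (hAC ω P hPA) hCi with h1 | h1
      · exact h1
      exfalso
      have h3 : C ω P = P := by
        have hCi' : C ω⁻¹ P * C ω⁻¹ P = C ω⁻¹ P := by rw [← hCmul, hPP]
        rcases hprim _ (hAC ω⁻¹ P hPA) hCi' with h4 | h4
        · exfalso
          have h5 := congrArg (C ω) h4
          rw [hCmul, hCC, mul_inv_cancel, hCone, hC ω 0, mul_zero, zero_mul, hAcm _ (hAC ω P hPA) _ hPA, h1] at h5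
          exact hP0 h5
        · have h5 := congrArg (C ω) h4
          rw [hCmul, hCC, mul_inv_cancel, hCone, hAcm _ (hAC ω P hPA) _ hPA, h1] at h5
          exact h5.symm
      refine hP0 (hkey P hPA hPe ?_)
      have hall : ∀ m : ℕ, C (ω ^ m) P = P := fun m => by
        induction m with
        | zero => rw [pow_zero, hCone]
        | succ m ih => rw [pow_succ, ← hCC, h3, ih]
      have hmem : τ ∈ Subgroup.zpowers ω := mem_zpowers_of_prime_card (IsGalois.card_aut_eq_finrank F K) hω
      obtain ⟨m, rfl⟩ := (Submonoid.mem_powers_iff _ _).1 ((mem_powers_iff_mem_zpowers (x := ω)).2 hmem)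
      exact hall m
    -- rank one
    obtain ⟨a, ha, haP⟩ : ∃ a : K, a ≠ 0 ∧ ∀ x, ∃ c : F, P x = c • a := by
      let Φ : ((K ≃ₐ[F] K) → LinearMap.range P) →ₗ[F] K :=
        ∑ ω, (ω.toLinearMap ∘ₗ (LinearMap.range P).subtype) ∘ₗ LinearMap.proj ω
      have hΦ : ∀ x : (K ≃ₐ[F] K) → LinearMap.range P, Φ x = ∑ ω : K ≃ₐ[F] K, ω (x ω : K) :=
        fun x => by simp [Φ]
      have hinjΦ : Function.Injective Φ := (injective_iff_map_eq_zero Φ).2 fun x hx => funext fun ω => by
        rw [hΦ] at hx
        have := congrArg (C ω P) hx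
        rw [map_zero, map_sum, Finset.sum_eq_single ω (fun ω' _ hne => ?_)
          (fun h => absurd (Finset.mem_univ _) h)] at this
        · obtain ⟨k, hk⟩ := (x ω).2
          rw [hC] at this
          simp only [Module.End.mul_apply, AlgEquiv.toLinearMap_apply, AlgEquiv.aut_inv, AlgEquiv.symm_apply_apply,
            map_eq_zero_iff _ ω.injective] at this
          refine Subtype.ext ?_
          show ((x ω : K)) = 0
          rw [← hk, ← hPP, Module.End.mul_apply, hk, this]
        · obtain ⟨k, hk⟩ := (x ω').2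
          have h0 : P * C (ω'⁻¹ * ω) P = 0 := hdisj _ fun h1 => hne (inv_mul_eq_one.1 h1)
          have h1 := congrArg (C ω') h0
          rw [hCmul, hCC, mul_inv_cancel_left, hC ω' 0, mul_zero, zero_mul,
            hAcm _ (hAC _ _ hPA) _ (hAC _ _ hPA)] at h1
          have h2 := LinearMap.congr_fun h1 (ω' k)
          simp only [hC ω', Module.End.mul_apply, AlgEquiv.toLinearMap_apply, AlgEquiv.aut_inv,
            AlgEquiv.symm_apply_apply, hk, LinearMap.zero_apply] at h2
          exact h2
      have hle := LinearMap.finrank_le_finrank_of_injective hinjΦ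
      rw [Module.finrank_pi_fintype, Finset.sum_const, Finset.card_univ, ← Nat.card_eq_fintype_card,
        IsGalois.card_aut_eq_finrank, smul_eq_mul] at hle
      have h1 : Module.finrank F (LinearMap.range P) ≤ 1 := by
        by_contra hc'
        push Not at hc'
        nlinarith
      obtain ⟨x₀, hx₀⟩ : ∃ x₀, P x₀ ≠ 0 := by
        by_contra hc'
        push Not at hc'
        exact hP0 (LinearMap.ext hc')
      refine ⟨P x₀, hx₀, fun x => ?_⟩
      have hle' : Submodule.span F {P x₀} ≤ LinearMap.range P := by simp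
      have heq := Submodule.eq_of_le_of_finrank_le hle' (by rw [finrank_span_singleton hx₀]; exact h1)
      obtain ⟨c, hc⟩ := Submodule.mem_span_singleton.1 (heq.symm ▸ LinearMap.mem_range_self P x :
        P x ∈ Submodule.span F {P x₀})
      exact ⟨c, hc.symm⟩
    choose ψ hψ using haP
    have hsym : ∀ x y, Algebra.trace F K (P x * y) = Algebra.trace F K (x * P y) := fun x y => by
      rw [trace_adjT]
      congr 2
      exact LinearMap.congr_fun (hAadj P hPA) y
    have hψa : ∀ x, ψ x * Algebra.trace F K (a * a) = ψ a * Algebra.trace F K (a * x) := fun x => by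
      have := hsym x a
      rw [hψ, hψ, smul_mul_assoc, mul_smul_comm, map_smul, map_smul, mul_comm x a] at this
      exact this
    have hψ1 : ψ a = 1 := by
      obtain ⟨x₀, hx₀⟩ : ∃ x₀, ψ x₀ ≠ 0 := by
        by_contra hc'
        push Not at hc'
        exact hP0 (LinearMap.ext fun x => by rw [hψ, hc', zero_smul]; rfl)
      have h1 := LinearMap.congr_fun hPP x₀
      rw [Module.End.mul_apply, hψ x₀, map_smul, hψ a, smul_smul] at h1
      exact mul_left_cancel₀ hx₀ ((smul_left_injective F ha h1).trans (mul_one _).symm)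
    have haa : Algebra.trace F K (a * a) ≠ 0 := fun h0 => ha (E.trace_ext fun k => by
      have h1 := hψa k
      rw [h0, mul_zero, hψ1, one_mul] at h1
      rw [mul_comm]; exact h1.symm)
    have hwP : WMem M v f e t (P : K →ₗ[F] K) := by
      have : ∀ x ∈ A, ∀ c : F, WMem M v f e t (c • x : Module.End F K) := fun x hx => by
        rw [hA] at hx
        induction hx using Submodule.span_induction with
        | mem p hp =>
          intro c
          obtain ⟨g, hg, hgd⟩ := (hB₁ p).1 hp
          refine ⟨g * uu E v e (algebraMap F K c) * g⁻¹,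
            M.mul_mem (M.mul_mem hg (uu_mem' E hn S hM _)) (M.inv_mem hg),
            LinearMap.mulLeft F (-(algebraMap F K c * algebraMap F K c * algebraMap F K t)), ?_⟩
          convert uMap_conj E S (one_mul 1) hgd (uMap_uu E S (algebraMap F K c)) using 1
          refine LinearMap.ext fun k => ?_
          simp [← Algebra.smul_def]
        | zero =>
          intro c
          exact ⟨1, M.one_mem, 0, by rw [smul_zero]; exact uMap_one E S⟩
        | add p p' _ _ h1 h2 =>
          intro c
          rw [smul_add]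
          exact WMem.add E S (h1 c) (h2 c)
        | smul c' p _ h1 =>
          intro c
          rw [smul_smul]
          exact h1 _
      simpa using this P hPA 1
    obtain ⟨d, hd'⟩ : ∃ d : K, ∀ c : F, algebraMap F K c ≠ d := by
      by_contra hc'
      push Not at hc'
      have := Submodule.finrank_mono (show (⊤ : Submodule F K) ≤ Submodule.span F {1} from fun x _ => by
        obtain ⟨c, rfl⟩ := hc' x
        exact Submodule.mem_span_singleton.2 ⟨c, (Algebra.algebraMap_eq_smul_one c).symm⟩)
      rw [finrank_top, finrank_span_singleton one_ne_zero] at this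
      omega
    have hlong := comm_mem E S (wmem_mulLeft E hn S hM d) hwP
    obtain ⟨w, hw, hwL⟩ : ∃ w : K ≃ₐ[F] K, w ≠ 1 ∧ ∀ X ∈ lset R M S.sv, coef X w = 0 := by
      by_contra hc'
      push Not at hc'
      exact hnot fun X hX => mem_of_support hr hr2 E.two (fun Y hY => lset_skew E S hY)
        (fun Y hY s hs => lset_scale E hn S hM hY hs) hX
        fun ω hω => hc' ω (fun h => hω (h ▸ hX.coef_one E.two))
    obtain ⟨T, hT⟩ : ∃ T : K →ₗ[F] K, T = (Algebra.trace F K ∘ₗ LinearMap.mulLeft F a).smulRight (d * a) -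
        (Algebra.trace F K ∘ₗ LinearMap.mulLeft F (d * a)).smulRight a := ⟨_, rfl⟩
    have hX : -((2 * t) • (adjT (LinearMap.mulLeft F d) ∘ₗ (P : K →ₗ[F] K) - adjT P ∘ₗ LinearMap.mulLeft F d)) =
        algebraMap F K (-(2 * t) * (Algebra.trace F K (a * a))⁻¹) • T := by
      refine LinearMap.ext fun x => ?_
      have hPx : ∀ x, P x = ((Algebra.trace F K (a * a))⁻¹ * Algebra.trace F K (a * x)) • a := fun x => by
        rw [hψ, show ψ x = (Algebra.trace F K (a * a))⁻¹ * Algebra.trace F K (a * x) by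
          rw [eq_inv_mul_iff_mul_eq₀ haa, mul_comm, hψa, hψ1, one_mul]]
      rw [show adjT (P : K →ₗ[F] K) = P from hAadj P hPA, adjT_mulLeft, hT]
      simp only [LinearMap.neg_apply, LinearMap.smul_apply, LinearMap.sub_apply, LinearMap.comp_apply,
        LinearMap.mulLeft_apply, LinearMap.smulRight_apply, hPx, smul_eq_mul]
      simp only [Algebra.smul_def, map_mul, map_neg, mul_assoc a]
      rw [show d * a * x = a * (d * x) by ring]
      ring
    have hw0 : coef (-((2 * t) • (adjT (LinearMap.mulLeft F d) ∘ₗ (P : K →ₗ[F] K) -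
        adjT P ∘ₗ LinearMap.mulLeft F d))) w = 0 := hwL _ hlong
    rw [hX, coef_smul] at hw0
    have hT0 := (mul_eq_zero.1 hw0).resolve_left ((_root_.map_ne_zero _).2
      (mul_ne_zero (neg_ne_zero.2 (mul_ne_zero E.two S.t0)) (inv_ne_zero haa)))
    obtain ⟨c, hc⟩ := no_rank_two hr hw ha (hT ▸ hT0)
    exact hd' c (mul_right_cancel₀ ha hc).symm

end CfsgLib.Classical22.OrthField.PrimeDeg
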