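/-
The stabiliser of the line inside the stabiliser of one of its vectors.
-/
import Cfsg.Agent.Lib.Classical22.OrthFieldPrime.Unit
import Cfsg.Agent.Lib.Classical22.OrthFieldThree.Transfer

set_option autoImplicit false
set_option linter.all false

namespace CfsgLib.Classical22.OrthField.PrimeDeg

open CfsgLib.Classical CfsgLib.Classical22.OrthField.Cubic

universe u

variable {F : Type u} [Field F] {K : Type*} [Field K] [Algebra F K]
variable {V : Type u} [AddCommGroup V] [Module F V] [Module K V] [IsScalarTower F K V]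
variable {Q : QuadraticForm F V} {R : QuadraticForm K V} {M : Subgroup (qAut Q)}

/-- A map into a line bounds the dimension. -/
lemma finrank_le_inf_ker_add [FiniteDimensional F V] {W : Type*} [AddCommGroup W] [Module F W] (Y : Submodule F V)
    (P : V →ₗ[F] W) (w : W) (h : ∀ y ∈ Y, P y ∈ Submodule.span F {w}) :
    Module.finrank F Y ≤ Module.finrank F (Y ⊓ LinearMap.ker P : Submodule F V) + 1 := by
  have h1 := LinearMap.finrank_range_add_finrank_ker (P ∘ₗ Y.subtype)
  have h2 : Module.finrank F (LinearMap.range (P ∘ₗ Y.subtype)) ≤ 1 := by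
    haveI : FiniteDimensional F (Submodule.span F ({w} : Set W)) := FiniteDimensional.span_of_finite F (Set.finite_singleton w)
    refine le_trans (Submodule.finrank_mono (t := Submodule.span F {w}) ?_) ?_
    · rintro _ ⟨y, rfl⟩
      exact h y y.2
    · exact (finrank_span_le_card ({w} : Set W)).trans (by simp)
  have h3 : Module.finrank F (LinearMap.ker (P ∘ₗ Y.subtype)) =
      Module.finrank F (Y ⊓ LinearMap.ker P : Submodule F V) := by
    rw [LinearMap.ker_comp]
    exact (Submodule.equivMapOfInjective Y.subtype Y.subtype_injective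
      ((LinearMap.ker P).comap Y.subtype)).finrank_eq.trans (by rw [Submodule.map_comap_subtype])
  omega

variable [Fintype F] [Fintype K] [FiniteDimensional F K] [FiniteDimensional F V] [FiniteDimensional K V]
variable (E : Over Q R) (hn : 5 ≤ Module.finrank F V) {v f e : V} {t : F} (S : Std R v f e t) (hM : SemiMem K M)
variable (hr : (Module.finrank F K).Prime) (hr2 : Module.finrank F K ≠ 2) (hME : M ≤ eichGroup Q)
variable (hnot : ¬ ∀ X : K →ₗ[F] K, IsSkew X → Long R M v X) (hd3 : Module.finrank K V = 3)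
variable (h5 : 5 ≤ Module.finrank F K)
include E S

omit [Fintype F] [FiniteDimensional F V] [FiniteDimensional K V] in
/-- The top part of an element with field action on the line. -/
theorem pol_v_map {x : qAut Q} {τ : K ≃ₐ[F] K} {B : K →ₗ[F] K} (hA : Act2 v e x τ.toLinearMap B) (z : V) :
    QuadraticMap.polar R (x.1 z) v = τ (QuadraticMap.polar R z v) := trace_ext' (F := F) fun l => by
  obtain ⟨k, rfl⟩ := τ.surjective l
  have h := qAut_polar x z (k • v)
  rw [hA.line, E.polar, E.polar, QuadraticMap.polar_smul_right, QuadraticMap.polar_smul_right, smul_eq_mul,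
    smul_eq_mul, AlgEquiv.toLinearMap_apply] at h
  rw [h, ← map_mul, Algebra.trace_eq_of_algEquiv]

omit [Fintype F] [FiniteDimensional F V] [FiniteDimensional K V] in
/-- The image of the opposite vector. -/
theorem map_f {x : qAut Q} {τ : K ≃ₐ[F] K} {B : K →ₗ[F] K} (hA : Act2 v e x τ.toLinearMap B) :
    ∃ a : K, x.1 f = a • v + etaK R f e t x • e + f := by
  obtain ⟨a, c, d, h⟩ := S.span (x.1 f)
  have hd : d = 1 := by
    have := pol_v_map E S hA f
    rw [h, S.pol_v, S.fv, map_one] at this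
    exact this
  subst hd
  refine ⟨a, ?_⟩
  rw [etaK, h, S.pol_e, mul_div_cancel_right₀ _ (mul_ne_zero E.two' S.t0'), one_smul]

omit [Fintype F] [FiniteDimensional F V] [FiniteDimensional K V] in
/-- The cocycle rule. -/
theorem etaK_mul' {x y : qAut Q} {τ τ' : K ≃ₐ[F] K} {B B' : K →ₗ[F] K} (hx : Act2 v e x τ.toLinearMap B)
    (hy : Act2 v e y τ'.toLinearMap B') : etaK R f e t (x * y) = etaK R f e t x + B (etaK R f e t y) := by
  obtain ⟨a, ha⟩ := map_f E S hy
  obtain ⟨a', ha'⟩ := map_f E S hx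
  obtain ⟨c, hc⟩ := hx.mid (etaK R f e t y)
  have h : (x * y).1 f = (τ a + c + a') • v + (etaK R f e t x + B (etaK R f e t y)) • e + (1 : K) • f := by
    rw [qAut_mul_apply, ha, map_add, map_add, hx.line, hc, ha', AlgEquiv.toLinearMap_apply]
    module
  conv_lhs => rw [etaK, h, S.pol_e, mul_div_cancel_right₀ _ (mul_ne_zero E.two' S.t0')]

omit [Fintype F] [FiniteDimensional F V] [FiniteDimensional K V] in
lemma etaK_one' : etaK R f e t (1 : qAut Q) = 0 := by rw [← uu_zero E S, etaK_uu E S]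

include hn hM hr hr2 hME hnot hd3 h5

/-- The shape of the elements. -/
theorem stab_shape {x : qAut Q} (hx : x ∈ M) (hv : x.1 v = v) (hst : x ∈ qStab Q (lineF F (K := K) v)) :
    ∃ (τ : K ≃ₐ[F] K) (B : Module.End F K), Act2 v e x τ.toLinearMap B ∧ B 1 = 1 ∧
      (∀ a, Algebra.trace F K (B a) = Algebra.trace F K a) ∧ (3 < Fintype.card F → B = τ.toLinearMap) := by
  have hid : cid (K := K) (1 : F) = LinearMap.id := one_smul F _
  obtain ⟨τ, B₀, h, hh, hd, hA⟩ := exists_split E hn S hM hr hr2 hnot hx hst (one_mul 1) (by rw [hv, one_smul])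
  have h1 := axis_fix_one E hn S hM hr hr2 hME hnot hd3 h5 hh (B := B₀.toLinearMap) hd
  refine ⟨τ, B₀.toLinearMap ∘ₗ τ.toLinearMap, ?_, ?_, fun a => ?_, fun hq => ?_⟩
  · rwa [hid, LinearMap.id_comp] at hA
  · rw [LinearMap.comp_apply, AlgEquiv.toLinearMap_apply, map_one]; exact h1
  · calc Algebra.trace F K ((B₀.toLinearMap ∘ₗ τ.toLinearMap) a)
        = Algebra.trace F K (B₀.toLinearMap (τ a) * B₀.toLinearMap 1) := by
          rw [h1, mul_one]; rfl
      _ = Algebra.trace F K (τ a * 1) := by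
          rw [trace_adjT, ← LinearMap.comp_apply, hd.adj_comp E S, LinearMap.id_apply]
      _ = _ := by rw [mul_one, Algebra.trace_eq_of_algEquiv]
  · rw [axis_eq_one E hn S hM hr hr2 hME (one_mul 1) hh (B := B₀.toLinearMap) hd hnot hd3 hq]
    rfl

/-- A root element fixes only one line of the orbit. -/
theorem semireg' {g : qAut Q} (hg : g ∈ M) (hgv : g.1 v = v) {c : K} (hc : c ≠ 0)
    (hu : g⁻¹ * uu E v e c * g ∈ qStab Q (lineF F (K := K) v)) : g ∈ qStab Q (lineF F (K := K) v) := by
  classical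
  obtain ⟨p, hp⟩ := CharP.exists F
  haveI hpf : Fact p.Prime := ⟨CharP.char_is_prime F p⟩
  haveI : CharP K p := charP_of_injective_algebraMap (algebraMap F K).injective p
  haveI : Fact (Module.finrank F K).Prime := ⟨hr⟩
  obtain ⟨n, hn'⟩ : ∃ n, n = g⁻¹ * uu E v e c * g := ⟨_, rfl⟩
  rw [← hn'] at hu
  have huv : (uu E v e c).1 v = v := by simpa using uu_fix_v E S c 1
  have hnv : n.1 v = v := by
    rw [hn', qAut_mul_apply, qAut_mul_apply, hgv, huv]
    conv_lhs => rw [← hgv, qInv_apply_self]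
  have hnM : n ∈ M := hn' ▸ M.mul_mem (M.mul_mem (M.inv_mem hg) (uu_mem' E hn S hM _)) hg
  obtain ⟨τ, B, hA, -, -, hBq⟩ := stab_shape E hn S hM hr hr2 hME hnot hd3 h5 hnM hnv hu
  have hfix : ∀ z, n.1 z = z ↔ g.1 z ∈ lineF F (K := K) v := fun z => by
    have e1 : n.1 z = (g⁻¹).1 ((uu E v e c).1 (g.1 z)) := by rw [hn', qAut_mul_apply, qAut_mul_apply]
    constructor
    · intro h
      refine uu_fix E S hc ?_
      have := congrArg g.1 (e1.symm.trans h)
      rwa [qApply_inv_self] at this
    · intro h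
      obtain ⟨k, hk⟩ := mem_lineF.1 h
      rw [e1, ← hk, uu_fix_v E S, hk, qInv_apply_self]
  by_cases hτ : τ = 1
  · refine mem_qStab_of_maps Q fun z hz => ?_
    obtain ⟨k, rfl⟩ := mem_lineF.1 hz
    refine (hfix _).1 ?_
    rw [hA.line, hτ]
    rfl
  exfalso
  have hpow : ∀ (m : ℕ) (k : K), (n ^ m).1 (k • v) = ((τ ^ m) k) • v := fun m => by
    induction m with
    | zero => exact fun k => rfl
    | succ m ih =>
      intro k
      rw [pow_succ, qAut_mul_apply, hA.line, AlgEquiv.toLinearMap_apply, ih, pow_succ, AlgEquiv.mul_apply]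
  have hnp : n ^ p = 1 := by
    have h1 : ∀ m : ℕ, uu E v e c ^ m = uu E v e (m * c) := fun m => by
      induction m with
      | zero => rw [pow_zero, Nat.cast_zero, zero_mul, uu_zero E S]
      | succ m ih => rw [pow_succ, ih, uu_mul E S]; push_cast; rw [add_mul, one_mul]
    have h2 : (g⁻¹ * uu E v e c * g⁻¹⁻¹) ^ p = g⁻¹ * uu E v e c ^ p * g⁻¹⁻¹ := conj_pow
    rw [inv_inv] at h2
    rw [hn', h2, h1, CharP.cast_eq_zero, zero_mul, uu_zero E S, mul_one, inv_mul_cancel]
  have hτp : τ ^ p = 1 := AlgEquiv.ext fun k => smul_left_injective K S.v0 (by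
    show (τ ^ p) k • v = k • v
    rw [← hpow, hnp]; rfl)
  have hpr : p = Module.finrank F K := by
    have h1 : orderOf τ = p := orderOf_eq_prime hτp hτ
    have h2 := orderOf_dvd_natCard τ
    rw [h1, IsGalois.card_aut_eq_finrank] at h2
    exact (Nat.prime_dvd_prime_iff_eq hpf.out hr).1 h2
  have hq : 3 < Fintype.card F := by
    obtain ⟨m, -, hm⟩ := FiniteField.card F p
    rw [hm]
    calc 3 < p := by omega
      _ ≤ p ^ (m : ℕ) := Nat.le_self_pow m.ne_zero p
  have hBτ := hBq hq
  obtain ⟨Y, hY⟩ : ∃ Y : Submodule F V, ∀ z, z ∈ Y ↔ n.1 z = z :=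
    ⟨LinearMap.ker ((n.1 : V →ₗ[F] V) - LinearMap.id), fun z => by simp [sub_eq_zero]⟩
  have hYdim : Module.finrank F Y = Module.finrank F K := by
    have e1 : Y = (lineF F (K := K) v).comap (g.1 : V →ₗ[F] V) := by
      ext z; rw [hY, hfix]; rfl
    have e2 : (lineF F (K := K) v).comap (g.1 : V →ₗ[F] V) =
        (lineF F (K := K) v).map (g.1.symm : V →ₗ[F] V) := Submodule.comap_equiv_eq_map_symm _ _
    rw [e1, e2, LinearEquiv.finrank_map_eq]
    have h1 := Module.finrank_mul_finrank F K (Submodule.span K {v})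
    rw [finrank_span_singleton S.v0, mul_one] at h1
    exact h1.symm
  obtain ⟨Pv, hPv⟩ : ∃ P : V →ₗ[F] K, ∀ z, P z = QuadraticMap.polar R z v :=
    ⟨((QuadraticMap.polarBilin R).flip v).restrictScalars F, fun z => by simp⟩
  obtain ⟨Pe, hPe⟩ : ∃ P : V →ₗ[F] K, ∀ z, P z = QuadraticMap.polar R z e :=
    ⟨((QuadraticMap.polarBilin R).flip e).restrictScalars F, fun z => by simp⟩
  have hb1 := finrank_le_inf_ker_add Y Pv (1 : K) fun z hz => by
    have h := pol_v_map E S hA z
    rw [(hY z).1 hz] at h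
    obtain ⟨a, ha⟩ := mem_of_fixed hr hτ h.symm
    rw [hPv, ← ha, Algebra.algebraMap_eq_smul_one]
    exact Submodule.smul_mem _ a (Submodule.mem_span_singleton_self 1)
  have hkey : ∀ z ∈ Y, QuadraticMap.polar R z v = 0 → ∃ a b : K, z = a • v + b • e ∧ τ b = b := fun z hz hzv => by
    obtain ⟨a, b, rfl⟩ := S.perp_form hzv
    refine ⟨a, b, rfl, ?_⟩
    have h := (hY _).1 hz
    obtain ⟨a', ha'⟩ := hA.mid b
    rw [map_add, hA.line, ha', hBτ] at h
    exact (co_inj S E.two' (a := τ a + a') (b := τ b) (c := 0) (a' := a) (b' := b) (c' := 0) (by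
      simp only [AlgEquiv.toLinearMap_apply] at h
      simp only [zero_smul, add_zero, add_smul]
      rw [add_assoc]; exact h)).2.1
  have hb2 := finrank_le_inf_ker_add (Y ⊓ LinearMap.ker Pv) Pe (2 * algebraMap F K t) fun z hz => by
    obtain ⟨a, b, rfl, hb⟩ := hkey z hz.1 (by rw [← hPv]; exact LinearMap.mem_ker.1 hz.2)
    obtain ⟨a', ha'⟩ := mem_of_fixed hr hτ hb
    have := S.pol_e a b 0
    rw [zero_smul, add_zero] at this
    rw [hPe, this, ← ha', ← Algebra.smul_def]
    exact Submodule.smul_mem _ a' (Submodule.mem_span_singleton_self _)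
  have hb3 : Module.finrank F (Y ⊓ LinearMap.ker Pv ⊓ LinearMap.ker Pe : Submodule F V) ≤ 1 := by
    refine le_trans (Submodule.finrank_mono (t := Submodule.span F {v}) fun z hz => ?_) ?_
    · obtain ⟨a, b, rfl, -⟩ := hkey z hz.1.1 (by rw [← hPv]; exact LinearMap.mem_ker.1 hz.1.2)
      have h0 := LinearMap.mem_ker.1 hz.2
      have h1 := S.pol_e a b 0
      rw [zero_smul, add_zero] at h1
      rw [hPe, h1] at h0
      have hb0 : b = 0 := (mul_eq_zero.1 h0).resolve_right (mul_ne_zero E.two' S.t0')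
      subst hb0
      have h := (hY _).1 hz.1.1
      rw [zero_smul, add_zero] at h ⊢
      rw [hA.line] at h
      obtain ⟨c', hc'⟩ := mem_of_fixed hr hτ (smul_left_injective K S.v0 h)
      exact Submodule.mem_span_singleton.2 ⟨c', by rw [← hc', algebraMap_smul]⟩
    · rw [finrank_span_singleton S.v0]
  omega

/-- The homomorphism extending the trace of the parameter. -/
theorem exists_transfer [Finite ↥(M ⊓ vStab Q v)] : ∃ (φ : ↥((qStab Q (lineF F (K := K) v)).subgroupOf (M ⊓ vStab Q v)) →* Multiplicative F)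
    (W : ↥(M ⊓ vStab Q v) →* Multiplicative F), W = MonoidHom.transfer φ ∧
      (∀ x, φ x = Multiplicative.ofAdd (Algebra.trace F K (etaK R f e t x.1.1))) ∧
      ∀ (c : K) (h : uu E v e c ∈ M ⊓ vStab Q v),
        W ⟨uu E v e c, h⟩ = Multiplicative.ofAdd (Algebra.trace F K c) := by
  classical
  haveI : Finite V := Module.finite_of_finite F
  haveI : Finite (V ≃ₗ[F] V) := Finite.of_injective _ DFunLike.coe_injective
  obtain ⟨p, hp⟩ := CharP.exists F
  haveI hpf : Fact p.Prime := ⟨CharP.char_is_prime F p⟩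
  haveI : CharP K p := charP_of_injective_algebraMap (algebraMap F K).injective p
  have hshape := fun (x : ↥(M ⊓ vStab Q v)) (hx : x.1 ∈ qStab Q (lineF F (K := K) v)) =>
    stab_shape E hn S hM hr hr2 hME hnot hd3 h5 x.2.1 x.2.2 hx
  let φ : ↥((qStab Q (lineF F (K := K) v)).subgroupOf (M ⊓ vStab Q v)) →* Multiplicative F :=
    { toFun := fun x => Multiplicative.ofAdd (Algebra.trace F K (etaK R f e t x.1.1))
      map_one' := by
        show Multiplicative.ofAdd (Algebra.trace F K (etaK R f e t (1 : qAut Q))) = 1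
        rw [etaK_one' E S, map_zero]
        rfl
      map_mul' := fun x y => by
        obtain ⟨τ, B, hA, -, hB, -⟩ := hshape x.1 x.2
        obtain ⟨τ', B', hA', -, -, -⟩ := hshape y.1 y.2
        show Multiplicative.ofAdd (Algebra.trace F K (etaK R f e t (x.1.1 * y.1.1))) = _
        rw [etaK_mul' E S hA hA', map_add, hB, ofAdd_add] }
  refine ⟨φ, MonoidHom.transfer φ, rfl, fun x => rfl, fun c h => ?_⟩
  by_cases hc : c = 0
  · have h1 : (⟨uu E v e c, h⟩ : ↥(M ⊓ vStab Q v)) = 1 := Subtype.ext (by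
      show uu E v e c = 1; rw [hc, uu_zero E S])
    rw [h1, map_one, hc, map_zero]
    rfl
  have hpow : ∀ n : ℕ, uu E v e c ^ n = uu E v e (n * c) := fun n => by
    induction n with
    | zero => rw [pow_zero, Nat.cast_zero, zero_mul, uu_zero E S]
    | succ n ih => rw [pow_succ, ih, uu_mul E S]; push_cast; rw [add_mul, one_mul]
  have hmem : (⟨uu E v e c, h⟩ : ↥(M ⊓ vStab Q v)) ∈ (qStab Q (lineF F (K := K) v)).subgroupOf (M ⊓ vStab Q v) :=
    act_qStab E S (act_uu E S c)
  rw [transfer_of_fix φ hmem hpf.out (Subtype.ext (by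
    show (uu E v e c) ^ p = 1
    rw [hpow, CharP.cast_eq_zero, zero_mul, uu_zero E S])) fun x hx =>
      semireg' E hn S hM hr hr2 hME hnot hd3 h5 x.2.1 x.2.2 hc hx]
  show Multiplicative.ofAdd (Algebra.trace F K (etaK R f e t (uu E v e c))) = _
  rw [etaK_uu E S]

end CfsgLib.Classical22.OrthField.PrimeDeg
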