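/-
No element is supported on a single anisotropic axis.
-/
import Cfsg.Agent.Lib.Classical22.OrthFieldPrime.Rotation
import Cfsg.Agent.Lib.Classical22.OrthFieldPrime.Line
import Cfsg.Agent.Lib.Classical22.OrthFieldPrime.Unit

set_option autoImplicit false
set_option linter.all false

namespace CfsgLib.Classical22.OrthField.PrimeDeg

open CfsgLib.Classical CfsgLib.Classical22.OrthField.Cubic

universe u

variable {F : Type u} [Field F] [Fintype F] {K : Type*} [Field K] [Algebra F K] [Fintype K]
variable {V : Type u} [AddCommGroup V] [Module F V] [Module K V] [IsScalarTower F K V]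
variable [FiniteDimensional F K] [FiniteDimensional F V] [FiniteDimensional K V]
variable {Q : QuadraticForm F V} {R : QuadraticForm K V} {M : Subgroup (qAut Q)}

/-- Supported on one axis. -/
structure Axis (R : QuadraticForm K V) (e : V) (g : qAut Q) (B : K →ₗ[F] K) : Prop where
  mid : ∀ k : K, g.1 (k • e) = B k • e
  fix : ∀ z : V, QuadraticMap.polar R z e = 0 → g.1 z = z

variable (E : Over Q R) (hd3 : Module.finrank K V = 3)
include E

omit [Fintype F] [Fintype K] [FiniteDimensional F K] [FiniteDimensional F V] [FiniteDimensional K V] in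
/-- Moving an axis by a linear map. -/
lemma Axis.conj {e : V} {g : qAut Q} {B : K →ₗ[F] K} (h : Axis R e g B) (σ : qAut R) :
    Axis R (σ.1 e) (E.lift σ * g * (E.lift σ)⁻¹) B := by
  refine ⟨fun k => ?_, fun z hz => ?_⟩
  · rw [← map_inv, qAut_mul_apply, qAut_mul_apply, Over.lift_apply, Over.lift_apply, map_smul, qInv_apply_self,
      h.mid, map_smul]
  · rw [← map_inv, qAut_mul_apply, qAut_mul_apply, Over.lift_apply, Over.lift_apply,
      h.fix _ (by rw [← qAut_polar σ, qApply_inv_self]; exact hz), qApply_inv_self]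

include hd3

omit [Fintype F] [FiniteDimensional F V] in
/-- Every nonzero value is taken on the perp of an anisotropic vector. -/
theorem exists_value {w : V} (hw : R w ≠ 0) {c : K} (hc : c ≠ 0) :
    ∃ z, QuadraticMap.polar R z w = 0 ∧ R z = c := by
  classical
  obtain ⟨a, b, haw, hbw, hba, ha, hb, -⟩ := exists_plane E hd3 hw
  have hdeg : (Polynomial.C (R a) * Polynomial.X ^ 2 - Polynomial.C c).degree = 2 := by
    rw [Polynomial.degree_sub_eq_left_of_degree_lt (by
      rw [Polynomial.degree_C_mul_X_pow 2 ha]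
      exact Polynomial.degree_C_le.trans_lt (WithBot.coe_lt_coe.2 two_pos)), Polynomial.degree_C_mul_X_pow 2 ha]
    rfl
  open Polynomial in
  obtain ⟨y, u, hyu⟩ := FiniteField.exists_root_sum_quadratic hdeg (g := C (R b) * X ^ 2)
    (degree_C_mul_X_pow 2 hb) (by
      have h2 : ringChar K ≠ 2 := fun h => E.two' (by
        haveI := ringChar.of_eq h
        exact CharTwo.two_eq_zero)
      exact Nat.odd_iff.1 (Nat.odd_iff.2 (FiniteField.odd_card_of_char_ne_two h2)))
  refine ⟨y • a + u • b, ?_, ?_⟩
  · rw [QuadraticMap.polar_add_left, QuadraticMap.polar_smul_left, QuadraticMap.polar_smul_left,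
      haw, hbw, smul_zero, smul_zero, add_zero]
  · simp only [Polynomial.eval_sub, Polynomial.eval_mul, Polynomial.eval_C, Polynomial.eval_pow,
      Polynomial.eval_X] at hyu
    rw [quad_add, quad_smul, quad_smul, QuadraticMap.polar_smul_left, QuadraticMap.polar_smul_right,
      QuadraticMap.polar_comm R a b, hba, smul_zero, smul_zero]
    linear_combination hyu

/-- An element fixing the perp of an anisotropic vector preserves its line. -/
theorem exists_axis {e : V} (he : R e ≠ 0) {g : qAut Q}
    (hfix : ∀ z : V, QuadraticMap.polar R z e = 0 → g.1 z = z) : ∃ B : K →ₗ[F] K, Axis R e g B := by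
  have hmem : ∀ k : K, ∃ c : K, g.1 (k • e) = c • e := fun k => by
    obtain ⟨c, y, hy, hcy⟩ := split_axis E hd3 he (g.1 (k • e))
    refine ⟨c, ?_⟩
    have hy0 : y = 0 := E.nd y fun z => by
      obtain ⟨d, u, hu, rfl⟩ := split_axis E hd3 he z
      have hyu : QuadraticMap.polar R y u = 0 := E.trace_ext fun l => by
        have hlu : QuadraticMap.polar R (l • u) e = 0 := by rw [QuadraticMap.polar_smul_left, hu, smul_zero]
        have h := qAut_polar g (k • e) (l • u)
        rw [hfix _ hlu, hcy, E.polar, E.polar, QuadraticMap.polar_add_left, QuadraticMap.polar_smul_left,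
          QuadraticMap.polar_smul_left, QuadraticMap.polar_comm R e (l • u), hlu, smul_zero, smul_zero, zero_add,
          QuadraticMap.polar_smul_right, smul_eq_mul] at h
        rw [h, map_zero]
      rw [QuadraticMap.polar_add_right, QuadraticMap.polar_smul_right, hy, hyu, smul_zero, add_zero]
    rw [hcy, hy0, add_zero]
  obtain ⟨P, hP⟩ : ∃ P : V →ₗ[F] K, ∀ z, P z = (2 * R e)⁻¹ * QuadraticMap.polar R z e :=
    ⟨LinearMap.mulLeft F (2 * R e)⁻¹ ∘ₗ ((QuadraticMap.polarBilin R).flip e).restrictScalars F, fun z => by simp [mul_assoc]⟩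
  refine ⟨P ∘ₗ (g.1 : V →ₗ[F] V) ∘ₗ (LinearMap.toSpanSingleton K V e).restrictScalars F, fun k => ?_, hfix⟩
  obtain ⟨c, hc⟩ := hmem k
  simp only [LinearMap.comp_apply, LinearMap.coe_restrictScalars, LinearMap.toSpanSingleton_apply,
    LinearEquiv.coe_coe, hc, hP, QuadraticMap.polar_smul_left, quad_polar_self, smul_eq_mul]
  congr 1
  rw [mul_left_comm, inv_mul_cancel₀ (mul_ne_zero E.two' he), mul_one]

/-- A trivial axis map is the identity. -/
lemma Axis.eq_one {e : V} (he : R e ≠ 0) {g : qAut Q} (h : Axis R e g (1 : Module.End F K)) : g = 1 := by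
  refine qAut_ext fun z => ?_
  obtain ⟨c, y, hy, rfl⟩ := split_axis E hd3 he z
  rw [map_add, h.mid, h.fix y hy]
  rfl

omit [Fintype F] [FiniteDimensional F V] [Fintype K] hd3 in
/-- Powers. -/
lemma Axis.pow_order {e : V} (he : R e ≠ 0) {g : qAut Q} {B : Module.End F K} (h : Axis R e g B) {m : ℕ} (hm : g ^ m = 1) :
    B ^ m = 1 := by
  have hp : ∀ (n : ℕ) (k : K), (g ^ n).1 (k • e) = (B ^ n) k • e := fun n => by
    induction n with
    | zero => exact fun k => rfl
    | succ n ih => intro k; rw [qPow_apply, ih, h.mid, pow_succ' B]; rfl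
  refine LinearMap.ext fun k => smul_left_injective K (fun h0 : e = 0 => he (by rw [h0, map_zero])) ?_
  show (B ^ m) k • e = k • e
  rw [← hp, hm]
  rfl

variable (hn : 5 ≤ Module.finrank F V) (hM : SemiMem K M) (hr : (Module.finrank F K).Prime)
variable (hr2 : Module.finrank F K ≠ 2) (hME : M ≤ eichGroup Q)
variable (hnot : ∀ (v f e : V) (t : F), Std R v f e t → ¬ ∀ X : K →ₗ[F] K, IsSkew X → Long R M v X)
include hn hM hr hr2 hME hnot

omit hnot hr hr2 hME in
/-- An axis moves to an orthogonal one of the same value. -/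
theorem exists_move {e e1 : V} (he : R e ≠ 0) (h1 : R e1 = R e) (hor : QuadraticMap.polar R e e1 = 0) {g : qAut Q}
    (hg : g ∈ M) {B : K →ₗ[F] K} (h : Axis R e g B) : ∃ g1 ∈ M, Axis R e1 g1 B := by
  obtain ⟨d, hd⟩ : ∃ d, d = e - e1 := ⟨_, rfl⟩
  have hRd : R d = 2 * R e := by
    rw [hd, sub_eq_add_neg, quad_add, QuadraticMap.map_neg, QuadraticMap.polar_neg_right, hor, h1]
    ring
  have hd0 : R d ≠ 0 := hRd ▸ mul_ne_zero E.two' he
  obtain ⟨z, hz, hRz⟩ := exists_value E hd3 he hd0
  have hz0 : R z ≠ 0 := hRz ▸ hd0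
  obtain ⟨σ, hσ⟩ : ∃ σ, σ = qRefl R hd0 * qRefl R hz0 := ⟨_, rfl⟩
  have hσM : E.lift σ ∈ M := hσ ▸ hM _ (lift_pair_mem E hn hz0 hd0 hRz) (isSemi_lift E _)
  have hσe : σ.1 e = e1 := by
    rw [hσ, qAut_mul_apply, qRefl_fix R hz0 (by rw [QuadraticMap.polar_comm]; exact hz)]
    have h1' : e = (1/2 : K) • d + (1/2 : K) • (e + e1) := by
      rw [hd, smul_sub, smul_add]
      have e2 : (1 / 2 : K) + 1 / 2 = 1 := by field_simp [E.two']; norm_num
      calc e = ((1 / 2 : K) + 1 / 2) • e := by rw [e2, one_smul]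
        _ = _ := by rw [add_smul]; abel
    have hperp : QuadraticMap.polar R d (e + e1) = 0 := by
      rw [hd, sub_eq_add_neg, QuadraticMap.polar_add_left, QuadraticMap.polar_neg_left,
        QuadraticMap.polar_add_right, QuadraticMap.polar_add_right, quad_polar_self, quad_polar_self, hor,
        QuadraticMap.polar_comm R e1 e, hor, h1]
      ring
    conv_lhs => rw [h1', map_add, map_smul, map_smul, qRefl_self, qRefl_fix R hd0 (by
      first | exact hperp | (rw [QuadraticMap.polar_comm]; exact hperp))]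
    rw [hd, smul_neg, smul_sub, smul_add]
    have e2 : (1 / 2 : K) + 1 / 2 = 1 := by field_simp [E.two']; norm_num
    calc -((1 / 2 : K) • e - (1 / 2 : K) • e1) + ((1 / 2 : K) • e + (1 / 2 : K) • e1)
        = ((1 / 2 : K) + 1 / 2) • e1 := by rw [add_smul]; abel
      _ = e1 := by rw [e2, one_smul]
  exact ⟨_, M.mul_mem (M.mul_mem hσM hg) (M.inv_mem hσM), hσe ▸ h.conj E σ⟩

/-- A map acting alike on two singular lines is a field automorphism. -/
theorem line_case {v f e : V} {t : F} (S : Std R v f e t) {x : qAut Q} (hx : x ∈ M) {B : Module.End F K} {m : ℕ}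
    (hm : Odd m) (hB : B ^ m = 1) (hv : ∀ k : K, x.1 (k • v) = B k • v) (hf : ∀ k : K, x.1 (k • f) = B k • f) :
    ∃ τ : K ≃ₐ[F] K, B = τ.toLinearMap ∧ τ ^ m = 1 := by
  have hinj : Function.Injective B := fun a b h => smul_left_injective K S.v0 (x.1.injective (by
    show x.1 (a • v) = x.1 (b • v); rw [hv, hv, h]))
  obtain ⟨l, hl, τ, hτ⟩ := line_semi E hn S hM hr hr2 (hnot v f e t S) hx
    (A := LinearEquiv.ofBijective B (Finite.injective_iff_bijective.1 hinj)) hv
  replace hτ : ∀ k, B k = l * τ k := hτ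
  have hll : l * l = 1 := trace_ext' (F := F) fun k => by
    obtain ⟨k, rfl⟩ := τ.surjective k
    have h := qAut_polar x (k • v) ((1 : K) • f)
    rw [hv, hf, hτ, hτ, E.polar, E.polar, map_one, mul_one] at h
    simp only [QuadraticMap.polar_smul_left, QuadraticMap.polar_smul_right, QuadraticMap.polar_comm R v f, S.fv,
      smul_eq_mul, mul_one, one_mul] at h
    rw [mul_one, Algebra.trace_eq_of_algEquiv, ← h]
    congr 1
    ring
  have hτl : τ l = l := by
    rcases mul_self_eq_one_iff.1 hll with rfl | rfl <;> simp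
  have hp : ∀ (n : ℕ) (k : K), (B ^ n) k = l ^ n * (τ ^ n) k := fun n => by
    induction n with
    | zero => intro k; simp
    | succ n ih =>
      intro k
      rw [pow_succ', Module.End.mul_apply, ih, hτ, map_mul, map_pow, hτl, pow_succ' l, pow_succ' τ,
        AlgEquiv.mul_apply, mul_assoc]
  have hl1 : l = 1 := by
    have h := hp m 1
    rw [hB, Module.End.one_apply, map_one, mul_one] at h
    rcases mul_self_eq_one_iff.1 hll with h1 | h1
    · exact h1
    · rw [h1, hm.neg_one_pow] at h
      rw [h1]; exact h.symm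
  refine ⟨τ, LinearMap.ext fun k => by rw [hτ, hl1, one_mul]; rfl, AlgEquiv.ext fun k => ?_⟩
  have h := hp m k
  rw [hB, hl1, one_pow, one_mul] at h
  exact h.symm

variable {e : V} {t : F} (he : R e = algebraMap F K t) (ht : t ≠ 0) {g : qAut Q} (hg : g ∈ M)
variable {B : Module.End F K} (hB : Axis R e g B) {m : ℕ} (hm : Odd m) (hBm : B ^ m = 1)
include he ht hg hB hm hBm

/-- With a root of minus one the axis map is trivial. -/
theorem axis_two {i : F} (hi : i * i = -1) : B = 1 := by
  have ht' : algebraMap F K t ≠ 0 := by simpa using ht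
  have heR : R e ≠ 0 := he ▸ ht'
  obtain ⟨e1, hor, hR1⟩ := exists_twin E hd3 heR
  obtain ⟨g1, hg1, hB1⟩ := exists_move E hd3 hn hM heR hR1 hor hg hB
  obtain ⟨i', hi'⟩ : ∃ i', i' = algebraMap F K i := ⟨_, rfl⟩
  have hii : i' * i' = -1 := by rw [hi', ← map_mul, hi, map_neg, map_one]
  obtain ⟨c, hc⟩ : ∃ c, c = algebraMap F K ((4 * t)⁻¹) := ⟨_, rfl⟩
  obtain ⟨v, hv⟩ : ∃ v, v = e + i' • e1 := ⟨_, rfl⟩
  obtain ⟨f, hf⟩ : ∃ f, f = c • (e - i' • e1) := ⟨_, rfl⟩
  have hor' : QuadraticMap.polar R e1 e = 0 := by rw [QuadraticMap.polar_comm]; exact hor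
  have hRv : R v = 0 := by
    rw [hv, quad_add, quad_smul, QuadraticMap.polar_smul_right, hor, hR1, smul_zero]
    linear_combination R e * hii
  have hRf : R f = 0 := by
    rw [hf, quad_smul, sub_eq_add_neg, quad_add, QuadraticMap.map_neg, quad_smul, QuadraticMap.polar_neg_right,
      QuadraticMap.polar_smul_right, hor, hR1, smul_zero, neg_zero, add_zero]
    linear_combination c * c * R e * hii
  have hfv : QuadraticMap.polar R f v = 1 := by
    have h4 : (4 : F) * t ≠ 0 := mul_ne_zero (by
      rw [show (4 : F) = 2 * 2 by norm_num]; exact mul_ne_zero E.two E.two) ht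
    have hc4 : c * (4 * R e) = 1 := by
      rw [hc, he, ← map_ofNat (algebraMap F K) 4, ← map_mul, ← map_mul, inv_mul_cancel₀ h4, map_one]
    rw [hf, hv, QuadraticMap.polar_smul_left, sub_eq_add_neg, QuadraticMap.polar_add_left,
      QuadraticMap.polar_neg_left, QuadraticMap.polar_add_right, QuadraticMap.polar_add_right,
      QuadraticMap.polar_smul_left, QuadraticMap.polar_smul_right, QuadraticMap.polar_smul_left,
      QuadraticMap.polar_smul_right, quad_polar_self, quad_polar_self, hor, hor', hR1]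
    simp only [smul_eq_mul, smul_zero, mul_zero, add_zero, zero_add]
    linear_combination hc4 - 2 * c * R e * hii
  obtain ⟨e', t', S⟩ := exists_std_of_pair' E hd3 (hr.odd_of_ne_two hr2) hRv hRf hfv
  obtain ⟨x, hx⟩ : ∃ x, x = g * g1 := ⟨_, rfl⟩
  have hxe : ∀ k : K, x.1 (k • e) = B k • e := fun k => by
    rw [hx, qAut_mul_apply, hB1.fix _ (by rw [QuadraticMap.polar_smul_left, hor, smul_zero]), hB.mid]
  have hxe1 : ∀ k : K, x.1 (k • e1) = B k • e1 := fun k => by
    rw [hx, qAut_mul_apply, hB1.mid, hB.fix _ (by rw [QuadraticMap.polar_smul_left, hor', smul_zero])]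
  have hBF : ∀ (a : F) (k : K), B (k * algebraMap F K a) = B k * algebraMap F K a := fun a k => by
    rw [mul_comm, ← Algebra.smul_def, map_smul, Algebra.smul_def, mul_comm]
  have hxv : ∀ k : K, x.1 (k • v) = B k • v := fun k => by
    rw [hv, smul_add, smul_smul, map_add, hxe, hxe1, hi', hBF, ← smul_smul, ← smul_add]
  have hxf : ∀ k : K, x.1 (k • f) = B k • f := fun k => by
    rw [hf, smul_smul, smul_sub, smul_smul, map_sub, hxe, hxe1, hi', hBF, hc, hBF, smul_smul, smul_sub, smul_smul]
  obtain ⟨τ, hτ, hτm⟩ := line_case E hd3 hn hM hr hr2 hME hnot S (hx ▸ M.mul_mem hg hg1) hm hBm hxv hxf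
  obtain ⟨y, hy, hyd⟩ := exists_gal E hn S hM (hr.odd_of_ne_two hr2) τ⁻¹
  have hperp : ∀ k : K, QuadraticMap.polar R (k • e') e = 0 ∧ QuadraticMap.polar R (k • e') e1 = 0 := fun k => by
    have h1 : QuadraticMap.polar R e' v = 0 := by rw [QuadraticMap.polar_comm]; exact S.ve
    have h2 : QuadraticMap.polar R e' f = 0 := by rw [QuadraticMap.polar_comm]; exact S.fe
    have hc0 : c ≠ 0 := by
      rw [hc]; simp only [ne_eq, map_eq_zero, inv_eq_zero]
      exact mul_ne_zero (by rw [show (4 : F) = 2 * 2 by norm_num]; exact mul_ne_zero E.two E.two) ht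
    rw [hv, QuadraticMap.polar_add_right, QuadraticMap.polar_smul_right, smul_eq_mul] at h1
    rw [hf, QuadraticMap.polar_smul_right, sub_eq_add_neg, QuadraticMap.polar_add_right,
      QuadraticMap.polar_neg_right, QuadraticMap.polar_smul_right, smul_eq_mul, smul_eq_mul, mul_eq_zero] at h2
    have h2' := h2.resolve_left hc0
    have e0 : 2 * QuadraticMap.polar R e' e = 0 := by linear_combination h1 + h2'
    have e0' := (mul_eq_zero.1 e0).resolve_left E.two'
    have e1' : i' * QuadraticMap.polar R e' e1 = 0 := by linear_combination h1 - e0'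
    have hi0 : i' ≠ 0 := fun h => by simp [h] at hii
    exact ⟨by rw [QuadraticMap.polar_smul_left, e0', smul_zero],
      by rw [QuadraticMap.polar_smul_left, (mul_eq_zero.1 e1').resolve_left hi0, smul_zero]⟩
  have hid : ∀ k : K, τ ((τ⁻¹ : K ≃ₐ[F] K) k) = k := fun k => τ.apply_symm_apply k
  have hdiag : Diag v f e' (x * y) (cid 1) (τ⁻¹).toLinearMap (cid 1) := by
    refine ⟨fun k => ?_, fun k => ?_, fun k => ?_⟩
    · rw [qAut_mul_apply, hyd.line, hxv, hτ, AlgEquiv.toLinearMap_apply, AlgEquiv.toLinearMap_apply, hid]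
      simp
    · rw [qAut_mul_apply, hyd.mid, hx, qAut_mul_apply, hB1.fix _ (hperp _).2, hB.fix _ (hperp _).1]
    · rw [qAut_mul_apply, hyd.top, hxf, hτ, AlgEquiv.toLinearMap_apply, AlgEquiv.toLinearMap_apply, hid]
      simp
  have hpw : ∀ (n : ℕ) (k : K), ((τ⁻¹).toLinearMap ^ n : Module.End F K) k = ((τ⁻¹) ^ n) k := fun n => by
    induction n with
    | zero => exact fun k => rfl
    | succ n ih => intro k; rw [pow_succ', Module.End.mul_apply, ih, pow_succ' τ⁻¹, AlgEquiv.mul_apply]; rfl
  have h1 := axis_one_of_odd E hn S hM hr hr2 (one_mul 1) (hx ▸ M.mul_mem (M.mul_mem hg hg1) (hy))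
    (B := (τ⁻¹).toLinearMap) hdiag (hnot v f e' t' S) hm
    (LinearMap.ext fun k => by rw [hpw, inv_pow, hτm, inv_one]; rfl)
  have hτ1 : τ⁻¹ = 1 := AlgEquiv.ext fun k => LinearMap.congr_fun h1 k
  rw [hτ, inv_eq_one.1 hτ1]
  rfl

/-- Without a root of minus one, away from the degree, the axis map is trivial. -/
theorem axis_three (hns : ¬ IsSquare (-1 : F)) (hcop : m.Coprime (Module.finrank F K)) : B = 1 := by
  classical
  have ht' : algebraMap F K t ≠ 0 := by simpa using ht
  have heR : R e ≠ 0 := he ▸ ht'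
  obtain ⟨e1, hor, hR1⟩ := exists_twin E hd3 heR
  have hor' : QuadraticMap.polar R e1 e = 0 := by rw [QuadraticMap.polar_comm]; exact hor
  have hR1' : R e1 ≠ 0 := hR1 ▸ heR
  obtain ⟨L, hL⟩ : ∃ L : V →ₗ[K] K × K, ∀ x, L x = (QuadraticMap.polar R x e, QuadraticMap.polar R x e1) :=
    ⟨((QuadraticMap.polarBilin R).flip e).prod ((QuadraticMap.polarBilin R).flip e1), fun x => by simp⟩
  obtain ⟨u, hu, hu0⟩ := Submodule.exists_mem_ne_zero_of_ne_bot (p := LinearMap.ker L) fun h => by
    have h1 := LinearMap.finrank_range_add_finrank_ker L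
    have h2 := Submodule.finrank_le (LinearMap.range L)
    rw [h, finrank_bot, hd3] at h1
    rw [Module.finrank_prod, Module.finrank_self] at h2
    omega
  rw [LinearMap.mem_ker, hL, Prod.mk_eq_zero] at hu
  obtain ⟨hue, hue1⟩ := hu
  have hRu : R u ≠ 0 := fun h0 => hu0 (E.nd u fun z => by
    obtain ⟨a, y, hy, rfl⟩ := split_axis E hd3 heR z
    obtain ⟨c, d, rfl⟩ := plane_span E hd3 heR hor' hue (fun c d hcd => by
      have h1 := congrArg (fun x => QuadraticMap.polar R x e1) hcd
      simp only [QuadraticMap.polar_add_left, QuadraticMap.polar_smul_left, quad_polar_self, hue1, smul_eq_mul,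
        mul_zero, add_zero, QuadraticMap.polar_zero_left, mul_eq_zero, E.two', hR1', or_false, false_or] at h1
      subst h1
      rw [zero_smul, zero_add, smul_eq_zero] at hcd
      exact ⟨rfl, hcd.resolve_right hu0⟩) hy
    simp [QuadraticMap.polar_add_right, QuadraticMap.polar_smul_right, hue, hue1, quad_polar_self, h0])
  have hnsK : ¬ IsSquare (-1 : K) := by
    rintro ⟨s, hs⟩
    obtain ⟨q, hq⟩ : ∃ q, q = Fintype.card F := ⟨_, rfl⟩
    haveI : Fact (Module.finrank F K).Prime := ⟨hr⟩
    by_cases hmem : ∃ a : F, algebraMap F K a = s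
    · obtain ⟨a, rfl⟩ := hmem
      exact hns ⟨a, (algebraMap F K).injective (by rw [map_neg, map_one, map_mul]; exact hs)⟩
    · -- an automorphism moving the root has even order
      obtain ⟨τ, hτ⟩ : ∃ τ : K ≃ₐ[F] K, τ s ≠ s := by
        by_contra hc
        push Not at hc
        obtain ⟨a, ha⟩ := (IsGalois.mem_bot_iff_fixed (F := F) (E := K) s).2 hc
        exact hmem ⟨a, ha⟩
      have h1 : τ s = -s := by
        have h2 : τ s * τ s = s * s := by rw [← map_mul, ← hs, map_neg, map_one]
        exact (mul_self_eq_mul_self_iff.1 h2).resolve_left hτ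
      have h3 : ∀ n, (τ ^ n) s = (-1) ^ n * s := fun n => by
        induction n with
        | zero => simp
        | succ n ih =>
          rw [pow_succ', AlgEquiv.mul_apply, ih, map_mul, map_pow, map_neg, map_one, h1, pow_succ]
          ring
      have h4 := h3 (Module.finrank F K)
      rw [← IsGalois.card_aut_eq_finrank, pow_card_eq_one', IsGalois.card_aut_eq_finrank,
        (hr.odd_of_ne_two hr2).neg_one_pow, AlgEquiv.one_apply, neg_one_mul] at h4
      exact hτ (by rw [h1, ← h4])
  obtain ⟨s, hs⟩ | hsq : IsSquare (R u / algebraMap F K t) ∨ IsSquare (-(R u / algebraMap F K t)) := by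
    by_cases h : IsSquare (R u / algebraMap F K t)
    · exact Or.inl h
    · refine Or.inr ?_
      have h2 : ringChar K ≠ 2 := fun h => E.two' (by
        haveI := ringChar.of_eq h
        exact CharTwo.two_eq_zero)
      rw [← quadraticChar_one_iff_isSquare (neg_ne_zero.2 (div_ne_zero hRu ht')), neg_eq_neg_one_mul, map_mul,
        quadraticChar_neg_one_iff_not_isSquare.2 hnsK, quadraticChar_neg_one_iff_not_isSquare.2 h]
      norm_num
  · -- three axes
    have hs0 : s ≠ 0 := fun h => div_ne_zero hRu ht' (by rw [hs, h, mul_zero])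
    obtain ⟨e2, he2⟩ : ∃ e2, e2 = s⁻¹ • u := ⟨_, rfl⟩
    have hR2 : R e2 = R e := by
      rw [he2, quad_smul, he]
      rw [div_eq_iff ht'] at hs
      rw [hs]
      field_simp
    have h02 : QuadraticMap.polar R e e2 = 0 := by
      rw [he2, QuadraticMap.polar_smul_right, QuadraticMap.polar_comm, hue, smul_zero]
    have h12 : QuadraticMap.polar R e1 e2 = 0 := by
      rw [he2, QuadraticMap.polar_smul_right, QuadraticMap.polar_comm, hue1, smul_zero]
    have h20 : QuadraticMap.polar R e2 e = 0 := by rw [QuadraticMap.polar_comm]; exact h02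
    have h21 : QuadraticMap.polar R e2 e1 = 0 := by rw [QuadraticMap.polar_comm]; exact h12
    obtain ⟨g1, hg1, hB1⟩ := exists_move E hd3 hn hM heR hR1 hor hg hB
    obtain ⟨g2, hg2, hB2⟩ := exists_move E hd3 hn hM heR hR2 h02 hg hB
    obtain ⟨a, b, hab⟩ : ∃ a b : F, 1 + a * a + b * b = 0 := by
      open Polynomial in
      obtain ⟨a, b, hab⟩ := FiniteField.exists_root_sum_quadratic (R := F) (f := X ^ 2 + C 1) (g := X ^ 2)
        (by rw [degree_X_pow_add_C two_pos]; rfl) (by rw [degree_X_pow]; rfl)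
        (FiniteField.odd_card_of_char_ne_two fun h => E.two (by
          haveI := ringChar.of_eq h
          exact CharTwo.two_eq_zero))
      simp only [Polynomial.eval_add, Polynomial.eval_pow, Polynomial.eval_X, Polynomial.eval_C] at hab
      exact ⟨a, b, by linear_combination hab⟩
    obtain ⟨a', ha'⟩ : ∃ a', a' = algebraMap F K a := ⟨_, rfl⟩
    obtain ⟨b', hb'⟩ : ∃ b', b' = algebraMap F K b := ⟨_, rfl⟩
    have hab' : 1 + a' * a' + b' * b' = 0 := by
      rw [ha', hb', ← map_mul, ← map_mul, ← map_one (algebraMap F K), ← map_add, ← map_add, hab, map_zero]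
    obtain ⟨c, hc⟩ : ∃ c, c = algebraMap F K ((4 * t)⁻¹) := ⟨_, rfl⟩
    obtain ⟨v, hv⟩ : ∃ v, v = e + a' • e1 + b' • e2 := ⟨_, rfl⟩
    obtain ⟨f, hf⟩ : ∃ f, f = c • (e + (-a') • e1 + (-b') • e2) := ⟨_, rfl⟩
    have hRv : R v = 0 := by
      rw [hv]
      simp only [quad_add, quad_smul, QuadraticMap.polar_add_left, QuadraticMap.polar_smul_left,
        QuadraticMap.polar_smul_right, hor, h02, h12, hR1, hR2, smul_eq_mul, mul_zero, add_zero]
      linear_combination R e * hab'
    have hRf : R f = 0 := by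
      rw [hf]
      simp only [quad_smul, quad_add, QuadraticMap.polar_add_left, QuadraticMap.polar_smul_left,
        QuadraticMap.polar_smul_right, hor, h02, h12, hR1, hR2, smul_eq_mul, mul_zero, add_zero]
      linear_combination c * c * R e * hab'
    have hfv : QuadraticMap.polar R f v = 1 := by
      have h4 : (4 : F) * t ≠ 0 := mul_ne_zero (by
        rw [show (4 : F) = 2 * 2 by norm_num]; exact mul_ne_zero E.two E.two) ht
      have hc4 : c * (4 * R e) = 1 := by
        rw [hc, he, ← map_ofNat (algebraMap F K) 4, ← map_mul, ← map_mul, inv_mul_cancel₀ h4, map_one]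
      rw [hf, hv]
      simp only [QuadraticMap.polar_add_left, QuadraticMap.polar_add_right, QuadraticMap.polar_smul_left,
        QuadraticMap.polar_smul_right, quad_polar_self, hor, hor', h02, h12, h20, h21, hR1, hR2, smul_eq_mul,
        mul_zero, add_zero, zero_add]
      linear_combination hc4 - 2 * c * R e * hab'
    obtain ⟨e', t', S⟩ := exists_std_of_pair' E hd3 (hr.odd_of_ne_two hr2) hRv hRf hfv
    obtain ⟨x, hx⟩ : ∃ x, x = g * g1 * g2 := ⟨_, rfl⟩
    have hxe : ∀ k : K, x.1 (k • e) = B k • e := fun k => by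
      rw [hx, qAut_mul_apply, qAut_mul_apply, hB2.fix _ (by rw [QuadraticMap.polar_smul_left, h02, smul_zero]),
        hB1.fix _ (by rw [QuadraticMap.polar_smul_left, hor, smul_zero]), hB.mid]
    have hxe1 : ∀ k : K, x.1 (k • e1) = B k • e1 := fun k => by
      rw [hx, qAut_mul_apply, qAut_mul_apply, hB2.fix _ (by rw [QuadraticMap.polar_smul_left, h12, smul_zero]),
        hB1.mid, hB.fix _ (by rw [QuadraticMap.polar_smul_left, hor', smul_zero])]
    have hxe2 : ∀ k : K, x.1 (k • e2) = B k • e2 := fun k => by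
      rw [hx, qAut_mul_apply, qAut_mul_apply, hB2.mid,
        hB1.fix _ (by rw [QuadraticMap.polar_smul_left, h21, smul_zero]),
        hB.fix _ (by rw [QuadraticMap.polar_smul_left, h20, smul_zero])]
    have hBF : ∀ (a : F) (k : K), B (k * algebraMap F K a) = B k * algebraMap F K a := fun a k => by
      rw [mul_comm, ← Algebra.smul_def, map_smul, Algebra.smul_def, mul_comm]
    have hlin : ∀ (a b : F) (k : K), x.1 (k • (e + algebraMap F K a • e1 + algebraMap F K b • e2)) =
        B k • (e + algebraMap F K a • e1 + algebraMap F K b • e2) := fun a b k => by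
      rw [smul_add, smul_add, smul_smul, smul_smul, map_add, map_add, hxe, hxe1, hxe2, hBF, hBF, smul_add,
        smul_add, smul_smul, smul_smul]
    have hxv : ∀ k : K, x.1 (k • v) = B k • v := fun k => by rw [hv, ha', hb', hlin]
    have hxf : ∀ k : K, x.1 (k • f) = B k • f := fun k => by
      rw [hf, smul_smul, smul_smul, ha', hb', ← map_neg, ← map_neg, hlin, hc, hBF]
    obtain ⟨τ, hτ, hτm⟩ := line_case E hd3 hn hM hr hr2 hME hnot S (hx ▸ M.mul_mem (M.mul_mem hg hg1) hg2) hm
      hBm hxv hxf
    have hτr : τ ^ Module.finrank F K = 1 := by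
      rw [← IsGalois.card_aut_eq_finrank]; exact pow_card_eq_one'
    have h1 := pow_gcd_eq_one.2 ⟨hτm, hτr⟩
    rw [Nat.Coprime.gcd_eq_one hcop, pow_one] at h1
    rw [hτ, h1]
    rfl
  · -- a hyperbolic plane beside the axis
    obtain ⟨s, hs⟩ := hsq
    have hRu' : R u = -(s * s * R e1) := by
      rw [hR1, he, ← hs, neg_mul, neg_neg, div_mul_cancel₀ _ ht']
    have hs0 : s ≠ 0 := fun h => hRu (by rw [hRu', h]; simp)
    obtain ⟨v, hv⟩ : ∃ v, v = u + s • e1 := ⟨_, rfl⟩
    obtain ⟨c, hc⟩ : ∃ c, c = (4 * R u)⁻¹ := ⟨_, rfl⟩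
    obtain ⟨f, hf⟩ : ∃ f, f = c • (u + (-s) • e1) := ⟨_, rfl⟩
    have hRv : R v = 0 := by
      rw [hv, quad_add, quad_smul, QuadraticMap.polar_smul_right, hue1, smul_zero, hRu']
      ring
    have hRf : R f = 0 := by
      rw [hf, quad_smul, quad_add, quad_smul, QuadraticMap.polar_smul_right, hue1, smul_zero, hRu']
      ring
    have hu1 : QuadraticMap.polar R e1 u = 0 := by rw [QuadraticMap.polar_comm]; exact hue1
    have hfv : QuadraticMap.polar R f v = 1 := by
      have hc4 : c * (4 * R u) = 1 := by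
        rw [hc, inv_mul_cancel₀]
        refine mul_ne_zero ?_ hRu
        rw [show (4 : K) = 2 * 2 by norm_num]
        exact mul_ne_zero E.two' E.two'
      rw [hf, hv]
      simp only [QuadraticMap.polar_add_left, QuadraticMap.polar_add_right, QuadraticMap.polar_smul_left,
        QuadraticMap.polar_smul_right, quad_polar_self, hue1, hu1, smul_eq_mul, mul_zero, add_zero, zero_add]
      rw [hRu'] at hc4 ⊢
      linear_combination hc4
    obtain ⟨e', t', S⟩ := exists_std_of_pair' E hd3 (hr.odd_of_ne_two hr2) hRv hRf hfv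
    have hve : QuadraticMap.polar R v e = 0 := by
      rw [hv, QuadraticMap.polar_add_left, QuadraticMap.polar_smul_left, hue, hor', smul_zero, add_zero]
    have hfe : QuadraticMap.polar R f e = 0 := by
      rw [hf, QuadraticMap.polar_smul_left, QuadraticMap.polar_add_left, QuadraticMap.polar_smul_left, hue, hor',
        smul_zero, add_zero, smul_zero]
    have S' : Std R v f e t := ⟨hRv, hRf, hfv, hve, hfe, he, ht, fun z => by
      obtain ⟨a, k, b, hke⟩ := S.span e
      have ha : a = 0 := by
        have h := congrArg (fun x => QuadraticMap.polar R x f) hke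
        rw [QuadraticMap.polar_comm R e f, hfe] at h
        simpa [QuadraticMap.polar_add_left, QuadraticMap.polar_smul_left, quad_polar_self, S.sf, S.fe,
          QuadraticMap.polar_comm R v f, hfv, QuadraticMap.polar_comm R e' f] using h.symm
      have hb : b = 0 := by
        have h := congrArg (fun x => QuadraticMap.polar R x v) hke
        rw [S.pol_v, QuadraticMap.polar_comm R e v, hve] at h
        exact h.symm
      rw [ha, hb, zero_smul, zero_smul, zero_add, add_zero] at hke
      have hk0 : k ≠ 0 := fun h => heR (by rw [hke, h, zero_smul, map_zero])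
      obtain ⟨a, b, c, rfl⟩ := S.span z
      exact ⟨a, b / k, c, by rw [hke, smul_smul, div_mul_cancel₀ _ hk0]⟩⟩
    have hid : cid (K := K) (1 : F) = LinearMap.id := one_smul F _
    have hdiag : Diag v f e g (cid 1) B (cid 1) := by
      rw [hid]
      exact ⟨fun k => hB.fix _ (by rw [QuadraticMap.polar_smul_left, hve, smul_zero]), hB.mid,
        fun k => hB.fix _ (by rw [QuadraticMap.polar_smul_left, hfe, smul_zero])⟩
    exact axis_one_of_odd E hn S' hM hr hr2 (one_mul 1) hg hdiag (hnot v f e t S') hm hBm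

end CfsgLib.Classical22.OrthField.PrimeDeg
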