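/-
The sign argument: an element negating a singular vector.
-/
import Cfsg.Agent.Lib.Classical22.OrthFieldPrime.Unit
import Cfsg.Agent.Lib.Classical22.OrthFieldThree.Transfer

set_option autoImplicit false
set_option linter.all false

namespace CfsgLib.Classical22.OrthField.PrimeDeg

open CfsgLib.Classical CfsgLib.Classical22.OrthField.Cubic

universe u

variable {F : Type u} [Field F] [Fintype F] {K : Type*} [Field K] [Algebra F K] [Fintype K]
variable {V : Type u} [AddCommGroup V] [Module F V] [Module K V] [IsScalarTower F K V]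
variable [FiniteDimensional F K] [FiniteDimensional F V] [FiniteDimensional K V]
variable {Q : QuadraticForm F V} {R : QuadraticForm K V} {M : Subgroup (qAut Q)}
variable (E : Over Q R) {v f e : V} {t : F} (S : Std R v f e t)
include E S

/-- The line is the only field-sized subspace stable under the root group. -/
theorem eq_line_of_inv' {Y : Submodule F V} (h3 : Module.finrank F Y = Module.finrank F K)
    (hinv : ∀ c : K, ∀ z ∈ Y, (uu E v e c).1 z ∈ Y) : Y = lineF F (K := K) v := by
  have hline : Module.finrank F (lineF F (K := K) v) = Module.finrank F K := by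
    have h1 := Module.finrank_mul_finrank F K (Submodule.span K {v})
    rw [finrank_span_singleton S.v0, mul_one] at h1
    exact h1.symm
  have h2t : (2 : K) * algebraMap F K t ≠ 0 := mul_ne_zero E.two' S.t0'
  refine Submodule.eq_of_le_of_finrank_eq (fun z hz => ?_) (h3.trans hline.symm)
  by_contra hzl
  obtain ⟨a, b, d, rfl⟩ := S.span z
  have hW : lineF F (K := K) v ≤ Y := fun w hw => by
    obtain ⟨k, rfl⟩ := mem_lineF.1 hw
    by_cases hd : d = 0
    · subst hd
      have hb : b ≠ 0 := fun h => hzl (mem_lineF.2 ⟨a, by rw [h, zero_smul, zero_smul, add_zero, add_zero]⟩)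
      have h := Y.sub_mem (hinv (-k / (b * (2 * algebraMap F K t))) _ hz) hz
      rw [zero_smul, add_zero, uu_perp E S, show -k / (b * (2 * algebraMap F K t)) * b * (2 * algebraMap F K t) = -k by
        rw [mul_assoc, div_mul_cancel₀ _ (mul_ne_zero hb h2t)]] at h
      convert h using 1
      module
    · have h1 := Y.sub_mem (hinv 1 _ hz) hz
      obtain ⟨m, hm⟩ : ∃ m : K, (uu E v e 1).1 (a • v + b • e + d • f) - (a • v + b • e + d • f) = m • v + d • e :=
        ⟨-(b * (2 * algebraMap F K t) + algebraMap F K t * d), by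
          rw [uu_apply E S, S.pol_v, S.pol_e]; module⟩
      rw [hm] at h1
      have h := Y.sub_mem (hinv (-k / (d * (2 * algebraMap F K t))) _ h1) h1
      rw [uu_perp E S, show -k / (d * (2 * algebraMap F K t)) * d * (2 * algebraMap F K t) = -k by
        rw [mul_assoc, div_mul_cancel₀ _ (mul_ne_zero hd h2t)]] at h
      convert h using 1
      module
  exact hzl (Submodule.eq_of_le_of_finrank_eq hW (hline.trans h3.symm) ▸ hz)

variable (hn : 5 ≤ Module.finrank F V) (hM : SemiMem K M)
variable (hr : (Module.finrank F K).Prime) (hr2 : Module.finrank F K ≠ 2) (hME : M ≤ eichGroup Q)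
variable (hnot : ¬ ∀ X : K →ₗ[F] K, IsSkew X → Long R M v X) (hd3 : Module.finrank K V = 3)
include hn hM hr hr2 hME hnot hd3

/-- When minus one is no square, no element moves the vector to an anisotropic one. -/
theorem false_of_signs (hq : 3 < Fintype.card F) (heta : OrthType.eta F = -1) {g : qAut Q} (hg : g ∈ M)
    (hw : R (g.1 v) ≠ 0) : False := by
  classical
  haveI : Finite V := Module.finite_of_finite F
  haveI : Finite (V ≃ₗ[F] V) := Finite.of_injective _ DFunLike.coe_injective
  obtain ⟨p, hp⟩ := CharP.exists F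
  haveI hpf : Fact p.Prime := ⟨CharP.char_is_prime F p⟩
  haveI : CharP K p := charP_of_injective_algebraMap (algebraMap F K).injective p
  have hp3 : 3 ≤ p := by
    have hp2 : p ≠ 2 := fun h => E.two (by subst h; exact CharTwo.two_eq_zero)
    have := hpf.out.two_le
    omega
  -- an element of the group negating the vector
  obtain ⟨w', hw', hRw'⟩ := exists_twin E hd3 hw
  have hw'0 : R w' ≠ 0 := hRw' ▸ hw
  obtain ⟨h, hh⟩ : ∃ h, h = E.lift (qRefl R hw'0 * qRefl R hw) := ⟨_, rfl⟩
  have hhM : h ∈ M := hM _ (hh ▸ lift_pair_mem E hn hw hw'0 hRw'.symm) (hh ▸ isSemi_lift E _)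
  obtain ⟨x₀, hx₀⟩ : ∃ x₀, x₀ = g⁻¹ * h * g := ⟨_, rfl⟩
  have hx₀v : x₀.1 v = -v := by
    rw [hx₀, qAut_mul_apply, qAut_mul_apply, hh, Over.lift_apply, qAut_mul_apply, qRefl_self, map_neg,
      qRefl_fix R hw'0 hw', map_neg, qInv_apply_self]
  have hx₀M : x₀ ∈ M := hx₀ ▸ M.mul_mem (M.mul_mem (M.inv_mem hg) hhM) hg
  let P : Subgroup (qAut Q) :=
    { carrier := {a | a ∈ M ∧ (a.1 v = v ∨ a.1 v = -v)}
      mul_mem' := fun {a b} ha hb => ⟨M.mul_mem ha.1 hb.1, by
        rw [qAut_mul_apply]
        rcases hb.2 with h | h <;> rw [h] <;> rcases ha.2 with h' | h' <;> simp [h']⟩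
      one_mem' := ⟨M.one_mem, Or.inl rfl⟩
      inv_mem' := fun {a} ha => ⟨M.inv_mem ha.1, by
        rcases ha.2 with h | h
        · left; conv_lhs => rw [← h, qInv_apply_self]
        · right
          apply a.1.injective
          rw [qApply_inv_self, map_neg, h, neg_neg]⟩ }
  let H₁ : Subgroup P := (vStab Q v).subgroupOf P
  let H₂ : Subgroup P := (qStab Q (lineF F (K := K) v)).subgroupOf P
  let U : Subgroup P :=
    { carrier := {a | ∃ c : K, a.1 = uu E v e c}
      mul_mem' := by
        rintro a b ⟨c, hc⟩ ⟨d, hd'⟩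
        exact ⟨c + d, by rw [Subgroup.coe_mul, hc, hd', uu_mul E S]⟩
      one_mem' := ⟨0, (uu_zero E S).symm⟩
      inv_mem' := by
        rintro a ⟨c, hc⟩
        exact ⟨-c, by rw [Subgroup.coe_inv, hc, uu_inv E S]⟩ }
  have hUv : ∀ c : K, (uu E v e c).1 v = v := fun c => by simpa using uu_fix_v E S c 1
  have hU : IsPGroup p U := by
    rintro ⟨a, c, hc⟩
    refine ⟨1, Subtype.ext (Subtype.ext ?_)⟩
    show a.1 ^ p ^ 1 = 1
    have hpw : ∀ n : ℕ, uu E v e c ^ n = uu E v e (n * c) := fun n => by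
      induction n with
      | zero => rw [pow_zero, Nat.cast_zero, zero_mul, uu_zero E S]
      | succ n ih => rw [pow_succ, ih, uu_mul E S]; push_cast; rw [add_mul, one_mul]
    rw [pow_one, hc, hpw, CharP.cast_eq_zero, zero_mul, uu_zero E S]
  have hfix : ∀ x : P, (∀ u ∈ U, x⁻¹ * u * x ∈ H₂) → x ∈ H₂ := fun x hx => by
    obtain ⟨Y, hY⟩ : ∃ Y, Y = (lineF F (K := K) v).map x.1.1.toLinearMap := ⟨_, rfl⟩
    have hYl : Y = lineF F (K := K) v := by
      refine eq_line_of_inv' E S ?_ fun c z hz => ?_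
      · rw [hY, LinearEquiv.finrank_map_eq]
        have h1 := Module.finrank_mul_finrank F K (Submodule.span K {v})
        rw [finrank_span_singleton S.v0, mul_one] at h1
        exact h1.symm
      · rw [hY] at hz ⊢
        obtain ⟨w, hw, rfl⟩ := Submodule.mem_map.1 hz
        refine Submodule.mem_map.2 ⟨_, apply_mem_of_qStab Q (hx ⟨uu E v e c, uu_mem' E hn S hM c,
          Or.inl (hUv c)⟩ ⟨c, rfl⟩) hw, ?_⟩
        show x.1.1 ((x.1⁻¹ * uu E v e c * x.1).1 w) = (uu E v e c).1 (x.1.1 w)
        rw [qAut_mul_apply, qAut_mul_apply, qApply_inv_self]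
    exact mem_qStab_of_maps Q fun w hw => hYl ▸ hY ▸ Submodule.mem_map_of_mem hw
  have hindex₂ : H₂.index ≡ 1 [MOD p] := index_modEq_one U hU (by
    rintro a ⟨c, hc⟩
    show a.1 ∈ qStab Q _
    rw [hc]
    exact act_qStab E S (act_uu E S c)) hfix
  have hneg : v ≠ -v := fun h => S.v0 (by
    have : (2 : F) • v = 0 := by rw [two_smul]; nth_rewrite 2 [h]; exact add_neg_cancel v
    exact (smul_eq_zero.1 this).resolve_left E.two)
  have hindex₁ : H₁.index = 2 := Subgroup.index_eq_two_iff.2 ⟨⟨x₀, hx₀M, Or.inr hx₀v⟩, fun b => by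
    show Xor ((b.1 * x₀).1 v = v) (b.1.1 v = v)
    rw [qAut_mul_apply, hx₀v, map_neg]
    rcases b.2.2 with h | h
    · exact Or.inr ⟨h, by rw [h]; exact hneg.symm⟩
    · exact Or.inl ⟨by rw [h, neg_neg], by rw [h]; exact hneg.symm⟩⟩
  have hsome : ∃ n : P, n ∈ H₂ ∧ n ∉ H₁ := by
    by_contra hc
    push Not at hc
    have hle : H₂ ≤ H₁ := fun n hn => hc n hn
    let U₁ : Subgroup H₁ := U.subgroupOf H₁
    have hU₁ : IsPGroup p U₁ := hU.comap_of_injective H₁.subtype H₁.subtype_injective
    have hrel : (H₂.subgroupOf H₁).index ≡ 1 [MOD p] := index_modEq_one U₁ hU₁ (fun a ha => by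
      obtain ⟨c, hc⟩ := (ha : (a : P) ∈ U)
      show a.1.1 ∈ qStab Q _
      rw [show a.1.1 = uu E v e c from hc]
      exact act_qStab E S (act_uu E S c)) (fun x hx => hfix x.1 fun u hu => by
        have huH : u ∈ H₁ := by
          obtain ⟨c, hc⟩ := hu
          show u.1.1 v = v
          rw [hc, hUv]
        exact hx ⟨u, huH⟩ hu)
    have h : H₂.relIndex H₁ * H₁.index = H₂.index := Subgroup.relIndex_mul_index hle
    rw [hindex₁] at h
    unfold Subgroup.relIndex at h
    have h2 := (hrel.mul_right 2).symm.trans (h ▸ hindex₂)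
    rw [one_mul] at h2
    have h12 := h2.eq_of_lt_of_lt (by omega) (by omega)
    omega
  obtain ⟨n, hn₂, hn₁⟩ := hsome
  have hnv : n.1.1 v = -v := n.2.2.resolve_left hn₁
  obtain ⟨τ, B, h, hh, hd, -⟩ := exists_split E hn S hM hr hr2 hnot n.2.1 hn₂ (ε := -1) (by ring)
    (by rw [hnv, neg_one_smul])
  have hB1 := axis_eq_one E hn S hM hr hr2 hME (ε := -1) (by ring) hh (B := B.toLinearMap) hd hnot hd3 hq
  exact (signs_excluded E hn S hr hr2 hME (ε := -1) (by ring) hh (B := B.toLinearMap) hd hd3).2 hB1 rfl heta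

end CfsgLib.Classical22.OrthField.PrimeDeg
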