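/-
A characteristic-order element of the group supported on one anisotropic axis.
-/
import Cfsg.Agent.Lib.Classical22.OrthFieldPrime.Fixer
import Cfsg.Agent.Lib.Classical22.OrthFieldPrime.Cube

set_option autoImplicit false
set_option linter.all false

namespace CfsgLib.Classical22.OrthField.PrimeDeg

open CfsgLib.Classical CfsgLib.Classical22.OrthField.Cubic

universe u

variable {F : Type u} [Field F] [Fintype F] {K : Type*} [Field K] [Algebra F K] [Fintype K]
variable {V : Type u} [AddCommGroup V] [Module F V] [Module K V] [IsScalarTower F K V]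
variable [FiniteDimensional F K] [FiniteDimensional F V] [FiniteDimensional K V]
variable {Q : QuadraticForm F V} {R : QuadraticForm K V} {M : Subgroup (qAut Q)}
variable (E : Over Q R) (hn : 5 ≤ Module.finrank F V) {v f e : V} {t : F} (S : Std R v f e t) (hM : SemiMem K M)
variable (hr : (Module.finrank F K).Prime) (hr2 : Module.finrank F K ≠ 2) (hME : M ≤ eichGroup Q)
variable (hnot : ¬ ∀ X : K →ₗ[F] K, IsSkew X → Long R M v X) (hd3 : Module.finrank K V = 3)
variable (h5 : 5 ≤ Module.finrank F K)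
include E S hn hM hr hr2 hME hnot hd3 h5

/-- An element of characteristic power order, trivial on the perp of the moved vector. -/
theorem exists_fixer {p : ℕ} [hpf : Fact p.Prime] [CharP F p] {g : qAut Q} (hg : g ∈ M) (hw : R (g.1 v) ≠ 0) :
    ∃ h ∈ M, h.1 (g.1 v) = g.1 v ∧ (∀ z, QuadraticMap.polar R z (g.1 v) = 0 → h.1 z = z) ∧ h ≠ 1 ∧
      ∃ k : ℕ, h ^ p ^ k = 1 := by
  classical
  haveI : Finite V := Module.finite_of_finite F
  haveI : Finite (V ≃ₗ[F] V) := Finite.of_injective _ DFunLike.coe_injective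
  haveI : Finite (V ≃ₗ[K] V) := Finite.of_injective _ DFunLike.coe_injective
  haveI : CharP K p := charP_of_injective_algebraMap (algebraMap F K).injective p
  obtain ⟨nF, -, hF⟩ := FiniteField.card F p
  have hp2 : p ≠ 2 := fun h => E.two (by subst h; exact CharTwo.two_eq_zero)
  have hoddF : Odd (Fintype.card F) := hF ▸ (hpf.out.odd_of_ne_two hp2).pow
  have hrodd := hr.odd_of_ne_two hr2
  -- the rotation
  obtain ⟨N, hN, hNdvd⟩ := exists_order_dvd E hd3 hw
  have hN' : N + 1 = Fintype.card F ^ Module.finrank F K ∨ N = Fintype.card F ^ Module.finrank F K + 1 := by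
    rwa [← Module.card_eq_pow_finrank (K := F) (V := K)]
  obtain ⟨ℓ, hℓ, hℓ2, hℓq, hℓN, hmin⟩ := exists_ell hoddF Fintype.one_lt_card h5 hrodd hN'
  haveI hℓf : Fact ℓ.Prime := ⟨hℓ⟩
  have hℓF : (ℓ : F) ≠ 0 := fun h => hℓq (by
    rw [(Nat.prime_dvd_prime_iff_eq hpf.out hℓ).1 ((CharP.cast_eq_zero_iff F p ℓ).1 h) |>.symm, hF]
    exact dvd_pow_self p nF.ne_zero)
  obtain ⟨⟨a, ha'⟩, haord⟩ := exists_prime_orderOf_dvd_card' (G := MulAction.stabilizer (qAut R) (g.1 v)) ℓ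
    (hℓN.trans hNdvd)
  have haw : a.1 (g.1 v) = g.1 v := ha'
  have hao : orderOf a = ℓ := (Subgroup.orderOf_coe ⟨a, ha'⟩).trans haord
  have ha : a ^ ℓ = 1 := hao ▸ pow_orderOf_eq_one a
  have ha1 : a ≠ 1 := fun h => by rw [h, orderOf_one] at hao; exact hℓ.one_lt.ne hao
  obtain ⟨y, hy⟩ : ∃ y, y = E.lift a := ⟨_, rfl⟩
  have hyl : y ^ ℓ = 1 := by rw [hy, ← map_pow, ha, map_one]
  have hy1 : y ≠ 1 := fun h => ha1 (qAut_ext fun z => by
    rw [hy] at h
    exact congrArg (fun x : qAut Q => x.1 z) h)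
  have hyM : y ∈ M := by
    obtain ⟨i, hi⟩ := hℓ.odd_of_ne_two hℓ2
    have e : a = a ^ (i + 1) * a ^ (i + 1) := by
      rw [← pow_add, show i + 1 + (i + 1) = ℓ + 1 by omega, pow_succ, ha, one_mul]
    rw [hy, e]
    exact hM _ (lift_sq_mem E hn _) (isSemi_lift E _)
  obtain ⟨y0, hy0⟩ : ∃ y0, y0 = g⁻¹ * y * g := ⟨_, rfl⟩
  let G : Subgroup (qAut Q) := M ⊓ vStab Q v
  have hy0G : y0 ∈ G := ⟨hy0 ▸ M.mul_mem (M.mul_mem (M.inv_mem hg) hyM) hg, by
    show y0.1 v = v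
    rw [hy0, qAut_mul_apply, qAut_mul_apply, hy, Over.lift_apply, haw, qInv_apply_self]⟩
  obtain ⟨yG, hyG⟩ : ∃ yG : G, yG = ⟨y0, hy0G⟩ := ⟨_, rfl⟩
  -- transport to the fixer of the moved vector
  obtain ⟨C, hC⟩ : ∃ C : G →* qAut Q, ∀ x : G, C x = g * x.1 * g⁻¹ :=
    ⟨(MulAut.conj g).toMonoidHom.comp G.subtype, fun x => rfl⟩
  have hCinj : Function.Injective C := fun x x' h => by
    rw [hC, hC] at h
    exact Subtype.ext (mul_left_cancel (mul_right_cancel h))
  have hCy : C yG = y := by rw [hC, hyG]; show g * y0 * g⁻¹ = y; rw [hy0]; group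
  have hCw : ∀ x : G, (C x).1 (g.1 v) = g.1 v := fun x => by
    rw [hC, qAut_mul_apply, qAut_mul_apply, qInv_apply_self, show x.1.1 v = v from x.2.2]
  have hCM : ∀ x : G, C x ∈ M := fun x => hC x ▸ M.mul_mem (M.mul_mem hg x.2.1) (M.inv_mem hg)
  have hyGl : yG ^ ℓ = 1 := hCinj (by rw [map_pow, hCy, hyl, map_one])
  have hyG1 : yG ≠ 1 := fun h => hy1 (by rw [← hCy, h, map_one])
  -- the homomorphism to the field
  obtain ⟨φ, W, hW, hφ, hWu⟩ := exists_transfer E hn S hM hr hr2 hME hnot hd3 h5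
  have hWsurj : Function.Surjective W := fun x => by
    obtain ⟨c, hc⟩ := Algebra.trace_surjective F K (Multiplicative.toAdd x)
    exact ⟨⟨uu E v e c, uu_mem' E hn S hM c, by show (uu E v e c).1 v = v; simpa using uu_fix_v E S c 1⟩,
      (hWu c _).trans (by rw [hc]; rfl)⟩
  have hyker : yG ∈ W.ker := by
    rw [MonoidHom.mem_ker]
    have h := congrArg (fun x => Multiplicative.toAdd (W x)) hyGl
    simp only [map_pow, map_one, toAdd_pow, toAdd_one] at h
    rw [← Nat.cast_smul_eq_nsmul F, smul_eq_zero] at h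
    exact h.resolve_left hℓF
  obtain ⟨yk, hyk⟩ : ∃ yk : W.ker, yk = ⟨yG, hyker⟩ := ⟨_, rfl⟩
  have hykp : IsPGroup ℓ (Subgroup.zpowers yk) := fun x => by
    refine ⟨1, ?_⟩
    obtain ⟨x, hx⟩ := x
    obtain ⟨m, rfl⟩ := Subgroup.mem_zpowers_iff.1 hx
    refine Subtype.ext ?_
    show (yk ^ m) ^ (ℓ ^ 1) = 1
    rw [pow_one, ← zpow_natCast, ← zpow_mul, mul_comm, zpow_mul, zpow_natCast,
      show yk ^ ℓ = 1 from Subtype.ext (by rw [hyk]; exact hyGl), one_zpow]
  obtain ⟨P, hP⟩ := hykp.exists_le_sylow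
  obtain ⟨P', hP'⟩ : ∃ P', P' = (P : Subgroup W.ker).map W.ker.subtype := ⟨_, rfl⟩
  have hP'p : IsPGroup ℓ P' := hP' ▸ P.2.map _
  have hyP : yG ∈ P' := hP' ▸ ⟨yk, hP (Subgroup.mem_zpowers yk), by rw [hyk]; rfl⟩
  haveI : Nontrivial P' := (Subgroup.nontrivial_iff_ne_bot _).2 fun h => hyG1 (Subgroup.mem_bot.1 (h ▸ hyP))
  obtain ⟨z₀, hz₀P, hz₀c, hz₀l, hz₀1⟩ : ∃ z ∈ P', (∀ x ∈ P', z * x = x * z) ∧ z ^ ℓ = 1 ∧ z ≠ 1 := by
    haveI := hP'p.center_nontrivial
    obtain ⟨k, hk⟩ := (IsPGroup.iff_card (p := ℓ)).1 (hP'p.to_subgroup (Subgroup.center P'))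
    have hk0 : k ≠ 0 := fun h => by
      rw [h, pow_zero] at hk
      exact not_nontrivial_iff_subsingleton.2 (Finite.card_le_one_iff_subsingleton.1 hk.le) inferInstance
    obtain ⟨z, hz⟩ := exists_prime_orderOf_dvd_card' (G := Subgroup.center P') ℓ (hk ▸ dvd_pow_self ℓ hk0)
    refine ⟨z.1.1, z.1.2, fun x hx => ?_, ?_, fun h => ?_⟩
    · exact congrArg Subtype.val (Subgroup.mem_center_iff.1 z.2 ⟨x, hx⟩).symm
    · have h1 : z ^ ℓ = 1 := hz ▸ pow_orderOf_eq_one z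
      exact congrArg (fun w : Subgroup.center P' => (w.1.1 : G)) h1
    · rw [show z = 1 from Subtype.ext (Subtype.ext h), orderOf_one] at hz
      exact hℓ.one_lt.ne hz
  -- central elements of order dividing the prime are powers of the rotation
  have hmemA : ∀ z : G, (∀ x ∈ P', z * x = x * z) → z ^ ℓ = 1 → ∃ i : ℕ, z = yG ^ i := fun z hzc hzl => by
    obtain ⟨i, hi⟩ := cent_ell E hd3 hw haw hℓ hℓ2 ha ha1 (le_trans (by norm_num) h5) hmin rfl hr hr2 hℓF
      (T := C z) (hCw z) (by rw [← hy, ← hCy, ← map_mul, ← map_mul, hzc _ hyP])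
      (by rw [← map_pow, hzl, map_one])
    exact ⟨i, hCinj (by rw [hi, map_pow, hCy, hy])⟩
  obtain ⟨i₀, hi₀⟩ := hmemA z₀ hz₀c hz₀l
  have hyz : Subgroup.zpowers z₀ = Subgroup.zpowers yG := by
    refine Subgroup.eq_of_le_of_card_ge ?_ ?_
    · rw [Subgroup.zpowers_le, hi₀]
      exact pow_mem (Subgroup.mem_zpowers _) _
    · rw [Nat.card_zpowers, Nat.card_zpowers, orderOf_eq_prime hz₀l hz₀1, orderOf_eq_prime hyGl hyG1]
  have hyc : ∀ x ∈ P', yG * x = x * yG := fun x hx => by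
    obtain ⟨m, hm⟩ := Subgroup.mem_zpowers_iff.1 (hyz ▸ Subgroup.mem_zpowers yG : yG ∈ Subgroup.zpowers z₀)
    rw [← hm]
    exact ((Commute.zpow_left (hz₀c x hx : Commute z₀ x) m)).eq
  obtain ⟨Nm, hNm⟩ : ∃ Nm, Nm = Subgroup.normalizer (P' : Set G) := ⟨_, rfl⟩
  have hnorm : ∀ x ∈ Nm, ∃ i : ℕ, x * yG = yG ^ i * x := fun x hx => by
    obtain ⟨i, hi⟩ := hmemA (x * yG * x⁻¹) (fun w hwP => by
        have hw' : x⁻¹ * w * x ∈ P' := (Subgroup.mem_normalizer_iff''.1 (hNm ▸ hx) w).1 hwP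
        have h1 := hyc _ hw'
        calc x * yG * x⁻¹ * w = x * (yG * (x⁻¹ * w * x)) * x⁻¹ := by group
          _ = x * ((x⁻¹ * w * x) * yG) * x⁻¹ := by rw [h1]
          _ = w * (x * yG * x⁻¹) := by group)
      (by rw [conj_pow, hyGl, mul_one, mul_inv_cancel])
    exact ⟨i, by rw [← hi, inv_mul_cancel_right]⟩
  -- an element of characteristic order outside the kernel
  have hNmW : ∀ x, ∃ n ∈ Nm, W n = x := fun x => by
    obtain ⟨n, rfl⟩ := hWsurj x
    have h : n ∈ Nm ⊔ W.ker := by rw [hNm, hP', Sylow.normalizer_sup_eq_top P]; trivial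
    obtain ⟨n', hn', k', hk', rfl⟩ := Subgroup.mem_sup_of_normal_right.1 h
    exact ⟨n', hn', by rw [map_mul, (MonoidHom.mem_ker.1 hk'), mul_one]⟩
  obtain ⟨T₀⟩ : Nonempty (Sylow p Nm) := inferInstance
  obtain ⟨s, hsN, hsW, ks, hsp⟩ : ∃ s : G, s ∈ Nm ∧ W s ≠ 1 ∧ ∃ ks : ℕ, s ^ p ^ ks = 1 := by
    by_contra hc
    push Not at hc
    let WN : Nm →* Multiplicative F := W.comp Nm.subtype
    have hWN : Function.Surjective WN := fun x => by obtain ⟨n, hn, rfl⟩ := hNmW x; exact ⟨⟨n, hn⟩, rfl⟩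
    have hbot : (T₀ : Subgroup Nm).map WN = ⊥ := by
      rw [Subgroup.eq_bot_iff_forall]
      rintro _ ⟨x, hx, rfl⟩
      by_contra hne
      obtain ⟨k, hk⟩ := T₀.2 ⟨x, hx⟩
      exact hc x.1 x.2 hne k (congrArg (fun z : (T₀ : Subgroup Nm) => (z.1.1 : G)) hk)
    have h1 := Subgroup.index_map_dvd (T₀ : Subgroup Nm) hWN
    rw [hbot, Subgroup.index_bot, Nat.card_congr (Multiplicative.toAdd (α := F)), Nat.card_eq_fintype_card, hF] at h1
    exact Sylow.not_dvd_index T₀ ((dvd_pow_self p nF.ne_zero).trans h1)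
  obtain ⟨i, hi⟩ := hnorm s hsN
  obtain ⟨T, hT⟩ : ∃ T, T = C s := ⟨_, rfl⟩
  have hTw : T.1 (g.1 v) = g.1 v := hT ▸ hCw s
  have hTM : T ∈ M := hT ▸ hCM s
  have hTy : T * y = y ^ i * T := by rw [hT, ← hCy, ← map_mul, hi, map_mul, map_pow]
  have hTp : T ^ p ^ ks = 1 := by rw [hT, ← map_pow, hsp, map_one]
  have hT1 : T ≠ 1 := fun h => hsW (by
    rw [hT, ← map_one C] at h
    rw [hCinj h, map_one])
  obtain ⟨-, hT2r⟩ := conj_structure E hd3 hw haw hℓ hℓ2 ha ha1 (le_trans (by norm_num) h5) hmin rfl hr hr2 hTw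
    (i := i) (by rw [← hy]; exact hTy)
  have hout : ∀ T' : qAut Q, T' ∈ M → T'.1 (g.1 v) = g.1 v → T' * y = y * T' → (∃ k, T' ^ p ^ k = 1) → T' ≠ 1 →
      ∃ h ∈ M, h.1 (g.1 v) = g.1 v ∧ (∀ z, QuadraticMap.polar R z (g.1 v) = 0 → h.1 z = z) ∧ h ≠ 1 ∧
        ∃ k : ℕ, h ^ p ^ k = 1 := fun T' hM' hw' hc hk hne => by
    obtain ⟨k, hk⟩ := hk
    exact ⟨T', hM', hw', cent_p E hd3 hw haw hℓ hℓ2 ha ha1 (le_trans (by norm_num) h5) hmin rfl hr hr2
      hw' (by rw [← hy]; exact hc) hk, hne, k, hk⟩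
  rw [← hy] at hT2r
  by_cases hcT : T * y = y * T
  · exact hout T hTM hTw hcT ⟨ks, hTp⟩ hT1
  by_cases hpr : p = Module.finrank F K
  swap
  · refine absurd ?_ hcT
    have hcop : (2 * Module.finrank F K).Coprime (orderOf T) := by
      refine Nat.Coprime.coprime_dvd_right (orderOf_dvd_of_pow_eq_one hTp) (Nat.Coprime.pow_right _ ?_)
      exact Nat.Coprime.mul_left ((Nat.coprime_primes Nat.prime_two hpf.out).2 (Ne.symm hp2))
        ((Nat.coprime_primes hr hpf.out).2 (Ne.symm hpr))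
    obtain ⟨m, hm⟩ := exists_pow_eq_self_of_coprime hcop
    rw [← hm]
    exact ((show Commute (T ^ (2 * Module.finrank F K)) y from hT2r).pow_left m).eq
  -- the characteristic is the degree
  rw [← hpr] at hT2r
  have hTpc : T ^ p * y = y * T ^ p := by
    have hcop : (2 : ℕ).Coprime (orderOf (T ^ p)) := by
      refine Nat.Coprime.coprime_dvd_right (orderOf_dvd_of_pow_eq_one (n := p ^ ks) ?_)
        (Nat.Coprime.pow_right _ ((Nat.coprime_primes Nat.prime_two hpf.out).2 (Ne.symm hp2)))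
      rw [← pow_mul, mul_comm, pow_mul, hTp, one_pow]
    obtain ⟨m, hm⟩ := exists_pow_eq_self_of_coprime hcop
    rw [← hm, ← pow_mul T p, mul_comm p]
    exact ((show Commute (T ^ (2 * p)) y from hT2r).pow_left m).eq
  by_cases hTp1 : T ^ p = 1
  swap
  · refine hout (T ^ p) (M.pow_mem hTM p) ?_ hTpc ⟨ks, by rw [← pow_mul, mul_comm, pow_mul, hTp, one_pow]⟩ hTp1
    rw [hT, ← map_pow]
    exact hCw _
  exfalso
  have hsp1 : s ^ p = 1 := hCinj (by rw [map_pow, ← hT, hTp1, map_one])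
  obtain ⟨x, k, hm, hφne⟩ := exists_of_transfer_ne φ (s := s) (by rw [← hW]; exact hsW)
  obtain ⟨m, hmdef⟩ : ∃ m : G, m = x⁻¹ * s ^ k * x := ⟨_, rfl⟩
  have hmN : m ∈ (qStab Q (lineF F (K := K) v)).subgroupOf G := hmdef ▸ hm
  have hmp : m ^ p = 1 := by
    have h := conj_pow (a := x⁻¹) (b := s ^ k) (i := p)
    rw [inv_inv] at h
    rw [hmdef, h, ← pow_mul, mul_comm k, pow_mul, hsp1, one_pow, mul_one, inv_mul_cancel]
  have hkp : ¬ p ∣ k := fun hd => hφne (by
    obtain ⟨c, rfl⟩ := hd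
    rw [show (⟨_, hm⟩ : ↥((qStab Q (lineF F (K := K) v)).subgroupOf G)) = 1 from Subtype.ext (by
      show x⁻¹ * s ^ (p * c) * x = 1
      rw [pow_mul, hsp1, one_pow, mul_one, inv_mul_cancel]), map_one])
  obtain ⟨τ, B, hA, -, -, hBq⟩ := stab_shape E hn S hM hr hr2 hME hnot hd3 h5 m.2.1 m.2.2 hmN
  have hq : 3 < Fintype.card F := by
    rw [hF]
    calc 3 < p := by omega
      _ ≤ p ^ (nF : ℕ) := Nat.le_self_pow nF.ne_zero p
  rw [hBq hq] at hA
  obtain ⟨η, hη⟩ : ∃ η, η = etaK R f e t m.1 := ⟨_, rfl⟩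
  have hηtr : Algebra.trace F K η ≠ 0 := fun h => hφne (by
    rw [show (⟨_, hm⟩ : ↥((qStab Q (lineF F (K := K) v)).subgroupOf G)) = ⟨m, hmN⟩ from Subtype.ext hmdef.symm, hφ,
      ← hη, h]
    rfl)
  have hτ : τ = 1 := by
    by_contra hτ
    have hact : ∀ n : ℕ, Act2 v e (m.1 ^ n) (τ ^ n).toLinearMap (τ ^ n).toLinearMap := fun n => by
      induction n with
      | zero => exact ⟨fun a => rfl, fun a => ⟨0, by rw [zero_smul, zero_add]; rfl⟩⟩
      | succ n ih => rw [pow_succ, pow_succ]; exact ih.mul hA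
    have heta : ∀ n : ℕ, etaK R f e t (m.1 ^ n) = ∑ j ∈ Finset.range n, (τ ^ j) η := fun n => by
      induction n with
      | zero => rw [pow_zero, Finset.range_zero, Finset.sum_empty]; exact etaK_one' E S
      | succ n ih => rw [pow_succ, etaK_mul' E S (hact n) hA, ih, Finset.sum_range_succ, ← hη]; rfl
    have h1 := heta p
    rw [← SubmonoidClass.coe_pow, hmp, OneMemClass.coe_one, etaK_one' E S] at h1
    have hord : orderOf τ = p := by
      have h2 := orderOf_dvd_natCard τ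
      rw [IsGalois.card_aut_eq_finrank, ← hpr] at h2
      exact ((Nat.dvd_prime hpf.out).1 h2).resolve_left fun h => hτ (orderOf_eq_one_iff.1 h)
    have himg : (Finset.range p).image (fun j => τ ^ j) = Finset.univ := by
      refine Finset.eq_univ_of_card _ ?_
      rw [Finset.card_image_of_injOn, Finset.card_range, ← Nat.card_eq_fintype_card, IsGalois.card_aut_eq_finrank,
        hpr]
      rw [Finset.coe_range, ← hord]
      exact pow_injOn_Iio_orderOf
    refine hηtr ((algebraMap F K).injective ?_)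
    rw [trace_eq_sum_automorphisms, map_zero, h1, ← himg, Finset.sum_image]
    rw [Finset.coe_range, ← hord]
    exact pow_injOn_Iio_orderOf
  subst hτ
  have hline : ∀ a : K, m.1.1 (a • v) = a • v := fun a => hA.line a
  have hcube_m : ∀ z : V, m.1.1 (m.1.1 (m.1.1 z)) - (3 : ℕ) • m.1.1 (m.1.1 z) + (3 : ℕ) • m.1.1 z - z = 0 :=
    fun z => by
    have h1 : QuadraticMap.polar R (m.1.1 z - z) v = 0 := by
      rw [QuadraticMap.polar_sub_left, pol_v_map E S hA]
      exact sub_self _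
    obtain ⟨a, b, hab⟩ := S.perp_form h1
    obtain ⟨c, hc⟩ := hA.mid b
    have e2 : m.1.1 (m.1.1 z - z) - (m.1.1 z - z) = c • v := by
      rw [hab, map_add, hline, hc, show ((1 : K ≃ₐ[F] K).toLinearMap) b = b from rfl]
      abel
    have e3 : m.1.1 (m.1.1 (m.1.1 z - z) - (m.1.1 z - z)) - (m.1.1 (m.1.1 z - z) - (m.1.1 z - z)) = 0 := by
      rw [e2, hline, sub_self]
    simp only [map_sub] at e3
    rw [← e3]
    abel
  obtain ⟨U, hU⟩ : ∃ U, U = C (s ^ k) := ⟨_, rfl⟩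
  have hUm : ∀ z : V, U.1 ((C x * g).1 z) = (C x * g).1 (m.1.1 z) := fun z => by
    rw [← qAut_mul_apply, ← qAut_mul_apply]
    refine congrArg (fun w : qAut Q => w.1 z) ?_
    rw [hU, hC, hC, hmdef]
    simp only [Subgroup.coe_mul, Subgroup.coe_inv]
    group
  have hpow1 : ∀ n : ℕ, T ^ n * y = y ^ (i ^ n) * T ^ n := fun n => by
    induction n with
    | zero => simp
    | succ n ih =>
      have h1 : ∀ c : ℕ, T * y ^ c = y ^ (c * i) * T := fun c => by
        induction c with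
        | zero => simp
        | succ c ih' => rw [pow_succ, ← mul_assoc, ih', mul_assoc, hTy, ← mul_assoc, ← pow_add, add_mul, one_mul]
      rw [pow_succ' T, mul_assoc, ih, ← mul_assoc, h1, mul_assoc, pow_succ i]
  refine cube_false (y := y) (U := U) (p := p) (i := i ^ k) hℓ hℓ2 hℓF hpf.out (hpr ▸ h5) hyl hy1
    (by rw [hU, map_pow, ← hT]; exact hpow1 k)
    (by rw [hU, ← map_pow, ← pow_mul, mul_comm, pow_mul, hsp1, one_pow, map_one])
    (fun h => hcT ?_) fun z => ?_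
  · obtain ⟨n, hn⟩ : ∃ n, (T ^ k) ^ n = T := exists_pow_eq_self_of_coprime
      (Nat.Coprime.coprime_dvd_right (orderOf_dvd_of_pow_eq_one hTp1)
        ((hpf.out.coprime_iff_not_dvd.2 hkp).symm))
    rw [← hn]
    rw [hU, map_pow, ← hT] at h
    exact ((show Commute (T ^ k) y from h).pow_left n).eq
  · have h := congrArg (C x * g).1 (hcube_m ((C x * g)⁻¹.1 z))
    rw [map_sub, map_add, map_sub, map_nsmul, map_nsmul, ← hUm, ← hUm, ← hUm, qApply_inv_self, map_zero] at h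
    exact h

end CfsgLib.Classical22.OrthField.PrimeDeg
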